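import Cfsg.Agent.Lib.Classical.OrthFrameMax.Escape

set_option autoImplicit false
set_option linter.unusedSectionVars false

/-!
When all related vectors are mirrors, the overgroup is monomial.
-/

namespace CfsgLib.Orth.FrameMax

open Matrix DecompMax

variable {F : Type*} [Field F] [Finite F] {ι : Type} [Fintype ι] [DecidableEq ι]
variable {Q : QuadraticForm F (ι → F)} {n : ℕ} {e : Fin n → ι → F} {a : F} {M : Subgroup (Grp Q)}

local notation "B" => QuadraticMap.polar (DFunLike.coe Q)

/-- An isometry negating exactly the coordinates in a set. -/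
def Sign (e : Fin n → ι → F) (a : F) (s : Grp Q) (S : Finset (Fin n)) : Prop :=
  ∀ x l, co Q e a l (ap s x) = (if l ∈ S then -1 else 1) * co Q e a l x

namespace Frame

variable (h : Frame Q e a)
include h

theorem sign_apply {s : Grp Q} {S : Finset (Fin n)} (hs : Sign e a s S) (l : Fin n) :
    ap s (e l) = (if l ∈ S then (-1 : F) else 1) • e l := by
  refine h.ext fun m => ?_
  rw [hs, co_smul, h.co_e]
  by_cases hm : m = l
  · subst hm; rfl
  · rw [if_neg hm, mul_zero, mul_zero]

theorem sign_cent {s g : Grp Q} {S : Finset (Fin n)} (hs : Sign e a s S) (hg : g * s = s * g) :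
    (∀ l ∈ S, supp Q e a (ap g (e l)) ⊆ S) ∧ ∀ l ∉ S, Disjoint (supp Q e a (ap g (e l))) S := by
  have hco : ∀ l m, (if m ∈ S then (-1 : F) else 1) * co Q e a m (ap g (e l)) =
      (if l ∈ S then (-1 : F) else 1) * co Q e a m (ap g (e l)) := fun l m => by
    rw [← hs, ← ap_mul, ← hg, ap_mul, h.sign_apply hs, ap_smul, co_smul]
  have hne : (1 : F) ≠ -1 := fun h1 => h.two (by linear_combination h1)
  constructor
  · intro l hl m hm
    by_contra hc
    have := hco l m
    rw [if_neg hc, if_pos hl] at this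
    exact hne (mul_right_cancel₀ (mem_supp.1 hm) this)
  · intro l hl
    rw [Finset.disjoint_left]
    intro m hm hc
    have := hco l m
    rw [if_pos hc, if_neg hl] at this
    exact hne (mul_right_cancel₀ (mem_supp.1 hm) this).symm

theorem sign_self {s : Grp Q} {S : Finset (Fin n)} (hs : Sign e a s S) : s * s = 1 :=
  ext_ap fun x => h.ext fun l => by rw [ap_mul, hs, hs, ap_one, ← mul_assoc]; split_ifs <;> ring

theorem pair_sign {i j : Fin n} (hij : i ≠ j) {r s : Grp Q} (hr : IsRefl (e i) r)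
    (hs : IsRefl (e j) s) : Sign e a (r * s) {i, j} := by
  intro x l
  have key : ∀ (m : Fin n) (t : Grp Q), IsRefl (e m) t → ∀ y : ι → F,
      co Q e a l (ap t y) = (if l = m then -1 else 1) * co Q e a l y := fun m t ht y => by
    rw [ht.2, co_sub, co_smul, h.co_e, h.q, h.b_co]
    have := h.a0
    split_ifs with h1
    · subst h1; field_simp; ring
    · ring
  rw [ap_mul, key i r hr, key j s hs]
  by_cases h1 : l = i
  · rw [if_pos h1, if_neg (h1 ▸ hij), if_pos (by simp [h1]), one_mul]
  · by_cases h2 : l = j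
    · rw [if_neg h1, if_pos h2, if_pos (by simp [h2]), one_mul]
    · rw [if_neg h1, if_neg h2, if_neg (by simp [h1, h2]), one_mul, one_mul]

omit h in
theorem sign_mul {s t : Grp Q} {S T : Finset (Fin n)} (hs : Sign e a s S) (ht : Sign e a t T)
    (hST : Disjoint S T) : Sign e a (s * t) (S ∪ T) := by
  intro x l
  rw [ap_mul, hs, ht, ← mul_assoc]
  by_cases h1 : l ∈ S
  · rw [if_pos h1, if_neg (Finset.disjoint_left.1 hST h1), if_pos (Finset.mem_union_left _ h1), mul_one]
  · by_cases h2 : l ∈ T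
    · rw [if_neg h1, if_pos h2, if_pos (Finset.mem_union_right _ h2), one_mul]
    · rw [if_neg h1, if_neg h2, if_neg (by simp [h1, h2]), one_mul]

/-- A pair of reflections is not conjugate to a larger sign change. -/
theorem not_conj {x y : ι → F} {r₁ r₂ s : Grp Q} (hr : IsRefl x r₁) (hr' : IsRefl y r₂)
    (hxy : B x y = 0) {S : Finset (Fin n)} (hs : Sign e a s S) (hS : 3 ≤ S.card) :
    ¬ IsConj (r₁ * r₂) s := by
  classical
  intro hc
  obtain ⟨c, hc⟩ := isConj_iff.1 hc
  have hin : ∀ l ∈ S, ap c⁻¹ (e l) ∈ Submodule.span F ({x, y} : Set (ι → F)) := fun l hl => by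
    refine (pair_plane_apply hr hr' hxy).2.2 _ ?_ h.two
    rw [show r₁ * r₂ = c⁻¹ * s * c by rw [← hc]; group, ap_mul, ap_mul, ap_ap_inv, h.sign_apply hs,
      if_pos hl, ap_smul, neg_one_smul]
  have hli : LinearIndependent F fun l : S => ap c⁻¹ (e l) := by
    rw [Fintype.linearIndependent_iff]
    intro g hg d
    have hb := congrArg (fun z => B (ap c⁻¹ (e d)) z) hg
    simp only [b_zero_right] at hb
    rw [← QuadraticMap.polarBilin_apply_apply, map_sum, Finset.sum_eq_single d (fun d' _ hd' => by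
      rw [map_smul, QuadraticMap.polarBilin_apply_apply, ap_b, h.orth _ _
        (fun e0 => hd' (Subtype.ext e0.symm)), smul_zero]) (fun hd => absurd (Finset.mem_univ d) hd),
      map_smul, QuadraticMap.polarBilin_apply_apply, b_self, ap_q, h.q, smul_eq_mul] at hb
    exact (mul_eq_zero.1 hb).resolve_right h.two_a
  have h1 := finrank_span_eq_card hli
  have h2 : Submodule.span F (Set.range fun l : S => ap c⁻¹ (e l)) ≤
      Submodule.span F ({x, y} : Set (ι → F)) := by
    rw [Submodule.span_le]; rintro _ ⟨l, rfl⟩; exact hin l l.2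
  have h3 := Submodule.finrank_mono h2
  have h4 := finrank_span_finset_le_card (R := F) ({x, y} : Finset (ι → F))
  rw [Finset.coe_insert, Finset.coe_singleton] at h4
  rw [h1, Fintype.card_coe] at h3
  unfold Set.finrank at h4
  have := h4.trans Finset.card_le_two
  omega

/-- A vector in the span of a plane and some members of the frame. -/
theorem mem_span_split {x y q : ι → F} {S : Finset (Fin n)}
    (hq : q ∈ Submodule.span F (({x, y} : Set (ι → F)) ∪ e '' (S : Set (Fin n)))) :
    ∃ v ∈ Submodule.span F ({x, y} : Set (ι → F)), ∀ l ∉ S, co Q e a l v = co Q e a l q := by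
  rw [Submodule.span_union, Submodule.mem_sup] at hq
  obtain ⟨v, hv, w, hw, rfl⟩ := hq
  refine ⟨v, hv, fun l hl => ?_⟩
  rw [co_add, left_eq_add]
  clear hv
  induction hw using Submodule.span_induction with
  | mem z hz =>
    obtain ⟨i, hi, rfl⟩ := hz
    exact h.co_ne fun e0 => hl (e0 ▸ hi)
  | zero => exact co_zero l
  | add p r _ _ hp hr => rw [co_add, hp, hr, add_zero]
  | smul c p _ hp => rw [co_smul, hp, mul_zero]

theorem supp_disp {g : Grp Q} {S : Finset (Fin n)} (hfix : ∀ l ∉ S, ap g (e l) = e l) (v : ι → F) :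
    supp Q e a (ap g v - v) ⊆ S := by
  intro l hl
  by_contra hc
  refine mem_supp.1 hl ?_
  have hb := ap_b g (e l) v
  rw [hfix l hc, h.b_co, h.b_co] at hb
  rw [co_sub, mul_left_cancel₀ h.two_a hb, sub_self]

end Frame

theorem sub_ap_mem_plane {x y : ι → F} {r₁ r₂ : Grp Q} (hr : IsRefl x r₁) (hr' : IsRefl y r₂)
    (q : ι → F) : q - ap (r₁ * r₂) q ∈ Submodule.span F ({x, y} : Set (ι → F)) := by
  rw [ap_mul, hr'.2, hr.2]
  have key : ∀ α β : F, q - (q - β • y - α • x) ∈ Submodule.span F ({x, y} : Set (ι → F)) :=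
    fun α β => by
      rw [show q - (q - β • y - α • x) = β • y + α • x by abel]
      exact add_mem (Submodule.smul_mem _ _ (Submodule.subset_span (by simp)))
        (Submodule.smul_mem _ _ (Submodule.subset_span (by simp)))
  exact key _ _

theorem pow_fix {u : Grp Q} {v : ι → F} (hu : ap u v = v) : ∀ k : ℕ, ap (u ^ k) v = v := fun k => by
  induction k with
  | zero => rw [pow_zero, ap_one]
  | succ k ih => rw [pow_succ', ap_mul, ih, hu]

namespace Over

variable (h : Over Q e a M)
include h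

theorem exists_sign_pair {i j : Fin n} (hij : i ≠ j) : ∃ s ∈ M, Sign e a s {i, j} := by
  obtain ⟨r, hr⟩ := exists_refl h.nd (v := e i) (by rw [h.q]; exact h.a0)
  obtain ⟨s, hs⟩ := exists_refl h.nd (v := e j) (by rw [h.q]; exact h.a0)
  exact ⟨r * s, (h.rel _ _ (Frame.mir_e i) (Frame.mir_e j) hr.1 hs.1 ⟨a, by rw [h.q, h.q]⟩).2.2 r s hr hs,
    h.pair_sign hij hr hs⟩

variable (hall : AllMir M e a)
include hall

/-- The first small vector in a plane. -/
theorem step_four {x y : ι → F} {r₁ r₂ : Grp Q} (hr : IsRefl x r₁) (hr' : IsRefl y r₂)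
    (hxy : B x y = 0) (hM : r₁ * r₂ ∈ M) :
    Mono e (r₁ * r₂) ∨
      (∃ v ∈ Submodule.span F ({x, y} : Set (ι → F)), v ≠ 0 ∧ (supp Q e a v).card ≤ 6) ∨
      ∃ i j c σ, i ≠ j ∧ c ≠ (0 : F) ∧ σ * σ = (1 : F) ∧
        ap (r₁ * r₂) (c • (e i + σ • e j)) = c • (e i + σ • e j) := by
  classical
  have hn := h.nine
  obtain ⟨S, -, hS⟩ := Finset.exists_subset_card_eq (show 4 ≤ (Finset.univ : Finset (Fin n)).card by
    rw [Finset.card_univ, Fintype.card_fin]; omega)
  obtain ⟨i, j, k, l, hij, hik, hil, hjk, hjl, hkl, hSe⟩ := Finset.card_eq_four.1 hS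
  obtain ⟨s₁, hs₁, hs₁'⟩ := h.exists_sign_pair hij
  obtain ⟨s₂, hs₂, hs₂'⟩ := h.exists_sign_pair hkl
  have hs : Sign e a (s₁ * s₂) S := by
    have := Frame.sign_mul hs₁' hs₂' (by simp [hik.symm, hil.symm, hjk.symm, hjl.symm])
    have he : ({i, j} ∪ {k, l} : Finset (Fin n)) = S := by
      rw [hSe]; ext m; simp only [Finset.mem_union, Finset.mem_insert, Finset.mem_singleton, or_assoc]
    rwa [he] at this
  have hsM := M.mul_mem hs₁ hs₂
  obtain ⟨s, hsdef⟩ : ∃ s, s = s₁ * s₂ := ⟨_, rfl⟩
  rw [← hsdef] at hs hsM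
  obtain ⟨t, htdef⟩ : ∃ t, t = r₁ * r₂ := ⟨_, rfl⟩
  have htM : t ∈ M := htdef ▸ hM
  have ht : t * t = 1 := by
    rw [htdef]
    refine ext_ap fun v => ?_
    have hcomm : ap r₁ (ap r₂ v) = ap r₂ (ap r₁ v) := by
      rw [hr.2, hr'.2, hr'.2, hr.2, b_sub_right, b_sub_right, b_smul_right, b_smul_right, hxy,
        b_comm y x, hxy]
      simp only [mul_zero, sub_zero]
      abel
    rw [ap_mul, ap_mul, ap_mul, hcomm, ← ap_mul r₂ r₂, refl_mul_self hr', ap_one, ← ap_mul, refl_mul_self hr]
  obtain ⟨m, -, hz1, hzt, hzs⟩ := exists_central ht (h.sign_self hs)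
    (htdef ▸ h.not_conj hr hr' hxy hs (by omega))
  obtain ⟨z, hz⟩ : ∃ z, z = (t * s) ^ m := ⟨_, rfl⟩
  rw [← hz] at hz1 hzt hzs
  have hzM : z ∈ M := hz ▸ pow_mem (M.mul_mem htM hsM) m
  obtain ⟨hin, hout⟩ := h.sign_cent hs hzs.symm
  have hzm : Mono e z := h.cent_sign hall hzM (Finset.card_pos.1 (by omega)) (by omega) (by omega) hin hout
  have hspan : ∀ v, ap z v - v ∈ Submodule.span F (({x, y} : Set (ι → F)) ∪ e '' (S : Set (Fin n))) := by
    refine disp_mem_span h.nd fun v hv => ?_
    have hsv : ap s v = v := h.ext fun o => by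
      rw [hs]
      split_ifs with ho
      · have := hv (e o) (Or.inr ⟨o, ho, rfl⟩)
        rw [h.b_co] at this
        rw [(mul_eq_zero.1 this).resolve_left h.two_a, mul_zero]
      · rw [one_mul]
    have h1 : ap (t * s) v = v := by
      rw [ap_mul, hsv, htdef, refl_mul_apply_perp hr hr' (hv x (Or.inl (by simp))) (hv y (Or.inl (by simp)))]
    rw [hz]; exact pow_fix h1 m
  by_cases hout' : ∀ o ∉ S, ap z (e o) = e o
  · obtain ⟨o, ho⟩ := h.exists_moved hz1
    obtain ⟨hmir, hco⟩ := h.exists_mir_disp hzm ho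
    set q := ap z (e o) - e o with hqdef
    have hqS : supp Q e a q ⊆ S := h.supp_disp hout' (e o)
    have htq : ap t q = ap z (ap t (e o)) - ap t (e o) := by
      rw [hqdef, ap_sub, ← ap_mul, hzt, ap_mul]
    by_cases hfix : ap t q = q
    swap
    · refine Or.inr (Or.inl ⟨q - ap t q, htdef ▸ sub_ap_mem_plane hr hr' q,
        sub_ne_zero.2 fun e0 => hfix e0.symm, ?_⟩)
      refine (Finset.card_le_card (fun w hw => ?_)).trans (show S.card ≤ 6 by omega)
      by_contra hc
      refine mem_supp.1 hw ?_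
      have hqt : supp Q e a (ap t q) ⊆ S := htq ▸ h.supp_disp hout' _
      rw [co_sub, notMem_supp.1 fun h1 => hc (hqS h1), notMem_supp.1 fun h1 => hc (hqt h1), sub_zero]
    have hq0 : q ≠ 0 := fun e0 => hco (by rw [e0, co_zero])
    rcases hmir with ⟨i', c, hc⟩ | ⟨i', j', hij', c, σ, hσ, hc⟩
    · refine Or.inl (h.mono_of_axis hall hM (i := i') ⟨i', 1, ?_⟩)
      rw [hc, ap_smul] at hfix
      have hc0 : c ≠ 0 := fun e0 => hq0 (by rw [hc, e0, zero_smul])
      rw [one_smul, ← htdef]
      exact smul_right_injective _ hc0 hfix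
    · refine Or.inr (Or.inr ⟨i', j', c, σ, hij', fun e0 => hq0 (by rw [hc, e0, zero_smul]), hσ, ?_⟩)
      rw [← hc, ← htdef]
      exact hfix
  · push Not at hout'
    obtain ⟨o, hoS, ho⟩ := hout'
    obtain ⟨hmir, hco⟩ := h.exists_mir_disp hzm ho
    obtain ⟨v, hv, hvq⟩ := h.mem_span_split (hspan (e o))
    refine Or.inr (Or.inl ⟨v, hv, fun e0 => hco ?_, ?_⟩)
    · rw [← hvq o hoS, e0, co_zero]
    · refine (Finset.card_le_card (show supp Q e a v ⊆ S ∪ supp Q e a (ap z (e o) - e o) from
        fun w hw => ?_)).trans ((Finset.card_union_le _ _).trans ?_)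
      · rw [Finset.mem_union]
        by_cases hwS : w ∈ S
        · exact Or.inl hwS
        · exact Or.inr (mem_supp.2 (hvq w hwS ▸ mem_supp.1 hw))
      · have := h.mir_card hmir
        omega

/-- A small vector in the plane which meets the complement of a chosen pair. -/
theorem step_two {x y : ι → F} {r₁ r₂ : Grp Q} (hr : IsRefl x r₁) (hr' : IsRefl y r₂)
    (hxy : B x y = 0) (hM : r₁ * r₂ ∈ M) {i j : Fin n} (hij : i ≠ j) {y₀ : ι → F} (hy₀ : y₀ ≠ 0)
    (hy : (ap (r₁ * r₂) y₀ = y₀ ∧ supp Q e a y₀ ⊆ {i, j}) ∨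
      (ap (r₁ * r₂) y₀ = -y₀ ∧ Disjoint (supp Q e a y₀) {i, j})) :
    Mono e (r₁ * r₂) ∨ ∃ z q o, Mono e z ∧ z * (r₁ * r₂) = r₁ * r₂ * z ∧ q = ap z (e o) - e o ∧
      o ∉ ({i, j} : Finset (Fin n)) ∧ Mir e q ∧ co Q e a o q ≠ 0 ∧
      Disjoint (supp Q e a q) {i, j} ∧ dickson h.nd z = 1 ∧
      (∀ l ∈ ({i, j} : Finset (Fin n)), supp Q e a (ap z (e l)) ⊆ {i, j}) ∧
      (∀ l ∉ ({i, j} : Finset (Fin n)), Disjoint (supp Q e a (ap z (e l))) {i, j}) ∧
      (∀ v, ap z v - v ∈ Submodule.span F (({x, y} : Set (ι → F)) ∪ e '' (({i, j} : Finset (Fin n)) : Set (Fin n)))) := by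
  classical
  have hn := h.nine
  obtain ⟨s, hsM, hs⟩ := h.exists_sign_pair hij
  obtain ⟨ν, hνM, hν⟩ := h.neg
  have hs' : Sign e a (ν * s) (Finset.univ \ {i, j}) := fun v l => by
    rw [ap_mul, hν, ← neg_one_smul F (ap s v), co_smul, hs]
    by_cases hl : l ∈ ({i, j} : Finset (Fin n))
    · rw [if_pos hl, if_neg (by simp only [Finset.mem_sdiff, not_and, not_not]; exact fun _ => hl)]
      ring
    · rw [if_neg hl, if_pos (by simp only [Finset.mem_sdiff, Finset.mem_univ, true_and]; exact hl)]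
      ring
  obtain ⟨t, htdef⟩ : ∃ t, t = r₁ * r₂ := ⟨_, rfl⟩
  have htM : t ∈ M := htdef ▸ hM
  have hcomm' : ∀ v, ap r₁ (ap r₂ v) = ap r₂ (ap r₁ v) := fun v => by
    rw [hr.2, hr'.2, hr'.2, hr.2, b_sub_right, b_sub_right, b_smul_right, b_smul_right, hxy,
      b_comm y x, hxy]
    simp only [mul_zero, sub_zero]
    abel
  have ht : t * t = 1 := by
    rw [htdef]
    refine ext_ap fun v => ?_
    rw [ap_mul, ap_mul, ap_mul, hcomm' v, ← ap_mul r₂ r₂, refl_mul_self hr', ap_one, ← ap_mul, refl_mul_self hr]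
  have hνc : ∀ g : Grp Q, ν * g = g * ν := fun g => ext_ap fun v => by
    rw [ap_mul, ap_mul, hν, hν, ← neg_one_smul F (ap g v), ← ap_smul, neg_one_smul]
  have hν2 : ν * ν = 1 := ext_ap fun v => by rw [ap_mul, hν, hν, neg_neg, ap_one]
  obtain ⟨m, -, hz1, hzt, hzs⟩ := exists_central ht (h.sign_self hs')
    (htdef ▸ h.not_conj hr hr' hxy hs' (by
      rw [Finset.card_sdiff_of_subset (Finset.subset_univ _), Finset.card_univ, Fintype.card_fin,
        Finset.card_pair hij]
      omega))
  -- the sign makes the twisted product fix the given vector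
  have hfix : ap (t * (ν * s)) y₀ = y₀ := by
    rcases hy with ⟨h1, h2⟩ | ⟨h1, h2⟩
    · have hsy : ap s y₀ = -y₀ := h.ext fun l => by
        rw [hs, ← neg_one_smul F y₀, co_smul]
        by_cases hl : l ∈ ({i, j} : Finset (Fin n))
        · rw [if_pos hl]
        · rw [if_neg hl, notMem_supp.1 fun h3 => hl (h2 h3), mul_zero, mul_zero]
      rw [ap_mul, ap_mul, hν, hsy, neg_neg, htdef, h1]
    · have hsy : ap s y₀ = y₀ := h.ext fun l => by
        rw [hs]
        by_cases hl : l ∈ ({i, j} : Finset (Fin n))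
        · rw [notMem_supp.1 (Finset.disjoint_right.1 h2 hl), mul_zero]
        · rw [if_neg hl, one_mul]
      rw [ap_mul, ap_mul, hν, hsy, htdef, ← neg_one_smul F y₀, ap_smul, h1, neg_one_smul, neg_neg]
  have hzy := pow_fix hfix m
  have hpow : (t * (ν * s)) ^ m = ν ^ m * (t * s) ^ m := by
    rw [← mul_assoc, ← hνc t, mul_assoc, (show Commute ν (t * s) from hνc _).mul_pow]
  obtain ⟨z, hz⟩ : ∃ z, z = (t * s) ^ m := ⟨_, rfl⟩
  rw [hpow, ← hz] at hz1 hzt hzs hzy
  have hνm : ν ^ m = 1 ∨ ν ^ m = ν := by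
    rcases Nat.even_or_odd m with ⟨k, rfl⟩ | ⟨k, rfl⟩
    · exact Or.inl (by rw [← two_mul, pow_mul, pow_two, hν2, one_pow])
    · exact Or.inr (by rw [pow_succ, pow_mul, pow_two, hν2, one_pow, one_mul])
  have hz1' : z ≠ 1 := by
    intro e0
    rw [e0, mul_one] at hz1 hzy
    rcases hνm with h1 | h1
    · exact hz1 h1
    · rw [h1, hν, neg_eq_iff_add_eq_zero, ← two_smul F, smul_eq_zero] at hzy
      exact hy₀ (hzy.resolve_left h.two)
  have hcz : t * z = z * t ∧ s * z = z * s := by
    have hνp : ∀ g : Grp Q, ν ^ m * g = g * ν ^ m := fun g => (Commute.pow_left (show Commute ν g from hνc g) m).eq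
    have hdown : ∀ g : Grp Q, g * (ν ^ m * z) = ν ^ m * z * g → g * z = z * g := fun g hg => by
      refine mul_left_cancel (a := ν ^ m) ?_
      rw [← mul_assoc, hνp g, mul_assoc, hg, mul_assoc]
    refine ⟨hdown t hzt, ?_⟩
    have h1 := hdown _ hzs
    refine mul_left_cancel (a := ν) ?_
    rw [← mul_assoc, h1, ← mul_assoc, ← mul_assoc, hνc z]
  have hzM : z ∈ M := hz ▸ pow_mem (M.mul_mem htM hsM) m
  obtain ⟨hin, hout⟩ := h.sign_cent hs hcz.2.symm
  have hzm : Mono e z := h.cent_sign hall hzM ⟨i, by simp⟩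
    (Finset.card_le_two.trans (by norm_num)) (by have := Finset.card_pair hij; omega) hin hout
  have hspan : ∀ v, ap z v - v ∈
      Submodule.span F (({x, y} : Set (ι → F)) ∪ e '' (({i, j} : Finset (Fin n)) : Set (Fin n))) := by
    refine disp_mem_span h.nd fun v hv => ?_
    have hsv : ap s v = v := h.ext fun o => by
      rw [hs]
      split_ifs with ho
      · have := hv (e o) (Or.inr ⟨o, ho, rfl⟩)
        rw [h.b_co] at this
        rw [(mul_eq_zero.1 this).resolve_left h.two_a, mul_zero]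
      · rw [one_mul]
    have h1 : ap (t * s) v = v := by
      rw [ap_mul, hsv, htdef, refl_mul_apply_perp hr hr' (hv x (Or.inl (by simp))) (hv y (Or.inl (by simp)))]
    rw [hz]; exact pow_fix h1 m
  have hdick : dickson h.nd z = 1 := by
    obtain ⟨ri, hri⟩ := exists_refl h.nd (v := e i) (by rw [h.q]; exact h.a0)
    obtain ⟨rj, hrj⟩ := exists_refl h.nd (v := e j) (by rw [h.q]; exact h.a0)
    have hse : s = ri * rj := ext_ap fun v => h.ext fun l => by
      rw [hs, h.pair_sign hij hri hrj]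
    rw [hz, map_pow, map_mul, htdef, hse, map_mul, map_mul, dickson_refl h.nd hr,
      dickson_refl h.nd hr', dickson_refl h.nd hri, dickson_refl h.nd hrj]
    simp
  by_cases hout' : ∀ o ∉ ({i, j} : Finset (Fin n)), ap z (e o) = e o
  · left
    have hle : orth Q (Submodule.span F (e '' (({i, j} : Finset (Fin n)) : Set (Fin n)))) ≤ fixSpace z := by
      intro v hv
      rw [mem_orth_span] at hv
      rw [mem_fixSpace]
      refine h.ext fun l => ?_
      by_cases hl : l ∈ ({i, j} : Finset (Fin n))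
      swap
      · exact sub_eq_zero.1 (by
          rw [← co_sub]
          exact notMem_supp.1 fun h1 => hl (h.supp_disp hout' v h1))
      · have h0 : ∀ o ∈ ({i, j} : Finset (Fin n)), co Q e a o v = 0 := fun o ho => by
          have := hv (e o) ⟨o, ho, rfl⟩
          rw [h.b_co] at this
          exact (mul_eq_zero.1 this).resolve_left h.two_a
        rw [h0 l hl]
        conv_lhs => rw [← h.sum_co v]
        rw [show ap z (∑ m, co Q e a m v • e m) = ∑ m, co Q e a m v • ap z (e m) by
          have hlin : ∀ w : ι → F, ap z w = Matrix.mulVecLin ((z : GL ι F) : Matrix ι ι F) w :=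
            fun _ => rfl
          simp only [hlin, map_sum, map_smul], co_sum]
        refine Finset.sum_eq_zero fun o _ => ?_
        rw [co_smul]
        by_cases ho : o ∈ ({i, j} : Finset (Fin n))
        · rw [h0 o ho, zero_mul]
        · rw [notMem_supp.1 (Finset.disjoint_right.1 (hout o ho) hl), mul_zero]
    have hW : Module.finrank F (Submodule.span F (e '' (({i, j} : Finset (Fin n)) : Set (Fin n)))) ≤ 2 := by
      have h4 := finrank_span_finset_le_card (R := F) (({i, j} : Finset (Fin n)).image e)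
      rw [Finset.coe_image] at h4
      exact h4.trans (Finset.card_image_le.trans Finset.card_le_two)
    have hfr := finrank_orth h.nd (Submodule.span F (e '' (({i, j} : Finset (Fin n)) : Set (Fin n))))
    have hne : fixSpace z ≠ ⊤ := fun e0 => hz1' (ext_ap fun v => by
      rw [ap_one]; exact mem_fixSpace.1 (e0 ▸ Submodule.mem_top))
    have hlt : Module.finrank F (fixSpace z) < Module.finrank F (ι → F) := Submodule.finrank_lt hne
    have hev : Even (Module.finrank F (ι → F) + Module.finrank F (fixSpace z)) := by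
      have : (-1 : ℤˣ) ^ (Module.finrank F (ι → F) + Module.finrank F (fixSpace z)) = 1 := hdick
      rcases Nat.even_or_odd (Module.finrank F (ι → F) + Module.finrank F (fixSpace z)) with h1 | h1
      · exact h1
      · rw [h1.neg_one_pow] at this
        exact absurd this (by decide)
    have heq := Submodule.eq_of_le_of_finrank_le hle (by
      have := Submodule.finrank_mono hle
      rw [Nat.even_iff] at hev
      omega)
    refine htdef ▸ ?_
    have hto : ∀ o ∉ ({i, j} : Finset (Fin n)), ∀ l ∈ ({i, j} : Finset (Fin n)),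
        co Q e a l (ap t (e o)) = 0 := by
      intro o ho l hl
      have h1 : ap t (e o) ∈ fixSpace z := by
        rw [mem_fixSpace, ← ap_mul, ← hcz.1, ap_mul, hout' o ho]
      rw [← heq, mem_orth_span] at h1
      have := h1 (e l) ⟨l, hl, rfl⟩
      rw [h.b_co] at this
      exact (mul_eq_zero.1 this).resolve_left h.two_a
    refine h.cent_sign hall (S := {i, j}) htM ⟨i, by simp⟩ (Finset.card_le_two.trans (by norm_num))
      (by have := Finset.card_pair hij; omega) (fun l hl m hm => ?_)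
      (fun l hl => Finset.disjoint_left.2 fun m hm hmE => mem_supp.1 hm (hto l hl m hmE))
    by_contra hc
    refine mem_supp.1 hm ?_
    have h2 := hto m hc l hl
    have ht' : ap t (ap t (e l)) = e l := by rw [← ap_mul, ht, ap_one]
    have hb2 := ap_b t (e m) (ap t (e l))
    rw [ht', h.b_co, b_comm, h.b_co, h2, mul_zero] at hb2
    exact (mul_eq_zero.1 hb2.symm).resolve_left h.two_a
  · push Not at hout'
    obtain ⟨o, hoE, ho⟩ := hout'
    obtain ⟨hmir, hco⟩ := h.exists_mir_disp hzm ho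
    refine Or.inr ⟨z, _, o, hzm, ?_, rfl, hoE, hmir, hco, ?_, hdick, hin, hout, hspan⟩
    · rw [← htdef]; exact hcz.1.symm
    · rw [Finset.disjoint_right]
      intro w hw
      rw [notMem_supp, co_sub, notMem_supp.1 (Finset.disjoint_right.1 (hout o hoE) hw),
        h.co_ne fun e0 : w = o => hoE (e0 ▸ hw), sub_zero]

end Over

end CfsgLib.Orth.FrameMax
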