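import Cfsg.Agent.Lib.Classical.OrthFrameMax.Triple
import Cfsg.Agent.Lib.Classical.OrthDecompMax.Spread

set_option autoImplicit false
set_option linter.unusedSectionVars false

/-!
Over a prime field a related vector which is not a mirror makes every vector of the norm related.
-/

namespace CfsgLib.Orth.FrameMax

open Matrix DecompMax

variable {F : Type*} [Field F] [Finite F] {ι : Type} [Fintype ι] [DecidableEq ι]
variable {Q : QuadraticForm F (ι → F)} {n : ℕ} {e : Fin n → ι → F} {a : F} {M : Subgroup (Grp Q)}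

local notation "B" => QuadraticMap.polar (DFunLike.coe Q)

/-- A related vector on the coordinates which is not a mirror. -/
def WildIn (M : Subgroup (Grp Q)) (e : Fin n → ι → F) (a : F) (T : Finset (Fin n)) : Prop :=
  ∃ w, Wv M e a w ∧ supp Q e a w ⊆ T ∧ ¬ Mir e w

/-- Connected by an element of the group fixing the other coordinates. -/
def Reach (M : Subgroup (Grp Q)) (e : Fin n → ι → F) (T : Finset (Fin n)) (x y : ι → F) : Prop :=
  ∃ g ∈ M, (∀ c ∉ T, ap g (e c) = e c) ∧ ap g x = y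

theorem reach_refl (T : Finset (Fin n)) (x : ι → F) : Reach M e T x x :=
  ⟨1, one_mem _, fun _ _ => ap_one _, ap_one _⟩

theorem reach_symm {T : Finset (Fin n)} {x y : ι → F} (h : Reach M e T x y) : Reach M e T y x := by
  obtain ⟨g, hg, hc, hxy⟩ := h
  have key : ∀ z : ι → F, ap g⁻¹ (ap g z) = z := fun z => by rw [← ap_mul, inv_mul_cancel, ap_one]
  refine ⟨g⁻¹, inv_mem hg, fun c hcT => ?_, by rw [← hxy, key]⟩
  conv_lhs => rw [← hc c hcT]
  exact key _

theorem reach_trans {T : Finset (Fin n)} {x y z : ι → F} (h : Reach M e T x y) (h' : Reach M e T y z) :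
    Reach M e T x z := by
  obtain ⟨g, hg, hc, hxy⟩ := h
  obtain ⟨k, hk, hd, hyz⟩ := h'
  exact ⟨k * g, mul_mem hk hg, fun c hcT => by rw [ap_mul, hc c hcT, hd c hcT],
    by rw [ap_mul, hxy, hyz]⟩

theorem exists_ratio (h2 : (2 : F) ≠ 0) {c N l : F} (hc : c ≠ 0) (hN : N ≠ 0) (hl0 : l ≠ 0)
    (hl1 : l ≠ 1) (hl2 : l ≠ -1) :
    ∃ r r' : F, N - c * r * r ≠ 0 ∧ N - c * r' * r' = l * (N - c * r * r) := by
  classical
  cases nonempty_fintype F
  have hch : ringChar F ≠ 2 := fun e0 => h2 (by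
    have := CharP.cast_eq_zero F (ringChar F)
    rwa [e0, Nat.cast_ofNat] at this)
  obtain ⟨r', r, h0⟩ := FiniteField.exists_root_sum_quadratic
    (f := Polynomial.C c * Polynomial.X ^ 2 + Polynomial.C (-(N * (1 - l))))
    (g := Polynomial.C (-(l * c)) * Polynomial.X ^ 2)
    (by compute_degree!) (by compute_degree!) (FiniteField.odd_card_of_char_ne_two hch)
  simp only [Polynomial.eval_add, Polynomial.eval_mul, Polynomial.eval_C, Polynomial.eval_pow,
    Polynomial.eval_X] at h0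
  by_cases hr : N - c * r * r = 0
  · have hr0 : r ≠ 0 := fun e0 => hN (by rw [e0] at hr; linear_combination hr)
    have h1l : (1 - l : F) ≠ 0 := sub_ne_zero.2 hl1.symm
    have h1p : (1 + l : F) ≠ 0 := fun e0 => hl2 (by linear_combination e0)
    obtain ⟨d, hd⟩ : ∃ d, d * (1 - l) = 2 * r * (1 + l) :=
      ⟨2 * r * (1 + l) / (1 - l), div_mul_cancel₀ _ h1l⟩
    have hd0 : d ≠ 0 := fun e0 => by
      rw [e0, zero_mul] at hd
      exact mul_ne_zero (mul_ne_zero h2 hr0) h1p hd.symm
    have hd2 : d + 2 * r ≠ 0 := fun e0 => by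
      refine mul_ne_zero (mul_ne_zero h2 h2) hr0 ?_
      linear_combination (1 - l) * e0 - hd
    refine ⟨r + d, r - d, fun e0 => mul_ne_zero (mul_ne_zero hc hd0) hd2 ?_, ?_⟩
    · linear_combination hr - e0
    · linear_combination (-(c * d)) * hd + (1 - l) * hr
  · exact ⟨r, r', hr, by linear_combination -h0⟩

namespace Frame

variable (h : Frame Q e a)
include h

/-- The part of a vector on some coordinates. -/
theorem co_part (T : Finset (Fin n)) (x : ι → F) (l : Fin n) :
    co Q e a l (∑ m ∈ T, co Q e a m x • e m) = if l ∈ T then co Q e a l x else 0 := by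
  rw [co_sum]
  simp only [co_smul, h.co_e, mul_ite, mul_one, mul_zero, Finset.sum_ite_eq]

theorem supp_part (T : Finset (Fin n)) (x : ι → F) :
    supp Q e a (∑ m ∈ T, co Q e a m x • e m) ⊆ T := fun l hl => by
  by_contra hc
  exact mem_supp.1 hl (by rw [h.co_part, if_neg hc])

theorem q_part (T : Finset (Fin n)) (x : ι → F) :
    Q (∑ m ∈ T, co Q e a m x • e m) = a * ∑ m ∈ T, co Q e a m x * co Q e a m x := by
  classical
  rw [h.q_eq]
  simp only [h.co_part, ite_mul, zero_mul, mul_ite, mul_zero]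
  congr 1
  rw [← Finset.sum_subset (Finset.subset_univ T) (fun l _ hl => if_neg hl)]
  exact Finset.sum_congr rfl fun l hl => by rw [if_pos hl, if_pos hl]

theorem sum_split (T : Finset (Fin n)) (x : ι → F) :
    x = ∑ m ∈ T, co Q e a m x • e m + ∑ m ∈ Tᶜ, co Q e a m x • e m := by
  rw [Finset.sum_add_sum_compl, h.sum_co]

theorem sum_sq_sub {T : Finset (Fin n)} {x : ι → F} (hx : supp Q e a x ⊆ T) (hq : Q x = a) :
    ∑ m ∈ T, co Q e a m x * co Q e a m x = 1 := by
  have h1 := h.q_eq_supp x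
  rw [hq, Finset.sum_subset hx (fun l _ hl => by rw [notMem_supp.1 hl, mul_zero])] at h1
  exact mul_left_cancel₀ h.a0 (by rw [mul_one, ← h1])

end Frame

namespace Over

variable (h : Over Q e a M)
include h

theorem mir_iff (x : ι → F) : Mir e x ↔ (supp Q e a x).card ≤ 2 ∧ ∀ i ∈ supp Q e a x,
    ∀ j ∈ supp Q e a x, co Q e a i x * co Q e a i x = co Q e a j x * co Q e a j x := by
  refine ⟨fun hx => ⟨h.mir_card hx, fun i hi j hj => h.mir_sq hx hi hj⟩, fun ⟨hc, hs⟩ => ?_⟩
  rcases Nat.lt_or_ge (supp Q e a x).card 2 with h1 | h1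
  · exact Or.inl (h.axis_of_supp (by omega) ⟨0, by have := h.nine; omega⟩)
  · obtain ⟨i, j, hij, he⟩ := Finset.card_eq_two.1 (le_antisymm hc h1)
    have hi : i ∈ supp Q e a x := by rw [he]; simp
    have hj : j ∈ supp Q e a x := by rw [he]; simp
    exact h.mir_of_two hij he.le (mem_supp.1 hi) (hs i hi j hj)

theorem wild_move {T : Finset (Fin n)} (hT : T.card + 3 ≤ n) (hw : WildIn M e a T) {s o : Fin n}
    (hs : s ∈ T) (ho : o ∉ T) : WildIn M e a (insert o (T.erase s)) := by
  classical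
  obtain ⟨w, hw, hwT, hwm⟩ := hw
  have how : o ∉ supp Q e a w := fun h1 => ho (hwT h1)
  obtain ⟨y, hy, hys, hyo, hyl⟩ := h.exists_moved_vec hw (notMem_supp.1 how)
    (show s ≠ o from fun e0 => ho (e0 ▸ hs))
    (by have := Finset.card_le_card (Finset.insert_subset hs hwT); omega)
  refine ⟨y, hy, fun m hm => ?_, fun hym => hwm ?_⟩
  · rw [Finset.mem_insert, Finset.mem_erase]
    by_cases hmo : m = o
    · exact Or.inl hmo
    have hms : m ≠ s := fun e0 => mem_supp.1 hm (e0 ▸ hys)
    exact Or.inr ⟨hms, hwT (mem_supp.2 (by rw [← hyl m hms hmo]; exact mem_supp.1 hm))⟩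
  · rw [h.mir_iff] at hym ⊢
    let φ : Fin n → Fin n := fun m => if m = s then o else m
    have hmap : ∀ m ∈ supp Q e a w, φ m ∈ supp Q e a y ∧
        co Q e a (φ m) y * co Q e a (φ m) y = co Q e a m w * co Q e a m w := fun m hm => by
      by_cases hms : m = s
      · rw [show φ m = o from if_pos hms]
        refine ⟨mem_supp.2 ?_, by rw [hyo, hms]; ring⟩
        rw [hyo, neg_ne_zero, ← hms]
        exact mem_supp.1 hm
      · rw [show φ m = m from if_neg hms, mem_supp, hyl m hms (fun e0 => how (e0 ▸ hm))]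
        exact ⟨mem_supp.1 hm, rfl⟩
    refine ⟨le_trans (Finset.card_le_card_of_injOn φ (fun m hm => (hmap m hm).1) ?_) hym.1,
      fun i hi j hj => ?_⟩
    · intro m hm m' hm' e0
      simp only [φ] at e0
      split_ifs at e0 with h1 h2 h3
      · rw [h1, h2]
      · exact absurd (Finset.mem_coe.1 hm') (e0 ▸ how)
      · exact absurd (Finset.mem_coe.1 hm) (e0 ▸ how)
      · exact e0
    · rw [← (hmap i hi).2, ← (hmap j hj).2]
      exact hym.2 _ (hmap i hi).1 _ (hmap j hj).1

theorem wild_all {T T' : Finset (Fin n)} (hT : T.card + 3 ≤ n) (hTT : T'.card = T.card)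
    (hw : WildIn M e a T) : WildIn M e a T' := by
  classical
  induction hk : (T' \ T).card generalizing T with
  | zero =>
    rw [Finset.card_eq_zero, Finset.sdiff_eq_empty_iff_subset] at hk
    rwa [Finset.eq_of_subset_of_card_le hk hTT.ge]
  | succ k ih =>
    obtain ⟨o, ho⟩ := Finset.card_pos.1 (show 0 < (T' \ T).card by omega)
    obtain ⟨s, hs⟩ := Finset.card_pos.1 (show 0 < (T \ T').card by
      rw [← Finset.card_sdiff_comm hTT]; omega)
    rw [Finset.mem_sdiff] at ho hs
    have hc : (insert o (T.erase s)).card = T.card := by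
      rw [Finset.card_insert_of_notMem (fun h1 => ho.2 (Finset.mem_of_mem_erase h1)),
        Finset.card_erase_of_mem hs.1]
      have := Finset.card_pos.2 ⟨s, hs.1⟩
      omega
    refine ih (by omega) (by omega) (h.wild_move hT hw hs.1 ho.2) ?_
    have hset : T' \ insert o (T.erase s) = (T' \ T).erase o := by
      ext m
      simp only [Finset.mem_sdiff, Finset.mem_insert, Finset.mem_erase]
      constructor
      · rintro ⟨h1, h2⟩
        exact ⟨fun e0 => h2 (Or.inl e0), h1, fun h3 => h2 (Or.inr ⟨fun e0 => hs.2 (e0 ▸ h1), h3⟩)⟩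
      · rintro ⟨h0, h1, h2⟩
        exact ⟨h1, fun h3 => h3.elim h0 fun h4 => h2 h4.2⟩
    rw [hset, Finset.card_erase_of_mem (Finset.mem_sdiff.2 ho)]
    omega

/-- The unipotent element of a wild triple. -/
theorem unip_data {p : ℕ} [Fact p.Prime] [CharP F p] (hF : ∀ x : F, ∃ k : ℕ, (k : F) = x)
    {T : Finset (Fin n)} (hT : T.card = 3) (hw : WildIn M e a T) :
    ∃ u ∈ M, ∃ v w : ι → F, v ≠ 0 ∧ Q v = 0 ∧ supp Q e a v ⊆ T ∧ supp Q e a w ⊆ T ∧
      B v w = 0 ∧ Q w ≠ 0 ∧ (∀ c ∉ T, ap u (e c) = e c) ∧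
      (∀ x y, supp Q e a x ⊆ T → supp Q e a y ⊆ T → Q x = Q y → B v x = B v y → B v x ≠ 0 →
        ∃ k : ℕ, ap (u ^ k) x = y) ∧
      ∀ x, supp Q e a x ⊆ T → B v x = 0 → Q x ≠ 0 → ∃ c ≠ (0 : F), ap u x = x + c • v := by
  classical
  obtain ⟨w₀, hw₀, hw₀T, hw₀m⟩ := hw
  obtain ⟨u, huM, hu, hu1, hup⟩ := h.exists_unip (p := p) hT hw₀ hw₀T hw₀m
  obtain ⟨hout, hin⟩ := h.gam_spec hu.1
  have hP : ∀ x ∈ tsp e T, ap u x ∈ tsp e T := fun x hx =>
    h.mem_tsp.2 (hin x (h.mem_tsp.1 hx))
  obtain ⟨l, hl, m, hm, hlm⟩ := Finset.one_lt_card.1 (show 1 < T.card by omega)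
  have hmem : ∀ i ∈ T, e i ∈ tsp e T := fun i hi => Submodule.subset_span ⟨i, hi, rfl⟩
  obtain ⟨v, hvT, hv0, hgv⟩ := exists_fixed_of_pow hup _ hP (hmem l hl) (h.e_ne l)
  have hQv : Q v = 0 := by
    by_contra hQ
    obtain ⟨z, hz0, hzT, hzv⟩ : ∃ z, z ≠ 0 ∧ z ∈ tsp e T ∧ B v z = 0 := by
      have key : ∀ i ∈ T, e i - (B v (e i) / (2 * Q v)) • v ∈ tsp e T ∧
          B v (e i - (B v (e i) / (2 * Q v)) • v) = 0 := fun i hi =>
        ⟨sub_mem (hmem i hi) (Submodule.smul_mem _ _ hvT), by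
          rw [b_sub_right, b_smul_right, b_self, div_mul_cancel₀ _ (mul_ne_zero h.two hQ), sub_self]⟩
      by_cases e1 : e l - (B v (e l) / (2 * Q v)) • v = 0
      · by_cases e2 : e m - (B v (e m) / (2 * Q v)) • v = 0
        · exfalso
          have h0 := h.orth l m hlm
          rw [sub_eq_zero.1 e1, sub_eq_zero.1 e2, b_smul_left, b_smul_right, b_self] at h0
          rcases mul_eq_zero.1 h0 with h1 | h1
          · exact h.e_ne l (by rw [sub_eq_zero.1 e1, h1, zero_smul])
          rcases mul_eq_zero.1 h1 with h2 | h2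
          · exact h.e_ne m (by rw [sub_eq_zero.1 e2, h2, zero_smul])
          · exact mul_ne_zero h.two hQ h2
        · exact ⟨_, e2, key m hm⟩
      · exact ⟨_, e1, key l hl⟩
    obtain ⟨y, ⟨hyT, hyv⟩, hy0, hgy⟩ := exists_fixed_of_pow hup
      (tsp e T ⊓ LinearMap.ker (QuadraticMap.polarBilin Q v)) (fun x hx => by
        obtain ⟨h1, h2⟩ := hx
        refine ⟨hP x h1, ?_⟩
        show B v (ap u x) = 0
        conv_lhs => rw [← hgv]
        rw [ap_b]
        exact h2) ⟨hzT, hzv⟩ hz0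
    obtain ⟨v₁, hv₁, -, -, huniq⟩ := h.axis_of_rot hT hu hu1
    obtain ⟨c₁, rfl⟩ := huniq v hvT hgv
    obtain ⟨c₂, rfl⟩ := huniq y hyT hgy
    have h0 : B (c₁ • v₁) (c₂ • v₁) = 0 := hyv
    rw [b_smul_left, b_smul_right, b_self] at h0
    rw [q_smul] at hQ
    rcases mul_eq_zero.1 h0 with h1 | h1
    · exact hQ (by rw [h1, zero_mul, zero_mul])
    rcases mul_eq_zero.1 h1 with h2 | h2
    · exact hy0 (by rw [h2, zero_smul])
    · exact hQ (by rw [(mul_eq_zero.1 h2).resolve_left h.two, mul_zero])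
  obtain ⟨w, f, α, hα, hwT, hfT, hQf, hQw, hvf, hvw, hfw, hbas, hpow⟩ :=
    h.unip_form hT hu hu1 hv0 hvT hgv hQv
  have hBx : ∀ P r s : F, B v (P • v + r • w + s • f) = s := fun P r s => by
    rw [b_add_right, b_add_right, b_smul_right, b_smul_right, b_smul_right, b_self, hQv, hvw, hvf]
    ring
  have hQx : ∀ P r s : F, Q (P • v + r • w + s • f) = r * r * Q w + P * s := fun P r s => by
    simp only [q_add, q_smul, b_add_left, b_smul_left, b_smul_right, hQv, hQf, hvw, hvf,
      b_comm w f, hfw]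
    ring
  refine ⟨u, huM, v, w, hv0, hQv, h.mem_tsp.1 hvT, hwT, hvw, hQw, hout,
    fun x y hx hy hq hb hb0 => ?_, fun x hx hb hq => ?_⟩
  · obtain ⟨P, r, s, rfl⟩ := hbas x hx
    obtain ⟨P', r', s', rfl⟩ := hbas y hy
    rw [hBx, hBx] at hb
    rw [hBx] at hb0
    obtain ⟨k, hk⟩ := hF ((r' - r) / (s * α))
    have hk' : (k : F) * α * s = r' - r := by rw [hk]; field_simp
    refine ⟨k, ?_⟩
    obtain ⟨e1, e2, e3⟩ := hpow k
    have heq : ap (u ^ k) (P • v + r • w + s • f) =
        (P + r * (-2 * (k : F) * α * Q w) + s * (-((k : F) * (k : F)) * (α * α) * Q w)) • v +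
          r' • w + s • f := by
      rw [ap_add, ap_add, ap_smul, ap_smul, ap_smul, e1, e2, e3,
        show r' = r + (k : F) * α * s by rw [hk']; ring]
      module
    have hQ' := ap_q (u ^ k) (P • v + r • w + s • f)
    rw [heq, hq, ← hb, hQx, hQx] at hQ'
    rw [heq, ← hb]
    congr 3
    exact mul_right_cancel₀ hb0 (by linear_combination hQ')
  · obtain ⟨P, r, s, rfl⟩ := hbas x hx
    rw [hBx] at hb
    subst hb
    rw [hQx] at hq
    have hr : r ≠ 0 := fun e0 => hq (by rw [e0]; ring)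
    refine ⟨r * (-2 * α * Q w), mul_ne_zero hr
      (mul_ne_zero (mul_ne_zero (neg_ne_zero.2 h.two) hα) hQw), ?_⟩
    obtain ⟨e1, e2, -⟩ := hpow 1
    rw [pow_one] at e1 e2
    rw [zero_smul, add_zero, ap_add, ap_smul, ap_smul, e1, e2, Nat.cast_one]
    module

/-- Two roots of a wild triple connect the vectors of equal norm. -/
theorem triple_trans {p : ℕ} [Fact p.Prime] [CharP F p] (hF : ∀ x : F, ∃ k : ℕ, (k : F) = x)
    (h3 : (3 : F) ≠ 0) {T : Finset (Fin n)} (hT : T.card = 3) (hw : WildIn M e a T) {N : F}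
    (hN : N ≠ 0) {x y : ι → F} (hx : supp Q e a x ⊆ T) (hy : supp Q e a y ⊆ T) (hqx : Q x = N)
    (hqy : Q y = N) : Reach M e T x y := by
  classical
  obtain ⟨u, huM, v, w, hv0, hQv, hvT, hwT, hvw, hQw, hout, hA, hB⟩ := h.unip_data (p := p) hF hT hw
  have h2 := h.two
  obtain ⟨i, hi⟩ : (supp Q e a v).Nonempty :=
    Finset.nonempty_iff_ne_empty.2 fun e0 => hv0 (h.supp_eq_empty e0)
  have hiT := hvT hi
  obtain ⟨o, ho⟩ : ∃ o, o ∉ T := by
    by_contra hc
    push Not at hc
    have := Finset.card_le_card (fun l _ => hc l : (Finset.univ : Finset (Fin n)) ⊆ T)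
    rw [Finset.card_univ, Fintype.card_fin] at this
    have := h.nine
    omega
  have hio : i ≠ o := fun e0 => ho (e0 ▸ hiT)
  obtain ⟨d, hdM, hd⟩ := h.exists_sign_pair hio
  have hdd : ∀ z : ι → F, ap d (ap d z) = z := fun z => by rw [← ap_mul, h.sign_self hd, ap_one]
  have hdT : ∀ z, supp Q e a z ⊆ T → supp Q e a (ap d z) ⊆ T := fun z hz l hl => hz (mem_supp.2
    fun e0 => mem_supp.1 hl (by rw [hd, e0, mul_zero]))
  set v' := ap d v with hv'
  have hv'T : supp Q e a v' ⊆ T := hdT v hvT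
  have hQv' : Q v' = 0 := by rw [hv', ap_q, hQv]
  obtain ⟨γ, hγ⟩ : ∃ γ, B v v' = γ := ⟨_, rfl⟩
  have hγ0 : γ ≠ 0 := by
    rw [← hγ, h.b_eq]
    have h0 : ∑ l, co Q e a l v * co Q e a l v = 0 := by
      have := h.q_eq v
      rw [hQv] at this
      exact (mul_eq_zero.1 this.symm).resolve_left h.a0
    have h1 : ∑ l, co Q e a l v * co Q e a l v' = -(2 * (co Q e a i v * co Q e a i v)) := by
      have e1 : ∀ l, co Q e a l v * co Q e a l v' = co Q e a l v * co Q e a l v +
          (if l = i then -(2 * (co Q e a i v * co Q e a i v)) else 0) := fun l => by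
        rw [hv', hd]
        by_cases hli : l = i
        · rw [if_pos hli, if_pos (by simp [hli]), hli]; ring
        by_cases hlo : l = o
        · rw [if_neg hli, hlo, notMem_supp.1 fun h1 => ho (hvT h1)]; ring
        · rw [if_neg hli, if_neg (by simp [hli, hlo])]; ring
      rw [Finset.sum_congr rfl fun l _ => e1 l, Finset.sum_add_distrib, h0, zero_add,
        Finset.sum_ite_eq', if_pos (Finset.mem_univ i)]
    rw [h1]
    exact mul_ne_zero h.two_a (neg_ne_zero.2 (mul_ne_zero h2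
      (mul_ne_zero (mem_supp.1 hi) (mem_supp.1 hi))))
  have hA1 : ∀ x y, supp Q e a x ⊆ T → supp Q e a y ⊆ T → Q x = Q y → B v x = B v y → B v x ≠ 0 →
      Reach M e T x y := fun x y hx hy hq hb hb0 => by
    obtain ⟨k, hk⟩ := hA x y hx hy hq hb hb0
    exact ⟨u ^ k, pow_mem huM k, fun c hc => pow_fix (hout c hc) k, hk⟩
  have hA2 : ∀ x y, supp Q e a x ⊆ T → supp Q e a y ⊆ T → Q x = Q y → B v' x = B v' y →
      B v' x ≠ 0 → Reach M e T x y := fun x y hx hy hq hb hb0 => by
    have hdB : ∀ z, B v (ap d z) = B v' z := fun z => by rw [hv', ← ap_b d v, hdd]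
    obtain ⟨k, hk⟩ := hA (ap d x) (ap d y) (hdT x hx) (hdT y hy) (by rw [ap_q, ap_q, hq])
      (by rw [hdB, hdB, hb]) (by rwa [hdB])
    refine ⟨d * u ^ k * d, mul_mem (mul_mem hdM (pow_mem huM k)) hdM, fun c hc => ?_, ?_⟩
    · rw [ap_mul, ap_mul, h.sign_apply hd c, ap_smul, pow_fix (hout c hc) k, ap_smul,
        h.sign_apply hd c, smul_smul]
      split_ifs <;> simp
    · rw [ap_mul, ap_mul, hk, hdd]
  obtain ⟨w₁, hw₁⟩ : ∃ w₁, w₁ = w - (B v' w / γ) • v := ⟨_, rfl⟩
  have hw₁T : supp Q e a w₁ ⊆ T := by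
    rw [hw₁, sub_eq_add_neg, ← neg_smul]
    exact (supp_add_le _ _).trans (Finset.union_subset hwT ((supp_smul_le _ _).trans hvT))
  have hvw₁ : B v w₁ = 0 := by rw [hw₁, b_sub_right, b_smul_right, hvw, b_self, hQv]; ring
  have hv'w₁ : B v' w₁ = 0 := by
    rw [hw₁, b_sub_right, b_smul_right, b_comm v' v, hγ, div_mul_cancel₀ _ hγ0, sub_self]
  obtain ⟨c₁, hc₁⟩ : ∃ c₁, Q w₁ = c₁ := ⟨_, rfl⟩
  have hc₁0 : c₁ ≠ 0 := by
    rw [← hc₁, hw₁, q_sub, q_smul, hQv, b_smul_right, b_comm w v, hvw]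
    simpa using hQw
  let z : F → F → ι → F := fun β r =>
    ((N - c₁ * r * r) / β) • v + (β / γ) • v' + r • w₁
  have hzT : ∀ β r, supp Q e a (z β r) ⊆ T := fun β r =>
    (supp_add_le _ _).trans (Finset.union_subset ((supp_add_le _ _).trans (Finset.union_subset
      ((supp_smul_le _ _).trans hvT) ((supp_smul_le _ _).trans hv'T)))
      ((supp_smul_le _ _).trans hw₁T))
  have hzq : ∀ β r, β ≠ 0 → Q (z β r) = N := fun β r hβ => by
    simp only [z, q_add, q_smul, b_add_left, b_smul_left, b_smul_right, hQv, hQv', hc₁, hγ, hvw₁,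
      hv'w₁]
    field_simp
    ring
  have hzb : ∀ β r, B v (z β r) = β := fun β r => by
    simp only [z, b_add_right, b_smul_right, b_self, hQv, hvw₁, hγ, mul_zero, add_zero, zero_add,
      div_mul_cancel₀ _ hγ0]
  have hzb' : ∀ β r, B v' (z β r) = (N - c₁ * r * r) / β * γ := fun β r => by
    simp only [z, b_add_right, b_smul_right, b_self, hQv', hv'w₁, b_comm v' v, hγ]
    ring
  have hcl : ∀ β r r', β ≠ 0 → Reach M e T (z β r) (z β r') := fun β r r' hβ =>
    hA1 _ _ (hzT β r) (hzT β r') (by rw [hzq β r hβ, hzq β r' hβ]) (by rw [hzb, hzb])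
      (by rwa [hzb])
  have hstep : ∀ β l : F, β ≠ 0 → l ≠ 0 → l ≠ 1 → l ≠ -1 → Reach M e T (z β 0) (z (l * β) 0) := by
    intro β l hβ hl0 hl1 hl2
    obtain ⟨r, r', hr, hrr⟩ := exists_ratio h2 hc₁0 hN hl0 hl1 hl2
    have hlβ := mul_ne_zero hl0 hβ
    refine reach_trans (hcl β 0 r hβ) (reach_trans (hA2 _ (z (l * β) r') (hzT β r) (hzT _ r')
      (by rw [hzq β r hβ, hzq _ r' hlβ]) ?_ ?_) (hcl _ r' 0 hlβ))
    · rw [hzb', hzb', hrr]; field_simp
    · rw [hzb']; exact mul_ne_zero (div_ne_zero hr hβ) hγ0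
  have hall : ∀ β β' : F, β ≠ 0 → β' ≠ 0 → Reach M e T (z β 0) (z β' 0) := by
    intro β β' hβ hβ'
    obtain ⟨l, hl⟩ : ∃ l, l = β' / β := ⟨_, rfl⟩
    have hlb : β' = l * β := by rw [hl, div_mul_cancel₀ _ hβ]
    have hl0 : l ≠ 0 := by rw [hl]; exact div_ne_zero hβ' hβ
    by_cases h1 : l = 1
    · rw [hlb, h1, one_mul]; exact reach_refl _ _
    by_cases h1' : l = -1
    · refine reach_trans (hstep β 2 hβ h2 ?_ ?_) ?_
      · intro e0; exact one_ne_zero (α := F) (by linear_combination e0)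
      · intro e0; exact h3 (by linear_combination e0)
      have := hstep (2 * β) (-(2 : F)⁻¹) (mul_ne_zero h2 hβ) (neg_ne_zero.2 (inv_ne_zero h2)) ?_ ?_
      · rwa [show -(2 : F)⁻¹ * (2 * β) = β' by rw [hlb, h1']; field_simp] at this
      · intro e0
        have e1 := congrArg (fun t => t * 2) e0
        simp only [neg_mul, inv_mul_cancel₀ h2, one_mul] at e1
        exact h3 (by linear_combination -e1)
      · intro e0
        have e1 := congrArg (fun t => t * 2) e0
        simp only [neg_mul, inv_mul_cancel₀ h2, one_mul] at e1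
        exact one_ne_zero (α := F) (by linear_combination e1)
    · rw [hlb]; exact hstep β l hβ hl0 h1 h1'
  have hgen : ∀ x, supp Q e a x ⊆ T → Q x = N → B v x ≠ 0 → Reach M e T x (z 1 0) :=
    fun x hx hq hb => reach_trans
      (hA1 x (z (B v x) 0) hx (hzT _ 0) (by rw [hq, hzq _ 0 hb]) (hzb _ 0).symm hb)
      (hall _ 1 hb one_ne_zero)
  have hgen' : ∀ x, supp Q e a x ⊆ T → Q x = N → B v' x ≠ 0 → Reach M e T x (z 1 0) := by
    intro x hx hq hb
    obtain ⟨β, hβ⟩ : ∃ β, β = γ * N / B v' x := ⟨_, rfl⟩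
    have hβ0 : β ≠ 0 := by rw [hβ]; exact div_ne_zero (mul_ne_zero hγ0 hN) hb
    refine reach_trans (hA2 x (z β 0) hx (hzT β 0) (by rw [hq, hzq β 0 hβ0]) ?_ hb) (hall β 1 hβ0 one_ne_zero)
    rw [hzb', hβ]
    field_simp
    ring
  have hfull : ∀ x, supp Q e a x ⊆ T → Q x = N → Reach M e T x (z 1 0) := by
    intro x hx hq
    by_cases hb : B v x = 0
    · by_cases hb' : B v' x = 0
      · obtain ⟨c, hc, hux⟩ := hB x hx hb (by rw [hq]; exact hN)
        refine reach_trans (⟨u, huM, hout, hux⟩ : Reach M e T x (x + c • v))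
          (hgen' _ ((supp_add_le _ _).trans (Finset.union_subset hx ((supp_smul_le _ _).trans hvT)))
            (by rw [← hux, ap_q, hq]) ?_)
        rw [b_add_right, b_smul_right, hb', zero_add, b_comm, hγ]
        exact mul_ne_zero hc hγ0
      · exact hgen' x hx hq hb'
    · exact hgen x hx hq hb
  exact reach_trans (hfull x hx hqx) (reach_symm (hfull y hy hqy))

/-- Changing the coordinates on a triple. -/
theorem wv_replace {p : ℕ} [Fact p.Prime] [CharP F p] (hF : ∀ x : F, ∃ k : ℕ, (k : F) = x)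
    (h3 : (3 : F) ≠ 0) {T : Finset (Fin n)} (hT : T.card = 3) (hw : WildIn M e a T) {x y : ι → F}
    (hy : Wv M e a y) (hout : ∀ l ∉ T, co Q e a l x = co Q e a l y)
    (hsum : ∑ m ∈ T, co Q e a m x * co Q e a m x = ∑ m ∈ T, co Q e a m y * co Q e a m y)
    (h0 : ∑ m ∈ T, co Q e a m x * co Q e a m x ≠ 0) : Wv M e a x := by
  classical
  obtain ⟨g, hg, hfix, hgy⟩ := h.triple_trans (p := p) hF h3 hT hw (mul_ne_zero h.a0 h0)
    (h.supp_part T y) (h.supp_part T x) (by rw [h.q_part, hsum]) (h.q_part T x)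
  obtain ⟨o, ho⟩ : ∃ o, o ∉ T := by
    by_contra hc
    push Not at hc
    have := Finset.card_le_card (fun l _ => hc l : (Finset.univ : Finset (Fin n)) ⊆ T)
    rw [Finset.card_univ, Fintype.card_fin] at this
    have := h.nine
    omega
  have hx : ap g y = x := by
    conv_lhs => rw [h.sum_split T y]
    conv_rhs => rw [h.sum_split T x]
    rw [ap_add, hgy, ap_sum]
    congr 1
    refine Finset.sum_congr rfl fun l hl => ?_
    rw [Finset.mem_compl] at hl
    rw [ap_smul, hfix l hl, hout l hl]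
  rw [← hx]
  exact h.wv_fix hg (hfix o ho) hy

/-- The case of characteristic at least five. -/
theorem all_wv_five {p : ℕ} [Fact p.Prime] [CharP F p] (hF : ∀ x : F, ∃ k : ℕ, (k : F) = x)
    (h3 : (3 : F) ≠ 0) (hnot : ¬ AllMir M e a) (x : ι → F) (hx : Q x = a) : Wv M e a x := by
  classical
  have hn := h.nine
  obtain ⟨T₀, hT₀, hw₀⟩ : ∃ T, T.card = 3 ∧ WildIn M e a T := by
    by_contra hc
    refine hnot (h.tame_of_four (h.tame_four ?_ h3))
    intro w hw hwc
    by_contra hm
    obtain ⟨T, hT, hTc⟩ := Finset.exists_superset_card_eq hwc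
      (by rw [Fintype.card_fin]; omega)
    exact hc ⟨T, hTc, w, hw, hT, hm⟩
  have hwild : ∀ T : Finset (Fin n), T.card = 3 → WildIn M e a T := fun T hT =>
    h.wild_all (by omega) (by omega) hw₀
  induction hN : (supp Q e a x).card using Nat.strong_induction_on generalizing x with
  | _ N ih =>
  rcases Nat.lt_or_ge N 4 with hlt | hge
  · obtain ⟨T, hT, hTc⟩ := Finset.exists_superset_card_eq (show (supp Q e a x).card ≤ 3 by omega)
      (by rw [Fintype.card_fin]; omega)
    obtain ⟨i, hi⟩ := Finset.card_pos.1 (show 0 < T.card by omega)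
    have h1 := h.sum_sq_sub hT hx
    refine h.wv_replace (p := p) hF h3 hTc (hwild T hTc) (h.wv_e i) (fun l hl => ?_) ?_
      (by rw [h1]; exact one_ne_zero)
    · rw [notMem_supp.1 fun h2 => hl (hT h2), h.co_ne (fun e0 : l = i => hl (e0.symm ▸ hi))]
    · rw [h1, h.sum_sq_sub (by rw [h.supp_e, Finset.singleton_subset_iff]; exact hi) (h.q i)]
  obtain ⟨S, hS, hSc⟩ := Finset.exists_subset_card_eq (show 4 ≤ (supp Q e a x).card by omega)
  obtain ⟨l₀, hl₀, hne⟩ : ∃ l ∈ S, ∑ m ∈ S.erase l, co Q e a m x * co Q e a m x ≠ 0 := by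
    by_contra hc
    push Not at hc
    obtain ⟨l, hl⟩ := Finset.card_pos.1 (show 0 < S.card by omega)
    have hsq : ∀ m ∈ S, co Q e a m x * co Q e a m x = ∑ t ∈ S, co Q e a t x * co Q e a t x :=
      fun m hm => by
        rw [← Finset.add_sum_erase S (fun t => co Q e a t x * co Q e a t x) hm, hc m hm, add_zero]
    have htot : ∑ t ∈ S, co Q e a t x * co Q e a t x =
        4 * ∑ t ∈ S, co Q e a t x * co Q e a t x := by
      conv_lhs => rw [Finset.sum_congr rfl hsq, Finset.sum_const, hSc, nsmul_eq_mul]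
      norm_num
    have hz : ∑ t ∈ S, co Q e a t x * co Q e a t x = 0 :=
      (mul_eq_zero.1 (show (3 : F) * ∑ t ∈ S, co Q e a t x * co Q e a t x = 0 by
        linear_combination -htot)).resolve_left h3
    exact mem_supp.1 (hS hl) (mul_self_eq_zero.1 ((hsq l hl).trans hz))
  obtain ⟨i, hi, j, hj, hij⟩ := Finset.one_lt_card.1
    (show 1 < (S.erase l₀).card by rw [Finset.card_erase_of_mem hl₀]; omega)
  obtain ⟨b, c, hbc⟩ : ∃ b c : F,
      b * b + c * c = ∑ m ∈ S.erase l₀, co Q e a m x * co Q e a m x := by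
    cases nonempty_fintype F
    have hch : ringChar F ≠ 2 := fun e0 => h.two (by
      haveI := ringChar.of_eq e0
      exact_mod_cast CharP.cast_eq_zero F 2)
    obtain ⟨b, c, h0⟩ := FiniteField.exists_root_sum_quadratic
      (f := Polynomial.X ^ 2 + Polynomial.C (-(∑ m ∈ S.erase l₀, co Q e a m x * co Q e a m x)))
      (g := Polynomial.X ^ 2)
      (by compute_degree!) (by compute_degree!) (FiniteField.odd_card_of_char_ne_two hch)
    simp only [Polynomial.eval_add, Polynomial.eval_C, Polynomial.eval_pow, Polynomial.eval_X] at h0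
    exact ⟨b, c, by linear_combination h0⟩
  set T := S.erase l₀ with hTdef
  have hTc : T.card = 3 := by rw [hTdef, Finset.card_erase_of_mem hl₀]; omega
  obtain ⟨y, hy⟩ : ∃ y, y = (∑ m ∈ Tᶜ, co Q e a m x • e m) + b • e i + c • e j := ⟨_, rfl⟩
  have hyco : ∀ l, co Q e a l y = if l = i then b else if l = j then c else
      if l ∈ T then 0 else co Q e a l x := fun l => by
    rw [hy, co_add, co_add, h.co_part, co_smul, co_smul]
    by_cases hli : l = i
    · subst hli
      rw [if_pos rfl, if_neg (by simpa using hi), h.co_self, h.co_ne hij]; ring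
    by_cases hlj : l = j
    · subst hlj
      rw [if_neg hli, if_pos rfl, if_neg (by simpa using hj), h.co_self, h.co_ne hli]; ring
    · rw [if_neg hli, if_neg hlj, h.co_ne hli, h.co_ne hlj]
      by_cases hlT : l ∈ T <;> simp [hlT]
  have houtT : ∀ l ∉ T, co Q e a l x = co Q e a l y := fun l hl => by
    rw [hyco, if_neg (fun e0 : l = i => hl (e0 ▸ hi)), if_neg (fun e0 : l = j => hl (e0 ▸ hj)), if_neg hl]
  have hsumT : ∑ m ∈ T, co Q e a m y * co Q e a m y = b * b + c * c := by
    rw [← Finset.sum_subset (s₁ := {i, j}) (Finset.insert_subset hi (Finset.singleton_subset_iff.2 hj))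
      (fun l hl hl' => by
        simp only [Finset.mem_insert, Finset.mem_singleton, not_or] at hl'
        rw [hyco, if_neg hl'.1, if_neg hl'.2, if_pos hl, mul_zero]),
      Finset.sum_pair hij, hyco, hyco, if_pos rfl, if_neg hij.symm, if_pos rfl]
  have hqy : Q y = a := by
    have h1 := h.q_eq x
    have h2 := h.q_eq y
    rw [← Finset.sum_add_sum_compl T] at h1 h2
    have h4 : ∑ l ∈ Tᶜ, co Q e a l y * co Q e a l y = ∑ l ∈ Tᶜ, co Q e a l x * co Q e a l x :=
      Finset.sum_congr rfl fun l hl => by rw [← houtT l (Finset.mem_compl.1 hl)]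
    rw [hsumT, hbc, h4, ← h1, hx] at h2
    exact h2
  have hlt : (supp Q e a y).card < N := by
    have hsub : supp Q e a y ⊆ insert i (insert j (supp Q e a x \ T)) := fun l hl => by
      rw [mem_supp, hyco] at hl
      simp only [Finset.mem_insert, Finset.mem_sdiff, mem_supp]
      split_ifs at hl with h1 h2 h4
      · exact Or.inl h1
      · exact Or.inr (Or.inl h2)
      · exact absurd rfl hl
      · exact Or.inr (Or.inr ⟨hl, h4⟩)
    have h1 := Finset.card_le_card hsub
    have h2 := Finset.card_insert_le i (insert j (supp Q e a x \ T))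
    have h4 := Finset.card_insert_le j (supp Q e a x \ T)
    have h5 := Finset.card_sdiff_add_card_eq_card ((Finset.erase_subset l₀ S).trans hS)
    rw [← hTdef] at h5
    omega
  exact h.wv_replace (p := p) hF h3 hTc (hwild T hTc) (ih _ hlt y hqy rfl) houtT
    (by rw [hsumT, hbc]) hne

theorem sq_one_of_three (hF : ∀ x : F, ∃ k : ℕ, (k : F) = x) (h3 : (3 : F) = 0) {c : F}
    (hc : c ≠ 0) : c * c = 1 := by
  obtain ⟨k, rfl⟩ := hF c
  have hk : (k : F) = ((k % 3 : ℕ) : F) := by
    conv_lhs => rw [← Nat.mod_add_div k 3]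
    push_cast
    rw [h3, zero_mul, add_zero]
  rw [hk] at hc ⊢
  rcases (show k % 3 = 0 ∨ k % 3 = 1 ∨ k % 3 = 2 by omega) with e0 | e0 | e0 <;> rw [e0] at hc ⊢
  · exact absurd Nat.cast_zero hc
  · norm_num
  · push_cast; linear_combination h3

theorem card_mod_three (hF : ∀ x : F, ∃ k : ℕ, (k : F) = x) (h3 : (3 : F) = 0) {x : ι → F}
    (hx : Q x = a) : (supp Q e a x).card % 3 = 1 := by
  have h1 := h.sum_sq hx
  rw [Finset.sum_congr rfl (fun m hm => h.sq_one_of_three hF h3 (mem_supp.1 hm)), Finset.sum_const,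
    nsmul_one] at h1
  obtain ⟨k, hk⟩ : ∃ k, (supp Q e a x).card = k := ⟨_, rfl⟩
  rw [hk] at h1 ⊢
  have hk' : (k : F) = ((k % 3 : ℕ) : F) := by
    conv_lhs => rw [← Nat.mod_add_div k 3]
    push_cast
    rw [h3, zero_mul, add_zero]
  rw [hk'] at h1
  rcases (show k % 3 = 0 ∨ k % 3 = 1 ∨ k % 3 = 2 by omega) with e0 | e0 | e0
  · rw [e0, Nat.cast_zero] at h1; exact absurd h1 zero_ne_one
  · exact e0
  · rw [e0, Nat.cast_ofNat] at h1
    exact absurd (show (1 : F) = 0 by linear_combination h1) one_ne_zero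

/-- The case of characteristic three. -/
theorem all_wv_three (hF : ∀ x : F, ∃ k : ℕ, (k : F) = x) (h3 : (3 : F) = 0)
    (hnot : ¬ AllMir M e a) (x : ι → F) (hx : Q x = a) : Wv M e a x := by
  classical
  have hn := h.nine
  have i0 : Fin n := ⟨0, by omega⟩
  have hmod : ∀ z, Q z = a → (supp Q e a z).card % 3 = 1 := fun z hz => h.card_mod_three hF h3 hz
  obtain ⟨T₀, hT₀, hw₀⟩ : ∃ T, T.card = 4 ∧ WildIn M e a T := by
    by_contra hc
    refine hnot (h.tame_of_four fun w hw hwc => ?_)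
    by_contra hm
    obtain ⟨T, hT, hTc⟩ := Finset.exists_superset_card_eq hwc (by rw [Fintype.card_fin]; omega)
    exact hc ⟨T, hTc, w, hw, hT, hm⟩
  have hquad : ∀ S : Finset (Fin n), S.card = 4 → ∃ w, Wv M e a w ∧ supp Q e a w = S := by
    intro S hS
    obtain ⟨w, hw, hwS, hwm⟩ := h.wild_all (T' := S) (by omega) (by omega) hw₀
    refine ⟨w, hw, Finset.eq_of_subset_of_card_le hwS ?_⟩
    have h1 := hmod w hw.1
    have h2 := Finset.card_le_card hwS
    by_contra hc
    exact hwm (Or.inl (h.axis_of_supp (by omega) i0))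
  have hsigns : ∀ z, Q z = a → (supp Q e a z).card = 4 → Wv M e a z := by
    intro z hz hzc
    obtain ⟨w, hw, hwz⟩ := hquad _ hzc
    obtain ⟨o, ho⟩ : ∃ o, o ∉ supp Q e a z := by
      by_contra hc
      push Not at hc
      have := Finset.card_le_card (fun l _ => hc l : (Finset.univ : Finset (Fin n)) ⊆ supp Q e a z)
      rw [Finset.card_univ, Fintype.card_fin] at this
      omega
    have hflip : ∀ D : Finset (Fin n), D ⊆ supp Q e a z → ∃ y, Wv M e a y ∧
        ∀ l, co Q e a l y = (if l ∈ D then -1 else 1) * co Q e a l w := by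
      intro D
      induction D using Finset.induction_on with
      | empty => exact fun _ => ⟨w, hw, fun l => by simp⟩
      | insert s D hsD ih =>
        intro hD
        obtain ⟨y, hy, hyl⟩ := ih ((Finset.subset_insert s D).trans hD)
        have hs := hD (Finset.mem_insert_self s D)
        obtain ⟨d, hdM, hd⟩ := h.exists_sign_pair (show s ≠ o from fun e0 => ho (e0 ▸ hs))
        refine ⟨ap d y, h.wv_conj hdM (fun l => ⟨l, _, h.sign_apply hd l⟩) hy, fun l => ?_⟩
        rw [hd, hyl]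
        by_cases hlo : l = o
        · rw [hlo, notMem_supp.1 (show o ∉ supp Q e a w by rw [hwz]; exact ho)]; ring
        by_cases hls : l = s
        · subst hls
          simp [hsD]
        · simp [hls, hlo]
    obtain ⟨y, hy, hyl⟩ := hflip ((supp Q e a z).filter fun l => co Q e a l z ≠ co Q e a l w)
      (Finset.filter_subset _ _)
    suffices hzy : z = y by rwa [hzy]
    refine h.ext fun l => ?_
    rw [hyl]
    simp only [Finset.mem_filter]
    by_cases hl : l ∈ supp Q e a z
    · by_cases he : co Q e a l z = co Q e a l w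
      · rw [if_neg (fun h1 => h1.2 he), one_mul, he]
      · rw [if_pos ⟨hl, he⟩, neg_one_mul]
        have h1 := h.sq_one_of_three hF h3 (mem_supp.1 hl)
        have h2 := h.sq_one_of_three hF h3 (mem_supp.1 (show l ∈ supp Q e a w by rw [hwz]; exact hl))
        exact (mul_self_eq_mul_self_iff.1 (h1.trans h2.symm)).resolve_left he
    · rw [if_neg (fun h1 => hl h1.1), one_mul, notMem_supp.1 hl,
        notMem_supp.1 (show l ∉ supp Q e a w by rw [hwz]; exact hl)]
  induction hN : (supp Q e a x).card using Nat.strong_induction_on generalizing x with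
  | _ N ih =>
  have hN3 := hmod x hx
  rcases (show N = 1 ∨ N = 4 ∨ 5 ≤ N by omega) with h1 | h1 | h1
  · exact h.wv_mir (Or.inl (h.axis_of_supp (by omega) i0)) hx
  · exact hsigns x hx (by omega)
  obtain ⟨S, hS, hSc⟩ := Finset.exists_subset_card_eq (show 4 ≤ (supp Q e a x).card by omega)
  obtain ⟨d, hd⟩ := Finset.card_pos.1 (show 0 < S.card by omega)
  obtain ⟨w, hw⟩ : ∃ w, w = (∑ m ∈ S, co Q e a m x • e m) + (-2 * co Q e a d x) • e d := ⟨_, rfl⟩
  have hwco : ∀ l, co Q e a l w = if l ∈ S then (if l = d then -co Q e a l x else co Q e a l x)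
      else 0 := fun l => by
    rw [hw, co_add, h.co_part, co_smul]
    by_cases hld : l = d
    · subst hld; rw [if_pos hd, if_pos hd, if_pos rfl, h.co_self]; ring
    · simp only [h.co_ne hld, if_neg hld]; ring
  have hx1 : ∀ l ∈ S, co Q e a l x * co Q e a l x = 1 := fun l hl =>
    h.sq_one_of_three hF h3 (mem_supp.1 (hS hl))
  have hwq : Q w = a := by
    rw [h.q_eq, ← Finset.sum_subset (Finset.subset_univ S) (fun l _ hl => by
      rw [hwco, if_neg hl, mul_zero]),
      Finset.sum_congr rfl (g := fun _ => (1 : F)) (fun l hl => by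
        rw [hwco, if_pos hl]
        split_ifs
        · rw [neg_mul_neg, hx1 l hl]
        · rw [hx1 l hl]), Finset.sum_const, hSc, nsmul_one]
    push_cast
    linear_combination a * h3
  have hwS : supp Q e a w = S := by
    ext l
    rw [mem_supp, hwco]
    constructor
    · intro h2
      by_contra hc
      exact h2 (if_neg hc)
    · intro hl
      rw [if_pos hl]
      have := mem_supp.1 (hS hl)
      split_ifs
      · exact neg_ne_zero.2 this
      · exact this
  have hwv := hsigns w hwq (by rw [hwS]; exact hSc)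
  have hdot : ∑ m, co Q e a m w * co Q e a m x = 2 := by
    rw [← Finset.sum_subset (Finset.subset_univ S) (fun l _ hl => by
      rw [hwco, if_neg hl, zero_mul]), ← Finset.add_sum_erase S _ hd,
      Finset.sum_congr rfl (g := fun _ => (1 : F)) (fun l hl => by
        rw [Finset.mem_erase] at hl
        rw [hwco, if_pos hl.2, if_neg hl.1, hx1 l hl.2]), Finset.sum_const,
      Finset.card_erase_of_mem hd, hSc, hwco, if_pos hd, if_pos rfl, neg_mul, hx1 d hd, nsmul_one]
    norm_num
  obtain ⟨r, hr⟩ := exists_refl h.nd (v := w) (by rw [hwq]; exact h.a0)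
  have hrco : ∀ l, co Q e a l (ap r x) = co Q e a l x - co Q e a l w := fun l => by
    rw [h.co_refl_w hwq hr, hdot]
    linear_combination (-(co Q e a l w)) * h3
  have hlt : (supp Q e a (ap r x)).card < N := by
    have hsub : supp Q e a (ap r x) ⊆ supp Q e a x \ S.erase d := fun l hl => by
      rw [mem_supp, hrco, hwco] at hl
      rw [Finset.mem_sdiff, Finset.mem_erase, mem_supp]
      by_cases hlS : l ∈ S
      · by_cases hld : l = d
        · exact ⟨mem_supp.1 (hS hlS), fun h2 => h2.1 hld⟩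
        · rw [if_pos hlS, if_neg hld, sub_self] at hl
          exact absurd rfl hl
      · rw [if_neg hlS, sub_zero] at hl
        exact ⟨hl, fun h2 => hlS h2.2⟩
    have h2 := Finset.card_le_card hsub
    have h4 := Finset.card_sdiff_add_card_eq_card ((Finset.erase_subset d S).trans hS)
    rw [Finset.card_erase_of_mem hd] at h4
    omega
  have hrec := ih _ hlt (ap r x) (by rw [ap_q]; exact hx) rfl
  have := h.wv_refl hwv hrec hr
  rwa [← ap_mul, refl_mul_self hr, ap_one] at this

/-- Every vector of the norm is related when some related vector is not a mirror. -/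
theorem all_wv {p : ℕ} [Fact p.Prime] [CharP F p] (hF : ∀ x : F, ∃ k : ℕ, (k : F) = x)
    (hnot : ¬ AllMir M e a) (x : ι → F) (hx : Q x = a) : Wv M e a x := by
  by_cases h3 : (3 : F) = 0
  · exact h.all_wv_three hF h3 hnot x hx
  · exact h.all_wv_five (p := p) hF h3 hnot x hx

/-- The overgroup then holds the commutator group. -/
theorem omega_le (hall : ∀ x, Q x = a → Wv M e a x) : Cfsg.Omega F ⇑Q ≤ M := by
  classical
  have hn := h.nine
  have hdim : 5 ≤ Module.finrank F (ι → F) := by rw [h.finrank_V]; omega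
  have hco : ∀ {x y : ι → F} {r s : Grp Q}, IsRefl x r → IsRefl y s → IsSquare (Q x * Q y) →
      r * s ∈ Cfsg.Omega F ⇑Q := fun {x y r s} hr hs hsq => by
    have := QuotientGroup.eq.1 (refl_coset h.nd hdim hr hs hsq)
    rwa [refl_inv' hr] at this
  let S : Set (Grp Q) :=
    {g | ∃ x y r s, Q x = a ∧ Q y = a ∧ IsRefl x r ∧ IsRefl y s ∧ g = r * s}
  have hSM : Subgroup.closure S ≤ M := (Subgroup.closure_le _).2 (by
    rintro g ⟨x, y, r, s, hx, hy, hr, hs, rfl⟩
    exact (wv_rel h.nd ⟨0, by omega⟩ (hall x hx) (hall y hy)).2.2 r s hr hs)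
  refine le_trans ?_ hSM
  obtain ⟨l, hl⟩ : ∃ l : Fin 5 → Fin n, Function.Injective l :=
    ⟨Fin.castLE (by omega), Fin.castLE_injective _⟩
  have hne : ∀ {c d : Fin 5}, c ≠ d → l c ≠ l d := fun hcd e0 => hcd (hl e0)
  have hq2 : ∀ {c d : Fin 5}, c ≠ d → Q (e (l c) + e (l d)) = 2 * a := fun {c d} hcd => by
    have := h.q_pair (hne hcd) 1 1 (one_mul 1)
    simpa only [one_smul, one_mul] using this
  obtain ⟨r₀, hr₀⟩ := exists_refl h.nd (v := e (l 0)) (by rw [h.q]; exact h.a0)
  obtain ⟨r₁, hr₁⟩ := exists_refl h.nd (v := e (l 1)) (by rw [h.q]; exact h.a0)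
  obtain ⟨s₀, hs₀⟩ := exists_refl h.nd (v := e (l 0) + e (l 2))
    (by rw [hq2 (by decide)]; exact h.two_a)
  obtain ⟨s₁, hs₁⟩ := exists_refl h.nd (v := e (l 3) + e (l 4))
    (by rw [hq2 (by decide)]; exact h.two_a)
  refine omega_le_of_normal h.nd hdim _ (fun g _ x hx => ?_)
    (a := r₀ * r₁) (b := s₀ * s₁)
    (Subgroup.subset_closure ⟨_, _, _, _, h.q (l 0), h.q (l 1), hr₀, hr₁, rfl⟩)
    (hco hr₀ hr₁ ⟨a, by rw [h.q, h.q]⟩)
    (hco hs₀ hs₁ ⟨2 * a, by rw [hq2 (by decide), hq2 (by decide)]⟩) ?_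
  · induction hx using Subgroup.closure_induction with
    | mem z hz =>
      obtain ⟨x, y, r, s, hx, hy, hr, hs, rfl⟩ := hz
      exact Subgroup.subset_closure ⟨ap g x, ap g y, g * r * g⁻¹, g * s * g⁻¹,
        by rw [ap_q, hx], by rw [ap_q, hy], refl_conj hr g, refl_conj hs g, by group⟩
    | one => rw [mul_one, mul_inv_cancel]; exact one_mem _
    | mul z w _ _ hz hw =>
      rw [show g * (z * w) * g⁻¹ = (g * z * g⁻¹) * (g * w * g⁻¹) by group]; exact mul_mem hz hw
    | inv z _ hz => rw [show g * z⁻¹ * g⁻¹ = (g * z * g⁻¹)⁻¹ by group]; exact inv_mem hz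
  · intro hcomm
    have e0 := congrArg (fun g => ap g (e (l 0))) hcomm
    have ho : ∀ {c d : Fin 5}, c ≠ d → B (e (l c)) (e (l d)) = 0 := fun hcd =>
      h.orth _ _ (hne hcd)
    have hs1e : ap s₁ (e (l 0)) = e (l 0) :=
      refl_fix hs₁ (by rw [b_add_left, ho (by decide), ho (by decide), add_zero])
    have hs0e : ap s₀ (e (l 0)) = -e (l 2) := by
      rw [hs₀.2, hq2 (by decide), b_add_left, ho (c := 2) (d := 0) (by decide), b_self, h.q, add_zero,
        inv_mul_cancel₀ h.two_a, one_smul]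
      abel
    have hr1e : ap r₁ (e (l 0)) = e (l 0) := refl_fix hr₁ (ho (by decide))
    have hr0e2 : ap r₀ (ap r₁ (e (l 2))) = e (l 2) := by
      rw [refl_fix hr₁ (ho (by decide)), refl_fix hr₀ (ho (by decide))]
    simp only [ap_mul, hs1e, hs0e, hr1e, refl_self hr₀] at e0
    rw [← neg_one_smul F (e (l 2)), ap_smul, ap_smul, hr0e2, ← neg_one_smul F (e (l 0)), ap_smul,
      ap_smul, hs1e, hs0e, neg_one_smul, neg_one_smul, neg_neg] at e0
    have e1 : (2 : F) • e (l 2) = 0 := by
      linear_combination (norm := module) -e0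
    exact h.e_ne _ ((smul_eq_zero.1 e1).resolve_left h.two)

/-- Monomial or everything. -/
theorem omega_le_or_mono {p : ℕ} [Fact p.Prime] [CharP F p] (hF : ∀ x : F, ∃ k : ℕ, (k : F) = x) :
    Cfsg.Omega F ⇑Q ≤ M ∨ ∀ g ∈ M, Mono e g := by
  by_cases hA : AllMir M e a
  · exact Or.inr fun g hg => h.mono_all hA hg
  · exact Or.inl (h.omega_le (h.all_wv (p := p) hF hA))

end Over

end CfsgLib.Orth.FrameMax
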