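import Cfsg.Agent.Lib.Classical.OrthFrameMax.Spread
import Cfsg.Agent.Lib.Classical.OrthDecompMax.Apply

set_option autoImplicit false
set_option linter.unusedSectionVars false

/-!
The stabiliser of a decomposition into orthogonal isometric lines is maximal in `Ω` over a prime field.
-/

namespace CfsgLib.Orth.FrameMax

open Matrix DecompMax
open scoped commutatorElement

variable {F : Type*} [Field F] [Finite F] {ι : Type} [Fintype ι] [DecidableEq ι]
variable {Q : QuadraticForm F (ι → F)}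

local notation "B" => QuadraticMap.polar (DFunLike.coe Q)

theorem exists_frame (hB : Nondeg Q) (h2 : (2 : F) ≠ 0) {t : ℕ} {D : Fin t → Submodule F (ι → F)}
    (hD : Cfsg.Geo.IsOrthogonalMDecomposition ⇑Q 1 D) :
    ∃ (e : Fin t → ι → F) (a : F), Frame Q e a ∧ ∀ i, D i = Submodule.span F {e i} := by
  have ht := hD.decomp.decomp.two_le
  let i0 : Fin t := ⟨0, by omega⟩
  have hrk := hD.decomp.decomp.finrank_eq
  obtain ⟨v, hv0, -⟩ := finrank_eq_one_iff'.1 (hrk i0)
  choose φ hφ using fun i => hD.isometric i0 i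
  have hne : ∀ i, ((φ i v : D i) : ι → F) ≠ 0 := fun i e0 =>
    hv0 ((φ i).injective (by rw [map_zero]; exact Subtype.ext e0))
  have hspan : ∀ i, D i = Submodule.span F {((φ i v : D i) : ι → F)} := fun i => by
    refine (Submodule.eq_of_le_of_finrank_eq ?_ ?_).symm
    · rw [Submodule.span_singleton_le_iff_mem]; exact (φ i v).2
    · rw [finrank_span_singleton (hne i), hrk]
  refine ⟨fun i => ((φ i v : D i) : ι → F), Q (v : ι → F), ⟨hB, h2, fun e0 => ?_, fun i => hφ i v,
    fun i j hij => hD.decomp.orthogonal i j hij _ (φ i v).2 _ (φ j v).2, ?_⟩, hspan⟩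
  · obtain ⟨-, y, hy, hne'⟩ :=
      (hD.decomp.nondegenerate i0) (v : ι → F) v.2 (fun e1 => hv0 (Subtype.ext e1))
    refine hne' ?_
    obtain ⟨w, hw0, hw⟩ := finrank_eq_one_iff'.1 (hrk i0)
    obtain ⟨c, hc⟩ := hw v
    obtain ⟨d, hd⟩ := hw ⟨y, hy⟩
    have hc' : (v : ι → F) = c • (w : ι → F) := (congrArg Subtype.val hc).symm
    have hd' : y = d • (w : ι → F) := (congrArg Subtype.val hd).symm
    have hc0 : c ≠ 0 := fun e1 => hv0 (Subtype.ext (by rw [hc', e1, zero_smul]; rfl))
    rw [hc', q_smul] at e0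
    have hw' : Q (w : ι → F) = 0 := (mul_eq_zero.1 e0).resolve_left (mul_ne_zero hc0 hc0)
    rw [hc', hd', b_smul_left, b_smul_right, b_self, hw']
    ring
  · rw [eq_top_iff, ← hD.decomp.decomp.iSup_eq_top]
    refine iSup_le fun i => ?_
    rw [hspan i]
    exact Submodule.span_mono (Set.singleton_subset_iff.2 ⟨i, rfl⟩)

theorem mono_iff {t : ℕ} {e : Fin t → ι → F} {a : F} (h : Frame Q e a)
    {D : Fin t → Submodule F (ι → F)} (hD : ∀ i, D i = Submodule.span F {e i}) {g : Grp Q} :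
    Mono e g ↔ (g : GL ι F) ∈ Cfsg.Geo.decompositionStabilizer D := by
  constructor
  · intro hg
    choose f c hc hf using h.mono_sign hg
    have hc0 : ∀ i, c i ≠ 0 := fun i e0 => zero_ne_one (α := F) (by rw [← hc i, e0, zero_mul])
    have hinj : Function.Injective f := fun i j hij => by
      by_contra hne
      have h0 := ap_b g (e i) (e j)
      rw [hf, hf, hij, b_smul_left, b_smul_right, b_self, h.q, h.orth i j hne] at h0
      exact mul_ne_zero (hc0 i) (mul_ne_zero (hc0 j) h.two_a) h0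
    refine ⟨Equiv.ofBijective f (Finite.injective_iff_bijective.1 hinj), fun i => ?_⟩
    rw [Equiv.ofBijective_apply, hD, hD, Submodule.map_span, Set.image_singleton]
    show Submodule.span F {ap g (e i)} = _
    rw [hf, Submodule.span_singleton_smul_eq (isUnit_iff_ne_zero.2 (hc0 i))]
  · rintro ⟨σ, hσ⟩ i
    have h1 : ap g (e i) ∈ D (σ i) :=
      hσ i ▸ ⟨e i, by rw [hD]; exact Submodule.mem_span_singleton_self _, rfl⟩
    rw [hD] at h1
    obtain ⟨c, hc⟩ := Submodule.mem_span_singleton.1 h1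
    exact ⟨σ i, c, hc.symm⟩

/-- The frame stabiliser is maximal. -/
theorem isMaximalIn_frame' (hB : Nondeg Q) (hcard : (Nat.card F).Prime) (h2 : (2 : F) ≠ 0) {t : ℕ}
    (ht : t = 7 ∨ 9 ≤ t) {D : Fin t → Submodule F (ι → F)}
    (hD : Cfsg.Geo.IsOrthogonalMDecomposition ⇑Q 1 D) :
    Cfsg.Geo.IsMaximalIn (Cfsg.Geo.omegaGL ⇑Q)
      (Cfsg.Geo.decompositionStabilizer D ⊓ Cfsg.Geo.omegaGL ⇑Q) := by
  classical
  haveI : Fact (Nat.card F).Prime := ⟨hcard⟩
  haveI : CharP F (Nat.card F) := by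
    cases nonempty_fintype F
    rw [Nat.card_eq_fintype_card] at hcard ⊢
    haveI : Fact (Fintype.card F).Prime := ⟨hcard⟩
    exact charP_of_card_eq_prime rfl
  have hF : ∀ x : F, ∃ k : ℕ, (k : F) = x := fun x => by
    cases nonempty_fintype F
    obtain ⟨z, hz⟩ := (ZMod.castHom_bijective (n := Nat.card F) F Nat.card_eq_fintype_card.symm).2 x
    exact ⟨z.val, by rw [← hz, ZMod.castHom_apply, ← ZMod.natCast_val]⟩
  obtain ⟨e, a, h, hspan⟩ := exists_frame hB h2 hD
  have hdim : 5 ≤ Module.finrank F (ι → F) := by rw [h.finrank_V]; omega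
  have hco : ∀ {x y : ι → F} {r s : Grp Q}, IsRefl x r → IsRefl y s → IsSquare (Q x * Q y) →
      r * s ∈ Cfsg.Omega F ⇑Q := fun {x y r s} hr hs hsq => by
    have := QuotientGroup.eq.1 (refl_coset hB hdim hr hs hsq)
    rwa [refl_inv' hr] at this
  refine isMaximalIn_omegaGL
    (H := (Cfsg.Geo.decompositionStabilizer D).comap (Cfsg.isometryGroup F ⇑Q).subtype)
    (fun _ => Iff.rfl) ⟨lt_of_le_not_ge inf_le_right fun hge => ?_, fun M h1 h2' => ?_⟩
  · obtain ⟨l, hl⟩ : ∃ l : Fin 5 → Fin t, Function.Injective l :=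
      ⟨Fin.castLE (by omega), Fin.castLE_injective _⟩
    have ho : ∀ {c d : Fin 5}, c ≠ d → B (e (l c)) (e (l d)) = 0 := fun hcd =>
      h.orth _ _ fun e0 => hcd (hl e0)
    have hne : ∀ {c d : Fin 5}, c ≠ d → l c ≠ l d := fun hcd e0 => hcd (hl e0)
    obtain ⟨x, hx⟩ : ∃ x, x = e (l 0) + e (l 1) + e (l 2) + e (l 3) := ⟨_, rfl⟩
    have hBx : B (e (l 0)) x = 2 * a := by
      rw [hx, b_add_right, b_add_right, b_add_right, b_self, h.q, ho (by decide), ho (by decide),
        ho (by decide)]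
      ring
    have hQx : Q x = 4 * a := by
      rw [hx, q_add, q_add, q_add, b_add_left, b_add_left, b_add_left, h.q, h.q, h.q, h.q,
        ho (by decide), ho (by decide), ho (by decide), ho (by decide), ho (by decide),
        ho (by decide)]
      ring
    have h4a : (4 : F) * a ≠ 0 := by
      rw [show (4 : F) = 2 * 2 by norm_num]
      exact mul_ne_zero (mul_ne_zero h2 h2) h.a0
    obtain ⟨r, hr⟩ := exists_refl hB (v := x) (by rw [hQx]; exact h4a)
    obtain ⟨s, hs⟩ := exists_refl hB (v := e (l 4)) (by rw [h.q]; exact h.a0)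
    have hm : Mono e (r * s) := (mono_iff h hspan).2
      (hge (hco hr hs ⟨2 * a, by rw [hQx, h.q]; ring⟩)).1
    have hax := hm (l 0)
    rw [ap_mul, refl_fix hs (ho (by decide)), hr.2, hQx, b_comm, hBx] at hax
    have h5 := h.axis_card hax
    have hsub : ({l 0, l 1} : Finset (Fin t)) ⊆ supp Q e a (e (l 0) - ((4 * a)⁻¹ * (2 * a)) • x) := by
      intro m hm'
      simp only [Finset.mem_insert, Finset.mem_singleton] at hm'
      rw [mem_supp, co_sub, co_smul, hx, co_add, co_add, co_add]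
      rcases hm' with rfl | rfl
      · rw [h.co_self, h.co_ne (hne (by decide)), h.co_ne (hne (by decide)), h.co_ne (hne (by decide))]
        intro e0
        refine mul_ne_zero h2 h.a0 ?_
        linear_combination (4 * a) * e0 + (2 * a) * (mul_inv_cancel₀ h4a)
      · rw [h.co_self, h.co_ne (hne (by decide)), h.co_ne (hne (by decide)), h.co_ne (hne (by decide))]
        simp only [zero_sub, zero_add, add_zero, mul_one, neg_ne_zero]
        exact mul_ne_zero (inv_ne_zero h4a) (mul_ne_zero h2 h.a0)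
    have h6 := Finset.card_le_card hsub
    rw [Finset.card_pair (hne (by decide))] at h6
    omega
  obtain ⟨z, hz⟩ := exists_iso hB (-LinearMap.id) (fun x => by
    rw [LinearMap.neg_apply, LinearMap.id_apply, ← neg_one_smul F x, q_smul]
    ring)
  have hz' : ∀ x, ap z x = -x := fun x => by rw [hz, LinearMap.neg_apply, LinearMap.id_apply]
  have hcomm : ∀ g : Grp Q, g * z = z * g := fun g => ext_ap fun x => by
    rw [ap_mul, ap_mul, hz', hz', ← neg_one_smul F x, ap_smul, neg_one_smul]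
  let Z := Subgroup.zpowers z
  have hZc : ∀ c ∈ Z, ∀ g : Grp Q, g * c = c * g := fun c hc g => by
    obtain ⟨k, rfl⟩ := Subgroup.mem_zpowers_iff.1 hc
    exact (Commute.zpow_right (hcomm g) k).eq
  haveI : Z.Normal := ⟨fun c hc g => by rw [hZc c hc g, mul_inv_cancel_right]; exact hc⟩
  have hover : Over Q e a (M ⊔ Z) := by
    refine ⟨h, ht, fun x y hx hy hqx hqy hsq => ⟨hqx, hqy, fun r s hr hs => ?_⟩,
      z, Subgroup.mem_sup_right (Subgroup.mem_zpowers z), hz'⟩
    exact Subgroup.mem_sup_left (h1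
      ⟨(mono_iff h hspan).1 (Frame.mono_mul (h.mono_refl hx hr) (h.mono_refl hy hs)), hco hr hs hsq⟩)
  rcases hover.omega_le_or_mono (p := Nat.card F) hF with hle | hmono
  · refine Or.inr (le_antisymm h2' ?_)
    refine le_trans (omega_perfect hB hdim).ge (Subgroup.commutator_le.2 fun x hx y hy => ?_)
    obtain ⟨m, hm, c, hc, rfl⟩ := Subgroup.mem_sup_of_normal_right.1 (hle hx)
    obtain ⟨m', hm', c', hc', rfl⟩ := Subgroup.mem_sup_of_normal_right.1 (hle hy)
    have : ⁅m * c, m' * c'⁆ = ⁅m, m'⁆ := by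
      rw [commutatorElement_def, commutatorElement_def]
      calc m * c * (m' * c') * (m * c)⁻¹ * (m' * c')⁻¹
          = m * (c * (m' * c')) * c⁻¹ * m⁻¹ * c'⁻¹ * m'⁻¹ := by group
        _ = m * m' * c' * m⁻¹ * c'⁻¹ * m'⁻¹ := by
            rw [← hZc c hc (m' * c')]; group
        _ = m * m' * (c' * m⁻¹) * c'⁻¹ * m'⁻¹ := by group
        _ = _ := by rw [← hZc c' hc' m⁻¹]; group
    rw [this, commutatorElement_def]
    exact mul_mem (mul_mem (mul_mem hm hm') (inv_mem hm)) (inv_mem hm')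
  · exact Or.inl (le_antisymm
      (fun g hg => ⟨(mono_iff h hspan).1 (hmono g (Subgroup.mem_sup_left hg)), h2' hg⟩) h1)

/-- The frame stabiliser is maximal in dimension at least nine. -/
theorem isMaximalIn_frame (hB : Nondeg Q) (hcard : (Nat.card F).Prime) (h2 : (2 : F) ≠ 0) {t : ℕ}
    (ht : 9 ≤ t) {D : Fin t → Submodule F (ι → F)}
    (hD : Cfsg.Geo.IsOrthogonalMDecomposition ⇑Q 1 D) :
    Cfsg.Geo.IsMaximalIn (Cfsg.Geo.omegaGL ⇑Q)
      (Cfsg.Geo.decompositionStabilizer D ⊓ Cfsg.Geo.omegaGL ⇑Q) :=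
  isMaximalIn_frame' hB hcard h2 (Or.inr ht) hD

end CfsgLib.Orth.FrameMax
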