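import Cfsg.Agent.Lib.Classical.OrthFix
import Cfsg.Agent.Lib.Classical.OrthDecompMax.Setup

set_option autoImplicit false
set_option linter.unusedSectionVars false

/-!
Orthogonal frames: coordinates, supports, mirrors of monomial reflections, monomial isometries.
-/

namespace CfsgLib.Orth.FrameMax

open Matrix DecompMax

variable {F : Type*} [Field F] [Finite F] {ι : Type} [Fintype ι] [DecidableEq ι]

/-- An orthogonal basis with constant norm. -/
structure Frame (Q : QuadraticForm F (ι → F)) {n : ℕ} (e : Fin n → ι → F) (a : F) : Prop where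
  nd : Nondeg Q
  two : (2 : F) ≠ 0
  a0 : a ≠ 0
  q : ∀ i, Q (e i) = a
  orth : ∀ i j, i ≠ j → QuadraticMap.polar ⇑Q (e i) (e j) = 0
  top : Submodule.span F (Set.range e) = ⊤

variable {Q : QuadraticForm F (ι → F)} {n : ℕ} {e : Fin n → ι → F} {a : F}

local notation "B" => QuadraticMap.polar (DFunLike.coe Q)

/-- The coordinate along one member of the frame. -/
def co (Q : QuadraticForm F (ι → F)) (e : Fin n → ι → F) (a : F) (i : Fin n) (x : ι → F) : F :=
  QuadraticMap.polar ⇑Q (e i) x / (2 * a)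

/-- The support. -/
noncomputable def supp (Q : QuadraticForm F (ι → F)) (e : Fin n → ι → F) (a : F) (x : ι → F) :
    Finset (Fin n) :=
  haveI := Classical.decPred fun i => co Q e a i x ≠ 0
  Finset.univ.filter fun i => co Q e a i x ≠ 0

/-- A multiple of a member of the frame. -/
def Axis (e : Fin n → ι → F) (x : ι → F) : Prop := ∃ (i : Fin n) (c : F), x = c • e i

/-- A mirror of a monomial reflection. -/
def Mir (e : Fin n → ι → F) (x : ι → F) : Prop :=
  Axis e x ∨ ∃ i j, i ≠ j ∧ ∃ c σ : F, σ * σ = 1 ∧ x = c • (e i + σ • e j)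

/-- A monomial isometry. -/
def Mono (e : Fin n → ι → F) (g : Grp Q) : Prop := ∀ i, Axis e (ap g (e i))

theorem co_add (i : Fin n) (x y : ι → F) : co Q e a i (x + y) = co Q e a i x + co Q e a i y := by
  simp only [co, b_add_right, add_div]

theorem co_sub (i : Fin n) (x y : ι → F) : co Q e a i (x - y) = co Q e a i x - co Q e a i y := by
  simp only [co, b_sub_right, sub_div]

theorem co_smul (i : Fin n) (c : F) (x : ι → F) : co Q e a i (c • x) = c * co Q e a i x := by
  simp only [co, b_smul_right, mul_div_assoc]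

theorem co_zero (i : Fin n) : co Q e a i 0 = 0 := by simp only [co, b_zero_right, zero_div]

theorem co_sum {α : Type*} (s : Finset α) (f : α → ι → F) (i : Fin n) :
    co Q e a i (∑ x ∈ s, f x) = ∑ x ∈ s, co Q e a i (f x) := by
  simp only [co, ← QuadraticMap.polarBilin_apply_apply, map_sum, Finset.sum_div]

theorem mem_supp {x : ι → F} {i : Fin n} : i ∈ supp Q e a x ↔ co Q e a i x ≠ 0 := by
  classical
  simp [supp]

theorem notMem_supp {x : ι → F} {i : Fin n} : i ∉ supp Q e a x ↔ co Q e a i x = 0 := by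
  rw [mem_supp, not_not]

theorem supp_add_le (x y : ι → F) : supp Q e a (x + y) ⊆ supp Q e a x ∪ supp Q e a y := fun i hi => by
  rw [Finset.mem_union, mem_supp, mem_supp]
  by_contra h
  push Not at h
  exact mem_supp.1 hi (by rw [co_add, h.1, h.2, add_zero])

theorem supp_smul_le (c : F) (x : ι → F) : supp Q e a (c • x) ⊆ supp Q e a x := fun i hi => by
  rw [mem_supp, co_smul] at hi
  exact mem_supp.2 (mul_ne_zero_iff.1 hi).2

theorem supp_span_pair {u v x : ι → F} (h : x ∈ Submodule.span F ({u, v} : Set (ι → F))) :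
    supp Q e a x ⊆ supp Q e a u ∪ supp Q e a v := by
  obtain ⟨p, r, rfl⟩ := Submodule.mem_span_pair.1 h
  exact (supp_add_le _ _).trans (Finset.union_subset_union (supp_smul_le _ _) (supp_smul_le _ _))

theorem supp_smul {c : F} (hc : c ≠ 0) (x : ι → F) : supp Q e a (c • x) = supp Q e a x := by
  refine Finset.Subset.antisymm (supp_smul_le c x) ?_
  conv_lhs => rw [show x = c⁻¹ • c • x by rw [smul_smul, inv_mul_cancel₀ hc, one_smul]]
  exact supp_smul_le _ _

namespace Frame

variable (h : Frame Q e a)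
include h

theorem two_a : (2 * a : F) ≠ 0 := mul_ne_zero h.two h.a0

theorem b_e (i j : Fin n) : B (e i) (e j) = if i = j then 2 * a else 0 := by
  split_ifs with hij
  · rw [hij, b_self, h.q]
  · exact h.orth i j hij

theorem b_co (i : Fin n) (x : ι → F) : B (e i) x = 2 * a * co Q e a i x := by
  rw [co, mul_div_cancel₀ _ h.two_a]

theorem co_e (i j : Fin n) : co Q e a i (e j) = if i = j then 1 else 0 := by
  rw [co, h.b_e]
  split_ifs
  · rw [div_self h.two_a]
  · rw [zero_div]

theorem co_self (i : Fin n) : co Q e a i (e i) = 1 := by rw [h.co_e, if_pos rfl]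

theorem co_ne {i j : Fin n} (hij : i ≠ j) : co Q e a i (e j) = 0 := by rw [h.co_e, if_neg hij]

theorem eq_zero {x : ι → F} (hx : ∀ i, co Q e a i x = 0) : x = 0 := by
  refine h.nd x fun y => ?_
  have hy : y ∈ Submodule.span F (Set.range e) := by rw [h.top]; trivial
  induction hy using Submodule.span_induction with
  | mem z hz =>
    obtain ⟨i, rfl⟩ := hz
    rw [b_comm, h.b_co, hx, mul_zero]
  | zero => exact b_zero_right x
  | add p q _ _ hp hq => rw [b_add_right, hp, hq, add_zero]
  | smul c p _ hp => rw [b_smul_right, hp, mul_zero]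

theorem ext {x y : ι → F} (hxy : ∀ i, co Q e a i x = co Q e a i y) : x = y :=
  sub_eq_zero.1 (h.eq_zero fun i => by rw [co_sub, hxy, sub_self])

theorem sum_co (x : ι → F) : ∑ i, co Q e a i x • e i = x := by
  refine h.ext fun j => ?_
  rw [co_sum, Finset.sum_eq_single j (fun i _ hij => by rw [co_smul, h.co_ne hij.symm, mul_zero])
    (fun hj => absurd (Finset.mem_univ j) hj), co_smul, h.co_self, mul_one]

theorem e_ne (i : Fin n) : e i ≠ 0 := fun he => h.a0 (by rw [← h.q i, he, QuadraticMap.map_zero])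

theorem b_eq (x y : ι → F) : B x y = 2 * a * ∑ i, co Q e a i x * co Q e a i y := by
  conv_lhs => rw [← h.sum_co x]
  rw [← QuadraticMap.polarBilin_apply_apply, map_sum, LinearMap.sum_apply, Finset.mul_sum]
  refine Finset.sum_congr rfl fun i _ => ?_
  rw [QuadraticMap.polarBilin_apply_apply, b_smul_left, h.b_co]
  ring

theorem q_eq (x : ι → F) : Q x = a * ∑ i, co Q e a i x * co Q e a i x := by
  refine mul_left_cancel₀ h.two ?_
  rw [← b_self (Q := Q), h.b_eq]
  ring

theorem q_eq_supp (x : ι → F) :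
    Q x = a * ∑ i ∈ supp Q e a x, co Q e a i x * co Q e a i x := by
  rw [h.q_eq, Finset.sum_subset (Finset.subset_univ (supp Q e a x)) fun i _ hi => by
    rw [notMem_supp.1 hi, mul_zero]]

theorem supp_e (i : Fin n) : supp Q e a (e i) = {i} := by
  ext j
  rw [mem_supp, Finset.mem_singleton, h.co_e]
  split_ifs with hji <;> simp [hji]

theorem supp_smul_e {c : F} (hc : c ≠ 0) (i : Fin n) : supp Q e a (c • e i) = {i} := by
  rw [supp_smul hc, h.supp_e]

theorem supp_eq_empty {x : ι → F} (hx : supp Q e a x = ∅) : x = 0 :=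
  h.eq_zero fun i => notMem_supp.1 (by rw [hx]; exact Finset.notMem_empty i)

theorem axis_of_supp {x : ι → F} (hx : (supp Q e a x).card ≤ 1) (i0 : Fin n) : Axis e x := by
  classical
  haveI : Nonempty (Fin n) := ⟨i0⟩
  rcases Finset.card_le_one_iff_subset_singleton.1 hx with ⟨i, hi⟩
  refine ⟨i, co Q e a i x, h.ext fun j => ?_⟩
  rw [co_smul, h.co_e]
  split_ifs with hji
  · rw [hji, mul_one]
  · rw [mul_zero]
    exact notMem_supp.1 fun hj => hji (Finset.mem_singleton.1 (hi hj))

theorem axis_card {x : ι → F} (hx : Axis e x) : (supp Q e a x).card ≤ 1 := by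
  obtain ⟨i, c, rfl⟩ := hx
  exact le_trans (Finset.card_le_card (supp_smul_le c _)) (by rw [h.supp_e, Finset.card_singleton])

theorem co_pair {i j : Fin n} (hij : i ≠ j) (c σ : F) (l : Fin n) :
    co Q e a l (c • (e i + σ • e j)) = if l = i then c else if l = j then c * σ else 0 := by
  rw [co_smul, co_add, co_smul, h.co_e, h.co_e]
  split_ifs with h1 h2 h3
  · exact absurd (h1.symm.trans h2) hij
  all_goals ring

theorem supp_pair_le {i j : Fin n} (hij : i ≠ j) (c σ : F) :
    supp Q e a (c • (e i + σ • e j)) ⊆ {i, j} := fun l hl => by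
  rw [mem_supp, h.co_pair hij] at hl
  rw [Finset.mem_insert, Finset.mem_singleton]
  by_contra hc
  push Not at hc
  exact hl (by rw [if_neg hc.1, if_neg hc.2])

theorem supp_pair {i j : Fin n} (hij : i ≠ j) {c σ : F} (hc : c ≠ 0) (hσ : σ * σ = 1) :
    supp Q e a (c • (e i + σ • e j)) = {i, j} := by
  refine Finset.Subset.antisymm (h.supp_pair_le hij c σ) fun l hl => ?_
  rw [Finset.mem_insert, Finset.mem_singleton] at hl
  rw [mem_supp, h.co_pair hij]
  rcases hl with rfl | rfl
  · rwa [if_pos rfl]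
  · rw [if_neg hij.symm, if_pos rfl]
    exact mul_ne_zero hc fun e0 => zero_ne_one (α := F) (by rw [← hσ, e0, zero_mul])

theorem q_pair {i j : Fin n} (hij : i ≠ j) (c σ : F) (hσ : σ * σ = 1) :
    Q (c • (e i + σ • e j)) = c * c * (2 * a) := by
  rw [q_smul, q_add, q_smul, h.q, h.q, b_smul_right, h.orth i j hij, hσ]
  ring

theorem mir_card {x : ι → F} (hx : Mir e x) : (supp Q e a x).card ≤ 2 := by
  rcases hx with hx | ⟨i, j, hij, c, σ, -, rfl⟩
  · exact (h.axis_card hx).trans one_le_two
  · exact le_trans (Finset.card_le_card (h.supp_pair_le hij c σ))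
      ((Finset.card_insert_le _ _).trans (by rw [Finset.card_singleton]))

/-- A mirror has all its non-zero coordinates equal up to sign. -/
theorem mir_sq {x : ι → F} (hx : Mir e x) {i j : Fin n} (hi : i ∈ supp Q e a x)
    (hj : j ∈ supp Q e a x) :
    co Q e a i x * co Q e a i x = co Q e a j x * co Q e a j x := by
  rcases hx with ⟨l, c, rfl⟩ | ⟨p, r, hpr, c, σ, hσ, rfl⟩
  · have h1 := supp_smul_le (Q := Q) (a := a) c (e l) hi
    have h2 := supp_smul_le (Q := Q) (a := a) c (e l) hj
    rw [h.supp_e, Finset.mem_singleton] at h1 h2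
    rw [h1, h2]
  · have hsq : ∀ l ∈ supp Q e a (c • (e p + σ • e r)),
        co Q e a l (c • (e p + σ • e r)) * co Q e a l (c • (e p + σ • e r)) = c * c := fun l hl => by
      have := h.supp_pair_le hpr c σ hl
      rw [Finset.mem_insert, Finset.mem_singleton] at this
      rw [h.co_pair hpr]
      rcases this with rfl | rfl
      · rw [if_pos rfl]
      · rw [if_neg hpr.symm, if_pos rfl]; linear_combination (c * c) * hσ
    rw [hsq i hi, hsq j hj]

theorem mir_of_two {x : ι → F} {i j : Fin n} (hij : i ≠ j) (hs : supp Q e a x ⊆ {i, j})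
    (hi : co Q e a i x ≠ 0)
    (hsq : co Q e a i x * co Q e a i x = co Q e a j x * co Q e a j x) : Mir e x := by
  refine Or.inr ⟨i, j, hij, co Q e a i x, co Q e a j x / co Q e a i x, ?_, h.ext fun l => ?_⟩
  · field_simp
    linear_combination -hsq
  · rw [h.co_pair hij]
    split_ifs with h1 h2
    · rw [h1]
    · rw [h2]; field_simp
    · refine notMem_supp.1 fun hl => ?_
      have := hs hl
      rw [Finset.mem_insert, Finset.mem_singleton] at this
      exact this.elim h1 h2

theorem mir_smul {x : ι → F} (hx : Mir e x) (c : F) : Mir e (c • x) := by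
  rcases hx with ⟨i, d, rfl⟩ | ⟨i, j, hij, d, σ, hσ, rfl⟩
  · exact Or.inl ⟨i, c * d, smul_smul c d _⟩
  · exact Or.inr ⟨i, j, hij, c * d, σ, hσ, smul_smul c d _⟩

omit h in
theorem mir_e (i : Fin n) : Mir e (e i) := Or.inl ⟨i, 1, (one_smul F _).symm⟩

/-! ### Monomial isometries -/

omit h in
theorem mono_one : Mono e (1 : Grp Q) := fun i => ⟨i, 1, by rw [ap_one, one_smul]⟩

omit h in
theorem mono_mul {g k : Grp Q} (hg : Mono e g) (hk : Mono e k) : Mono e (g * k) := fun i => by
  obtain ⟨j, c, hj⟩ := hk i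
  obtain ⟨l, d, hl⟩ := hg j
  exact ⟨l, c * d, by rw [ap_mul, hj, ap_smul, hl, smul_smul]⟩

theorem mono_sign {g : Grp Q} (hg : Mono e g) (i : Fin n) :
    ∃ (j : Fin n) (c : F), c * c = 1 ∧ ap g (e i) = c • e j := by
  obtain ⟨j, c, hj⟩ := hg i
  refine ⟨j, c, ?_, hj⟩
  have := ap_q g (e i)
  rw [hj, q_smul, h.q, h.q] at this
  exact mul_right_cancel₀ h.a0 (by rw [this, one_mul])

theorem mono_inv {g : Grp Q} (hg : Mono e g) : Mono e g⁻¹ := by
  choose f c hc hf using h.mono_sign hg
  have hinj : Function.Injective f := fun i j hij => by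
    by_contra hne
    have h0 := ap_b g (e i) (e j)
    rw [hf, hf, hij, b_smul_left, b_smul_right, h.orth i j hne, h.b_e, if_pos rfl] at h0
    rcases mul_eq_zero.1 h0 with h1 | h1
    · exact zero_ne_one (α := F) (by rw [← hc i, h1, zero_mul])
    · rcases mul_eq_zero.1 h1 with h2 | h2
      · exact zero_ne_one (α := F) (by rw [← hc j, h2, zero_mul])
      · exact h.two_a h2
  intro j
  obtain ⟨i, rfl⟩ := (Finite.injective_iff_surjective.1 hinj) j
  refine ⟨i, c i, ap_inj g ?_⟩
  rw [ap_ap_inv, ap_smul, hf, smul_smul, hc, one_smul]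

/-- The reflection in a mirror is monomial. -/
theorem mono_refl {x : ι → F} (hx : Mir e x) {r : Grp Q} (hr : IsRefl x r) : Mono e r := by
  intro l
  rcases hx with ⟨i, c, rfl⟩ | ⟨i, j, hij, c, σ, hσ, rfl⟩
  · have hc : c ≠ 0 := fun e0 => hr.1 (by rw [e0, zero_smul, QuadraticMap.map_zero])
    have hr' : IsRefl (e i) r := by
      have := refl_smul hr (inv_ne_zero hc)
      rwa [smul_smul, inv_mul_cancel₀ hc, one_smul] at this
    by_cases hl : i = l
    · subst hl
      exact ⟨i, -1, by rw [refl_self hr', neg_one_smul]⟩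
    · exact ⟨l, 1, by rw [refl_fix hr' (h.orth i l hl), one_smul]⟩
  · have hc : c ≠ 0 := fun e0 => hr.1 (by rw [e0, zero_smul, QuadraticMap.map_zero])
    have hr' : IsRefl (e i + σ • e j) r := by
      have := refl_smul hr (inv_ne_zero hc)
      rwa [smul_smul, inv_mul_cancel₀ hc, one_smul] at this
    have hQ : Q (e i + σ • e j) = 2 * a := by
      have := h.q_pair hij 1 σ hσ
      rwa [one_smul, one_mul, one_mul] at this
    have hb : ∀ m, B (e i + σ • e j) (e m) =
        (if i = m then 2 * a else 0) + σ * (if j = m then 2 * a else 0) := fun m => by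
      rw [b_add_left, b_smul_left, h.b_e, h.b_e]
    have h2a := h.two_a
    by_cases hli : i = l
    · subst hli
      refine ⟨j, -σ, ?_⟩
      rw [hr'.2, hQ, hb, if_pos rfl, if_neg hij.symm, mul_zero, add_zero, inv_mul_cancel₀ h2a,
        one_smul]
      module
    by_cases hlj : j = l
    · subst hlj
      refine ⟨i, -σ, ?_⟩
      rw [hr'.2, hQ, hb, if_neg hij, if_pos rfl, zero_add,
        show (2 * a)⁻¹ * (σ * (2 * a)) = σ by rw [mul_left_comm, inv_mul_cancel₀ h2a, mul_one], smul_add, smul_smul, hσ]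
      module
    · refine ⟨l, 1, ?_⟩
      rw [refl_fix hr' (by rw [hb, if_neg hli, if_neg hlj, mul_zero, add_zero]), one_smul]

/-- A vector whose reflection is monomial is a mirror. -/
theorem mir_of_refl {x : ι → F} {r : Grp Q} (hr : IsRefl x r) (hm : Mono e r) : Mir e x := by
  classical
  have hx0 : x ≠ 0 := fun e0 => hr.1 (by rw [e0, QuadraticMap.map_zero])
  obtain ⟨i, hi⟩ : ∃ i, co Q e a i x ≠ 0 := by
    by_contra hc
    push Not at hc
    exact hx0 (h.eq_zero hc)
  obtain ⟨j, c, hc, hj⟩ := h.mono_sign hm i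
  have hb : B x (e i) ≠ 0 := by rw [b_comm, h.b_co]; exact mul_ne_zero h.two_a hi
  have hd : ((Q x)⁻¹ * B x (e i)) ≠ 0 := mul_ne_zero (inv_ne_zero hr.1) hb
  have hx : x = ((Q x)⁻¹ * B x (e i))⁻¹ • (e i - c • e j) := by
    rw [← hj, hr.2, sub_sub_cancel, smul_smul, inv_mul_cancel₀ hd, one_smul]
  rw [hx]
  refine h.mir_smul ?_ _
  by_cases hij : i = j
  · subst hij
    exact Or.inl ⟨i, 1 - c, by module⟩
  · exact Or.inr ⟨i, j, hij, 1, -c, by rw [neg_mul_neg, hc], by module⟩

/-- The displacement of a monomial isometry contains a mirror. -/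
theorem exists_mir_disp {g : Grp Q} (hg : Mono e g) {i : Fin n} (hi : ap g (e i) ≠ e i) :
    Mir e (ap g (e i) - e i) ∧ co Q e a i (ap g (e i) - e i) ≠ 0 := by
  obtain ⟨j, c, hc, hj⟩ := h.mono_sign hg i
  rw [hj] at hi ⊢
  by_cases hij : i = j
  · subst hij
    refine ⟨Or.inl ⟨i, c - 1, by module⟩, ?_⟩
    rw [co_sub, co_smul, h.co_self, mul_one]
    exact sub_ne_zero.2 fun e0 => hi (by rw [e0, one_smul])
  · refine ⟨Or.inr ⟨i, j, hij, -1, -c, by rw [neg_mul_neg, hc], by module⟩, ?_⟩
    rw [co_sub, co_smul, h.co_self, h.co_ne hij, mul_zero, zero_sub]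
    exact neg_ne_zero.2 one_ne_zero

theorem exists_moved {g : Grp Q} (hg : g ≠ 1) : ∃ i, ap g (e i) ≠ e i := by
  by_contra hc
  push Not at hc
  refine hg (ext_ap fun x => ?_)
  rw [ap_one, ← h.sum_co x]
  have hl : ∀ y : ι → F, ap g y = Matrix.mulVecLin ((g : GL ι F) : Matrix ι ι F) y := fun y => rfl
  rw [hl, map_sum]
  exact Finset.sum_congr rfl fun i _ => by rw [map_smul, ← hl, hc]

end Frame

end CfsgLib.Orth.FrameMax
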