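import Cfsg.Agent.Lib.Classical.OrthFrameMax.Group

set_option autoImplicit false
set_option linter.unusedSectionVars false

/-!
The reflection group of a coordinate subspace: the centraliser of a pair of frame reflections is monomial,
so the squares of the coordinates of a related vector with full support agree.
-/

namespace CfsgLib.Orth.FrameMax

open Matrix DecompMax

variable {F : Type*} [Field F] [Finite F] {ι : Type} [Fintype ι] [DecidableEq ι]
variable {Q : QuadraticForm F (ι → F)} {n : ℕ} {e : Fin n → ι → F} {a : F} {M : Subgroup (Grp Q)}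

local notation "B" => QuadraticMap.polar (DFunLike.coe Q)

theorem refl_mul_apply_perp {u v : ι → F} {r s : Grp Q} (hr : IsRefl u r) (hs : IsRefl v s)
    {x : ι → F} (hu : B u x = 0) (hv : B v x = 0) : ap (r * s) x = x := by
  rw [ap_mul, refl_fix hs hv, refl_fix hr hu]

namespace Over

variable (h : Over Q e a M)
include h

theorem wv_mir {x : ι → F} (hx : Mir e x) (hq : Q x = a) : Wv M e a x :=
  ⟨hq, fun i => h.rel _ _ (Frame.mir_e i) hx (by rw [h.q]; exact h.a0) (by rw [hq]; exact h.a0)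
    ⟨a, by rw [h.q, hq]⟩⟩

theorem wv_e (i : Fin n) : Wv M e a (e i) := h.wv_mir (Frame.mir_e i) (h.q i)

omit h in
theorem wv_rel {x y : ι → F} (hB : Nondeg Q) (i : Fin n) (hx : Wv M e a x) (hy : Wv M e a y) :
    Rel M x y := rel_trans hB (rel_symm (hx.2 i)) (hy.2 i)

theorem wv_of_rel {x y : ι → F} (hy : Wv M e a y) (hxy : Rel M y x) (hq : Q x = a) : Wv M e a x :=
  ⟨hq, fun i => rel_trans h.nd (hy.2 i) hxy⟩

theorem wv_refl {w x : ι → F} (hw : Wv M e a w) (hx : Wv M e a x) {r : Grp Q} (hr : IsRefl w r) :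
    Wv M e a (ap r x) :=
  h.wv_of_rel hw (rel_refl h.nd (wv_rel h.nd ⟨0, by have := h.nine; omega⟩ hw hx) hr)
    (by rw [ap_q]; exact hx.1)

theorem supp_refl {w x : ι → F} {r : Grp Q} (hr : IsRefl w r) {S : Finset (Fin n)}
    (hw : supp Q e a w ⊆ S) (hx : supp Q e a x ⊆ S) : supp Q e a (ap r x) ⊆ S := by
  rw [hr.2]
  intro l hl
  by_contra hc
  rw [mem_supp, co_sub, co_smul, notMem_supp.1 fun h1 => hc (hx h1),
    notMem_supp.1 fun h1 => hc (hw h1), mul_zero, sub_zero] at hl
  exact hl rfl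

theorem gs_spec {S : Finset (Fin n)} {g : Grp Q} (hg : g ∈ gs M e a S) :
    (∀ x, Wv M e a x → supp Q e a x ⊆ S → Wv M e a (ap g x) ∧ supp Q e a (ap g x) ⊆ S) ∧
      ∀ c ∉ S, ap g (e c) = e c := by
  have gen : ∀ r ∈ {r : Grp Q | ∃ x, Wv M e a x ∧ supp Q e a x ⊆ S ∧ IsRefl x r},
      (∀ x, Wv M e a x → supp Q e a x ⊆ S → Wv M e a (ap r x) ∧ supp Q e a (ap r x) ⊆ S) ∧
        ∀ c ∉ S, ap r (e c) = e c := by
    rintro r ⟨w, hw, hws, hr⟩
    refine ⟨fun x hx hxs => ⟨h.wv_refl hw hx hr, h.supp_refl hr hws hxs⟩, fun c hc => ?_⟩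
    refine refl_fix hr ?_
    rw [b_comm, h.b_co, notMem_supp.1 fun h1 => hc (hws h1), mul_zero]
  induction hg using Subgroup.closure_induction'' with
  | mem r hr => exact gen r hr
  | inv_mem r hr =>
    obtain ⟨w, hw, hws, hr'⟩ := hr
    rw [refl_inv hr']
    exact gen r ⟨w, hw, hws, hr'⟩
  | one => exact ⟨fun x hx hxs => by rw [ap_one]; exact ⟨hx, hxs⟩, fun c _ => ap_one _⟩
  | mul g k _ _ ihg ihk =>
    refine ⟨fun x hx hxs => ?_, fun c hc => by rw [ap_mul, ihk.2 c hc, ihg.2 c hc]⟩
    rw [ap_mul]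
    obtain ⟨h1, h2⟩ := ihk.1 x hx hxs
    exact ihg.1 _ h1 h2

theorem co_pair_refl {i j : Fin n} (hij : i ≠ j) {r s : Grp Q} (hr : IsRefl (e i) r)
    (hs : IsRefl (e j) s) (x : ι → F) (l : Fin n) :
    co Q e a l (ap (r * s) x) = (if l = i ∨ l = j then -1 else 1) * co Q e a l x := by
  have key : ∀ (m : Fin n) (t : Grp Q), IsRefl (e m) t → ∀ y : ι → F,
      co Q e a l (ap t y) = (if l = m then -1 else 1) * co Q e a l y := fun m t ht y => by
    rw [ht.2, co_sub, co_smul, h.co_e, h.q, h.b_co]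
    have := h.a0
    split_ifs with h1
    · subst h1; field_simp; ring
    · ring
  rw [ap_mul, key i r hr, key j s hs]
  by_cases h1 : l = i
  · rw [if_pos h1, if_neg (h1 ▸ hij), if_pos (Or.inl h1), one_mul]
  · by_cases h2 : l = j
    · rw [if_neg h1, if_pos h2, if_pos (Or.inr h2), one_mul]
    · rw [if_neg h1, if_neg h2, if_neg (not_or.2 ⟨h1, h2⟩), one_mul, one_mul]

theorem supp_cent {i j : Fin n} (hij : i ≠ j) {r s g : Grp Q} (hr : IsRefl (e i) r)
    (hs : IsRefl (e j) s) (hg : g * (r * s) = r * s * g) {S : Finset (Fin n)} {l : Fin n}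
    (hsub : supp Q e a (ap g (e l)) ⊆ S) :
    (l = i ∨ l = j → supp Q e a (ap g (e l)) ⊆ {i, j}) ∧
      (¬(l = i ∨ l = j) → supp Q e a (ap g (e l)) ⊆ S \ {i, j}) := by
  classical
  have hsl : ap (r * s) (e l) = (if l = i ∨ l = j then (-1 : F) else 1) • e l := by
    refine h.ext fun m => ?_
    rw [h.co_pair_refl hij hr hs, co_smul, h.co_e]
    by_cases hm : m = l
    · subst hm; rfl
    · rw [if_neg hm, mul_zero, mul_zero]
  have hco : ∀ m, (if m = i ∨ m = j then (-1 : F) else 1) * co Q e a m (ap g (e l)) =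
      (if l = i ∨ l = j then (-1 : F) else 1) * co Q e a m (ap g (e l)) := fun m => by
    rw [← h.co_pair_refl hij hr hs, ← ap_mul, ← hg, ap_mul, hsl, ap_smul, co_smul]
  have hne : (1 : F) ≠ -1 := fun h1 => h.two (by linear_combination h1)
  constructor
  · intro hl m hm
    rw [Finset.mem_insert, Finset.mem_singleton]
    by_contra hc
    have := hco m
    rw [if_neg hc, if_pos hl] at this
    exact hne (mul_right_cancel₀ (mem_supp.1 hm) this)
  · intro hl m hm
    rw [Finset.mem_sdiff, Finset.mem_insert, Finset.mem_singleton]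
    refine ⟨hsub hm, fun hc => ?_⟩
    have := hco m
    rw [if_pos hc, if_neg hl] at this
    exact hne (mul_right_cancel₀ (mem_supp.1 hm) this).symm

/-- No three orthogonal unit vectors share a pair of coordinates. -/
theorem no_three_in_pair {p q : Fin n} {u v w : ι → F}
    (hu : supp Q e a u ⊆ {p, q}) (hv : supp Q e a v ⊆ {p, q}) (hw : supp Q e a w ⊆ {p, q})
    (qu : Q u ≠ 0) (qv : Q v ≠ 0) (qw : Q w ≠ 0) (huv : B u v = 0) (huw : B u w = 0)
    (hvw : B v w = 0) (hpq : p ≠ q) : False := by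
  classical
  have hb : ∀ x y : ι → F, supp Q e a x ⊆ {p, q} → B x y =
      2 * a * (co Q e a p x * co Q e a p y + co Q e a q x * co Q e a q y) := fun x y hx => by
    rw [h.b_eq, ← Finset.sum_subset (Finset.subset_univ ({p, q} : Finset (Fin n)))
      (fun l _ hl => by rw [notMem_supp.1 fun h1 => hl (hx h1), zero_mul]), Finset.sum_pair hpq]
  have ne0 : ∀ x y : ι → F, supp Q e a x ⊆ {p, q} → B x y = 0 →
      co Q e a p x * co Q e a p y + co Q e a q x * co Q e a q y = 0 := fun x y hx hxy => by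
    rw [hb x y hx] at hxy
    exact (mul_eq_zero.1 hxy).resolve_left h.two_a
  have hqq : ∀ x : ι → F, supp Q e a x ⊆ {p, q} → Q x =
      a * (co Q e a p x * co Q e a p x + co Q e a q x * co Q e a q x) := fun x hx => by
    refine mul_left_cancel₀ h.two ?_
    rw [← b_self (Q := Q), hb x x hx]
    ring
  rw [hqq u hu] at qu
  rw [hqq v hv] at qv
  rw [hqq w hw] at qw
  replace huv := ne0 u v hu huv
  replace huw := ne0 u w hu huw
  replace hvw := ne0 v w hv hvw
  generalize co Q e a p u = u1, co Q e a q u = u2, co Q e a p v = v1, co Q e a q v = v2,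
    co Q e a p w = w1, co Q e a q w = w2 at *
  have hd : v1 * w2 - v2 * w1 = 0 := by
    have e1 : u1 * (v1 * w2 - v2 * w1) = 0 := by linear_combination w2 * huv - v2 * huw
    have e2 : u2 * (v1 * w2 - v2 * w1) = 0 := by linear_combination -w1 * huv + v1 * huw
    rcases mul_eq_zero.1 e1 with h1 | h1
    · rcases mul_eq_zero.1 e2 with h2 | h2
      · exact absurd (by rw [h1, h2]; ring) qu
      · exact h2
    · exact h1
  have e3 : (v1 * v1 + v2 * v2) * w1 = 0 := by linear_combination v1 * hvw - v2 * hd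
  have e4 : (v1 * v1 + v2 * v2) * w2 = 0 := by linear_combination v2 * hvw + v1 * hd
  have hv' : v1 * v1 + v2 * v2 ≠ 0 := fun h0 => qv (by rw [h0, mul_zero])
  exact qw (by rw [(mul_eq_zero.1 e3).resolve_left hv', (mul_eq_zero.1 e4).resolve_left hv']; ring)

/-- In the reflection group of a coordinate subspace the centraliser of a pair is monomial. -/
theorem cent_mono {S : Finset (Fin n)} (hS : 4 ≤ S.card) (h3 : Tame M e a 3)
    (hk : Tame M e a (S.card - 2)) (h4 : S.card = 5 ∨ NoQuad M e a)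
    {i j : Fin n} (hi : i ∈ S) (hj : j ∈ S) (hij : i ≠ j) {r s g : Grp Q} (hr : IsRefl (e i) r)
    (hs : IsRefl (e j) s) (hgS : g ∈ gs M e a S) (hg : g * (r * s) = r * s * g) : Mono e g := by
  classical
  obtain ⟨hgW, hgF⟩ := h.gs_spec hgS
  have hse : ∀ l ∈ S, supp Q e a (e l) ⊆ S := fun l hl => by
    rw [h.supp_e, Finset.singleton_subset_iff]; exact hl
  have hW : ∀ l ∈ S, Wv M e a (ap g (e l)) := fun l hl => (hgW _ (h.wv_e l) (hse l hl)).1
  have hmir : ∀ l ∈ S, Mir e (ap g (e l)) := by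
    intro l hl
    obtain ⟨h1, h2⟩ := h.supp_cent hij hr hs hg (hgW _ (h.wv_e l) (hse l hl)).2
    by_cases hl' : l = i ∨ l = j
    · refine hk _ (hW l hl) ((Finset.card_le_card (h1 hl')).trans ?_)
      exact (Finset.card_insert_le _ _).trans (by rw [Finset.card_singleton]; omega)
    · refine hk _ (hW l hl) ((Finset.card_le_card (h2 hl')).trans ?_)
      have hsub : ({i, j} : Finset (Fin n)) ⊆ S := by
        intro x hx
        simp only [Finset.mem_insert, Finset.mem_singleton] at hx
        rcases hx with rfl | rfl <;> assumption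
      rw [Finset.card_sdiff_of_subset hsub, Finset.card_pair hij]
  intro l
  by_cases hlS : l ∈ S
  swap
  · exact ⟨l, 1, by rw [hgF l hlS, one_smul]⟩
  rcases hmir l hlS with hax | ⟨p, q, hpq, c, σ, hσ, hl⟩
  · exact hax
  exfalso
  have hqn : ∀ m, Q (ap g (e m)) ≠ 0 := fun m => by rw [ap_q, h.q]; exact h.a0
  have horth : ∀ m m', m ≠ m' → B (ap g (e m)) (ap g (e m')) = 0 := fun m m' hm => by
    rw [ap_b]; exact h.orth m m' hm
  have hc : c ≠ 0 := fun e0 => hqn l (by rw [hl, e0, zero_smul, QuadraticMap.map_zero])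
  have hsl : supp Q e a (ap g (e l)) = {p, q} := by rw [hl, h.supp_pair hpq hc hσ]
  have hγ : c * c * 2 = 1 := by
    have := ap_q g (e l)
    rw [hl, h.q_pair hpq c σ hσ, h.q] at this
    exact mul_right_cancel₀ h.a0 (by linear_combination this)
  -- supports of images are disjoint or lie in one pair
  have disj : ∀ m m', m ∈ S → m' ∈ S → m ≠ m' → ∀ p' q', p' ≠ q' →
      supp Q e a (ap g (e m)) = {p', q'} → ¬ supp Q e a (ap g (e m')) ⊆ {p', q'} →
      Disjoint ({p', q'} : Finset (Fin n)) (supp Q e a (ap g (e m'))) := by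
    intro m m' hm hm' hne p' q' hpq' hsm hns
    rw [Finset.disjoint_left]
    intro x hx hx'
    obtain ⟨y, hy, hyn⟩ := Finset.not_subset.1 hns
    have hcard := h.mir_card (hmir m' hm')
    have hxy : x ≠ y := fun e0 => hyn (e0 ▸ hx)
    have hxys : ({x, y} : Finset (Fin n)) ⊆ supp Q e a (ap g (e m')) := by
      intro z hz
      rw [Finset.mem_insert, Finset.mem_singleton] at hz
      rcases hz with rfl | rfl <;> assumption
    have heq : supp Q e a (ap g (e m')) = {x, y} := (Finset.eq_of_subset_of_card_le hxys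
      (by rw [Finset.card_pair hxy]; exact hcard)).symm
    have hb := horth m m' hne
    rw [h.b_eq, Finset.sum_eq_single x (fun z _ hz => ?_)
      (fun hx0 => absurd (Finset.mem_univ x) hx0)] at hb
    · rcases mul_eq_zero.1 ((mul_eq_zero.1 hb).resolve_left h.two_a) with h0 | h0
      · exact mem_supp.1 (hsm ▸ hx) h0
      · exact mem_supp.1 hx' h0
    · by_cases hz1 : z ∈ supp Q e a (ap g (e m))
      · rw [(notMem_supp (x := ap g (e m'))).1 fun hz2 => ?_, mul_zero]
        rw [heq, Finset.mem_insert, Finset.mem_singleton] at hz2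
        rcases hz2 with rfl | rfl
        · exact hz rfl
        · exact hyn (hsm ▸ hz1)
      · rw [notMem_supp.1 hz1, zero_mul]
  -- the sum of two images
  have hsum : ∀ m ∈ S, l ≠ m → Disjoint ({p, q} : Finset (Fin n)) (supp Q e a (ap g (e m))) →
      ((supp Q e a (ap g (e m))).card = 1 ∨ NoQuad M e a) → False := by
    intro m hm hlm hd hcard
    have hx : Wv M e a (c • (e l + (1 : F) • e m)) :=
      h.wv_mir (Or.inr ⟨l, m, hlm, c, 1, one_mul 1, rfl⟩) (by
        rw [h.q_pair hlm c 1 (one_mul 1)]; linear_combination a * hγ)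
    have hxs : supp Q e a (c • (e l + (1 : F) • e m)) ⊆ S := (h.supp_pair_le hlm c 1).trans (by
      intro z hz
      rw [Finset.mem_insert, Finset.mem_singleton] at hz
      rcases hz with rfl | rfl <;> assumption)
    obtain ⟨hy, -⟩ := hgW _ hx hxs
    rw [one_smul, ap_smul, ap_add] at hy
    have hsy : supp Q e a (c • (ap g (e l) + ap g (e m))) =
        {p, q} ∪ supp Q e a (ap g (e m)) := by
      rw [supp_smul hc]
      refine Finset.Subset.antisymm ((supp_add_le _ _).trans (by rw [hsl])) fun z hz => ?_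
      rw [mem_supp, co_add]
      rcases Finset.mem_union.1 hz with hz | hz
      · rw [notMem_supp.1 (Finset.disjoint_left.1 hd hz), add_zero]
        exact mem_supp.1 (hsl ▸ hz)
      · rw [(notMem_supp (x := ap g (e l))).1 (hsl ▸ Finset.disjoint_right.1 hd hz), zero_add]
        exact mem_supp.1 hz
    have h3' : 3 ≤ (supp Q e a (c • (ap g (e l) + ap g (e m)))).card := by
      rw [hsy, Finset.card_union_of_disjoint hd, Finset.card_pair hpq]
      have : 1 ≤ (supp Q e a (ap g (e m))).card := Finset.card_pos.2 (Finset.nonempty_iff_ne_empty.2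
        fun e0 => hqn m (by rw [h.supp_eq_empty e0, QuadraticMap.map_zero]))
      omega
    have hle : (supp Q e a (c • (ap g (e l) + ap g (e m)))).card ≤ 4 := by
      rw [hsy, Finset.card_union_of_disjoint hd, Finset.card_pair hpq]
      have := h.mir_card (hmir m hm)
      omega
    by_cases h1 : (supp Q e a (ap g (e m))).card = 1
    · have := h.mir_card (h3 _ hy (by
        rw [hsy, Finset.card_union_of_disjoint hd, Finset.card_pair hpq, h1]))
      omega
    have h2 : (supp Q e a (ap g (e m))).card = 2 := by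
      have := h.mir_card (hmir m hm)
      have : 1 ≤ (supp Q e a (ap g (e m))).card := Finset.card_pos.2 (Finset.nonempty_iff_ne_empty.2
        fun e0 => hqn m (by rw [h.supp_eq_empty e0, QuadraticMap.map_zero]))
      omega
    have half : ∀ x : Fin n, x ∈ S → (supp Q e a (ap g (e x))).card = 2 → ∀ y ∈ supp Q e a (ap g (e x)),
        co Q e a y (ap g (e x)) * co Q e a y (ap g (e x)) * 2 = 1 := by
      intro x hx hx2 y hy'
      have hq := h.q_eq_supp (ap g (e x))
      rw [ap_q, h.q, Finset.sum_congr rfl (fun z hz => h.mir_sq (hmir x hx) hz hy'),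
        Finset.sum_const, hx2, two_smul] at hq
      exact mul_left_cancel₀ h.a0 (by linear_combination -hq)
    refine hcard.resolve_left h1 _ hy (by
      rw [hsy, Finset.card_union_of_disjoint hd, Finset.card_pair hpq, h2]) fun x hx y hy' => ?_
    have val : ∀ z ∈ ({p, q} : Finset (Fin n)) ∪ supp Q e a (ap g (e m)),
        co Q e a z (c • (ap g (e l) + ap g (e m))) * co Q e a z (c • (ap g (e l) + ap g (e m))) * 2 =
          c * c := by
      intro z hz
      rw [co_smul, co_add]
      rcases Finset.mem_union.1 hz with hz | hz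
      · rw [notMem_supp.1 (Finset.disjoint_left.1 hd hz), add_zero]
        linear_combination (c * c) * half l hlS (by rw [hsl, Finset.card_pair hpq]) z (hsl ▸ hz)
      · rw [(notMem_supp (x := ap g (e l))).1 (hsl ▸ Finset.disjoint_right.1 hd hz), zero_add]
        linear_combination (c * c) * half m hm h2 z hz
    exact mul_right_cancel₀ h.two ((val x (hsy ▸ hx)).trans (val y (hsy ▸ hy')).symm)
  -- a member of `S` with image outside a pair
  have three : ∀ p' q', p' ≠ q' →
      (S.filter fun m => supp Q e a (ap g (e m)) ⊆ {p', q'}).card ≤ 2 := by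
    intro p' q' hpq'
    by_contra hc'
    obtain ⟨u, v, w, hu, hv, hw, huv, huw, hvw⟩ := Finset.two_lt_card_iff.1 (not_le.1 hc')
    exact h.no_three_in_pair (Finset.mem_filter.1 hu).2 (Finset.mem_filter.1 hv).2
      (Finset.mem_filter.1 hw).2 (hqn u) (hqn v) (hqn w) (horth u v huv) (horth u w huw)
      (horth v w hvw) hpq'
  obtain ⟨m, hmS, hm⟩ : ∃ m ∈ S, ¬ supp Q e a (ap g (e m)) ⊆ {p, q} := by
    by_contra hc'
    push Not at hc'
    have := three p q hpq
    rw [Finset.filter_true_of_mem hc'] at this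
    omega
  have hlm : l ≠ m := fun e0 => hm (by rw [← e0, hsl])
  have hd := disj l m hlS hmS hlm p q hpq hsl hm
  rcases hmir m hmS with hax | ⟨p', q', hpq', c', σ', hσ', hm'⟩
  · refine hsum m hmS hlm hd (Or.inl (le_antisymm (h.axis_card hax) (Finset.card_pos.2
      (Finset.nonempty_iff_ne_empty.2 fun e0 => hm (by rw [e0]; exact Finset.empty_subset _)))))
  rcases h4 with h5 | h4'
  swap
  · exact hsum m hmS hlm hd (Or.inr h4')
  have hsm : supp Q e a (ap g (e m)) = {p', q'} := by
    rw [hm', h.supp_pair hpq' (fun e0 => hqn m (by rw [hm', e0, zero_smul, QuadraticMap.map_zero])) hσ']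
  obtain ⟨k, hkS, hk1, hk2⟩ : ∃ k ∈ S, ¬ supp Q e a (ap g (e k)) ⊆ {p, q} ∧
      ¬ supp Q e a (ap g (e k)) ⊆ {p', q'} := by
    by_contra hc'
    push Not at hc'
    have h1 := three p q hpq
    have h2 := three p' q' hpq'
    have hsub : S ⊆ (S.filter fun m => supp Q e a (ap g (e m)) ⊆ {p, q}) ∪
        (S.filter fun m => supp Q e a (ap g (e m)) ⊆ {p', q'}) := fun x hx => by
      simp only [Finset.mem_union, Finset.mem_filter]
      by_cases hx1 : supp Q e a (ap g (e x)) ⊆ {p, q}
      · exact Or.inl ⟨hx, hx1⟩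
      · exact Or.inr ⟨hx, hc' x hx hx1⟩
    have := (Finset.card_le_card hsub).trans (Finset.card_union_le _ _)
    omega
  have hlk : l ≠ k := fun e0 => hk1 (by rw [← e0, hsl])
  have hmk : m ≠ k := fun e0 => hk2 (by rw [← e0, hsm])
  have hd1 := disj l k hlS hkS hlk p q hpq hsl hk1
  have hd2 := disj m k hmS hkS hmk p' q' hpq' hsm hk2
  refine hsum k hkS hlk hd1 (Or.inl ?_)
  have hin : ∀ x ∈ S, supp Q e a (ap g (e x)) ⊆ S := fun x hx => (hgW _ (h.wv_e x) (hse x hx)).2
  have hcard : ((({p, q} : Finset (Fin n)) ∪ {p', q'}) ∪ supp Q e a (ap g (e k))).card ≤ S.card :=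
    Finset.card_le_card (Finset.union_subset (Finset.union_subset (hsl ▸ hin l hlS) (hsm ▸ hin m hmS))
      (hin k hkS))
  rw [hsm] at hd
  rw [Finset.card_union_of_disjoint (Finset.disjoint_union_left.2 ⟨hd1, hd2⟩),
    Finset.card_union_of_disjoint hd, Finset.card_pair hpq, Finset.card_pair hpq'] at hcard
  have : 1 ≤ (supp Q e a (ap g (e k))).card := Finset.card_pos.2 (Finset.nonempty_iff_ne_empty.2
    fun e0 => hqn k (by rw [h.supp_eq_empty e0, QuadraticMap.map_zero]))
  omega

/-- The squares of the coordinates of a related vector with full support. -/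
theorem sq_eq_of_full {S : Finset (Fin n)} (hS : 4 ≤ S.card) (h3 : Tame M e a 3)
    (hk : Tame M e a (S.card - 2)) (h4 : S.card = 5 ∨ NoQuad M e a)
    {w : ι → F} (hw : Wv M e a w) (hwS : supp Q e a w = S)
    {i j : Fin n} (hi : i ∈ S) (hj : j ∈ S) (hij : i ≠ j) :
    co Q e a i w * co Q e a i w = co Q e a j w * co Q e a j w ∨
      ∃ c d, c ≠ d ∧ S \ {i, j} = {c, d} ∧
        co Q e a c w * co Q e a c w = co Q e a d w * co Q e a d w := by
  classical
  have ha := h.a0
  obtain ⟨r, hr⟩ := exists_refl h.nd (v := e i) (by rw [h.q]; exact ha)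
  obtain ⟨s, hs⟩ := exists_refl h.nd (v := e j) (by rw [h.q]; exact ha)
  obtain ⟨t, ht⟩ := exists_refl h.nd (v := w) (by rw [hw.1]; exact ha)
  have hse : ∀ l ∈ S, supp Q e a (e l) ⊆ S := fun l hl => by
    rw [h.supp_e, Finset.singleton_subset_iff]; exact hl
  have htS : t ∈ gs M e a S := Subgroup.subset_closure ⟨w, hw, hwS.le, ht⟩
  have hrs : r * s ∈ gs M e a S := mul_mem (Subgroup.subset_closure ⟨_, h.wv_e i, hse i hi, hr⟩)
    (Subgroup.subset_closure ⟨_, h.wv_e j, hse j hj, hs⟩)
  have hsq : r * s * (r * s) = 1 := ext_ap fun x => h.ext fun l => by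
    rw [ap_mul (r * s), h.co_pair_refl hij hr hs, h.co_pair_refl hij hr hs, ap_one, ← mul_assoc]
    split_ifs <;> ring
  have hnc : ¬ IsConj t (r * s) := fun hc => by
    obtain ⟨c, hc⟩ := isConj_iff.1 hc
    have := congrArg (dickson h.nd) hc
    rw [map_mul, map_mul, map_mul, map_inv, dickson_refl h.nd ht, dickson_refl h.nd hr,
      dickson_refl h.nd hs, mul_right_comm, mul_inv_cancel, one_mul] at this
    exact absurd this (by decide)
  haveI : Finite (Grp Q) := inferInstance
  obtain ⟨m, -, hz1, hzt, hzs⟩ := exists_central (refl_mul_self ht) hsq hnc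
  obtain ⟨z, hz⟩ : ∃ z, z = (t * (r * s)) ^ m := ⟨_, rfl⟩
  rw [← hz] at hz1 hzt hzs
  have hzS : z ∈ gs M e a S := hz ▸ pow_mem (mul_mem htS hrs) m
  have hzm : Mono e z := h.cent_mono hS h3 hk h4 hi hj hij hr hs hzS hzs.symm
  have hfix : ∀ x, (∀ v ∈ ({w, e i, e j} : Set (ι → F)), B v x = 0) → ap z x = x := by
    intro x hx
    have h1 : ap (t * (r * s)) x = x := by
      rw [ap_mul, refl_mul_apply_perp hr hs (hx _ (by simp)) (hx _ (by simp)),
        refl_fix ht (hx w (by simp))]
    have hk' : ∀ k : ℕ, ap ((t * (r * s)) ^ k) x = x := fun k => by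
      induction k with
      | zero => rw [pow_zero, ap_one]
      | succ k ih => rw [pow_succ', ap_mul, ih, h1]
    rw [hz]; exact hk' m
  have hspan := disp_mem_span h.nd hfix
  have hzsupp : ∀ l ∈ S, l ≠ i ∧ l ≠ j → supp Q e a (ap z (e l)) ⊆ S \ {i, j} := fun l hl hne =>
    (h.supp_cent hij hr hs hzs.symm ((h.gs_spec hzS).1 _ (h.wv_e l) (hse l hl)).2).2
      (not_or.2 hne)
  by_cases hout : ∀ l ∈ S, l ≠ i ∧ l ≠ j → ap z (e l) = e l
  · -- the central element lives in the pair
    left
    obtain ⟨ε, hε⟩ := smul_of_comm_refl h.two ht hzt.symm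
    obtain ⟨l, hlS, hl⟩ : ∃ l ∈ S, l ≠ i ∧ l ≠ j := by
      obtain ⟨l, hl⟩ := Finset.card_pos.1 (show 0 < (S \ {i, j}).card by
        have := Finset.le_card_sdiff ({i, j} : Finset (Fin n)) S
        rw [Finset.card_pair hij] at this
        omega)
      rw [Finset.mem_sdiff, Finset.mem_insert, Finset.mem_singleton, not_or] at hl
      exact ⟨l, hl⟩
    have hεw : ap z w = w := by
      have hb := ap_b z (e l) w
      rw [hout l hlS hl, hε, b_smul_right] at hb
      have : co Q e a l w ≠ 0 := mem_supp.1 (hwS ▸ hlS)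
      have hne : B (e l) w ≠ 0 := by rw [h.b_co]; exact mul_ne_zero h.two_a this
      rw [hε, mul_right_cancel₀ hne (by rw [hb, one_mul] : ε * B (e l) w = 1 * B (e l) w), one_smul]
    obtain ⟨o, ho⟩ := h.exists_moved hz1
    have hoij : o = i ∨ o = j := by
      by_contra hc
      rw [not_or] at hc
      by_cases hoS : o ∈ S
      · exact ho (hout o hoS hc)
      · exact ho ((h.gs_spec hzS).2 o hoS)
    obtain ⟨hM1, hco⟩ := h.exists_mir_disp hzm ho
    obtain ⟨v, hv⟩ : ∃ v, v = ap z (e o) - e o := ⟨_, rfl⟩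
    rw [← hv] at hM1 hco
    have hoS : o ∈ S := by rcases hoij with rfl | rfl <;> assumption
    have hvs : supp Q e a v ⊆ {i, j} := by
      intro x hx
      rw [mem_supp, hv, co_sub] at hx
      rw [Finset.mem_insert, Finset.mem_singleton]
      by_contra hc
      refine hx ?_
      rw [notMem_supp.1 fun h1 => hc ?_, h.co_ne fun e0 : x = o => hc (by rw [e0]; exact hoij), sub_zero]
      have := (h.supp_cent hij hr hs hzs.symm ((h.gs_spec hzS).1 _ (h.wv_e o) (hse o hoS)).2).1
        hoij h1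
      rwa [Finset.mem_insert, Finset.mem_singleton] at this
    have hvw : B v w = 0 := by
      rw [hv, b_sub_left]
      nth_rewrite 1 [← hεw]
      rw [ap_b, sub_self]
    rw [h.b_eq, ← Finset.sum_subset (Finset.subset_univ ({i, j} : Finset (Fin n)))
      (fun x _ hx => by rw [notMem_supp.1 fun h1 => hx (hvs h1), zero_mul]), Finset.sum_pair hij]
      at hvw
    have e1 := (mul_eq_zero.1 hvw).resolve_left h.two_a
    have hwi : co Q e a i w ≠ 0 := mem_supp.1 (hwS ▸ hi)
    have hwj : co Q e a j w ≠ 0 := mem_supp.1 (hwS ▸ hj)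
    have hvi : co Q e a i v ≠ 0 := fun h0 => by
      rw [h0, zero_mul, zero_add] at e1
      have hvj := (mul_eq_zero.1 e1).resolve_right hwj
      rcases hoij with rfl | rfl
      · exact hco h0
      · exact hco hvj
    have hvj : co Q e a j v ≠ 0 := fun h0 => by
      rw [h0, zero_mul, add_zero] at e1
      exact hvi ((mul_eq_zero.1 e1).resolve_right hwi)
    have hsq' := h.mir_sq hM1 (mem_supp.2 hvi) (mem_supp.2 hvj)
    refine mul_left_cancel₀ (mul_ne_zero hvi hvi) ?_
    linear_combination (co Q e a i v * co Q e a i w - co Q e a j v * co Q e a j w) * e1 -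
      (co Q e a j w * co Q e a j w) * hsq'
  · -- a displacement outside the pair
    right
    push Not at hout
    obtain ⟨o, hoS, hoij, ho⟩ := hout
    obtain ⟨hM1, hco⟩ := h.exists_mir_disp hzm ho
    obtain ⟨v, hv⟩ : ∃ v, v = ap z (e o) - e o := ⟨_, rfl⟩
    rw [← hv] at hM1 hco
    obtain ⟨α, β, γ, hαβ⟩ := Submodule.mem_span_triple.1 (hspan (e o))
    rw [← hv] at hαβ
    have hout' : ∀ l, l ≠ i → l ≠ j → co Q e a l v = α * co Q e a l w := fun l h1 h2 => by
      rw [← hαβ, co_add, co_add, co_smul, co_smul, co_smul, h.co_ne h1, h.co_ne h2]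
      ring
    have hα : α ≠ 0 := fun h0 => hco (by rw [hout' o hoij.1 hoij.2, h0, zero_mul])
    have hsub : S \ {i, j} ⊆ supp Q e a v := fun l hl => by
      rw [Finset.mem_sdiff, Finset.mem_insert, Finset.mem_singleton, not_or] at hl
      rw [mem_supp, hout' l hl.2.1 hl.2.2]
      exact mul_ne_zero hα (mem_supp.1 (hwS ▸ hl.1))
    have h2 : (S \ {i, j}).card = 2 := by
      have h1 := Finset.card_le_card hsub
      have := h.mir_card hM1
      have := Finset.le_card_sdiff ({i, j} : Finset (Fin n)) S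
      rw [Finset.card_pair hij] at this
      omega
    obtain ⟨c, d, hcd, hS2⟩ := Finset.card_eq_two.1 h2
    refine ⟨c, d, hcd, hS2, ?_⟩
    have hc : c ∈ S \ {i, j} := hS2 ▸ Finset.mem_insert_self c {d}
    have hd : d ∈ S \ {i, j} := hS2 ▸ Finset.mem_insert_of_mem (Finset.mem_singleton_self d)
    have hsq' := h.mir_sq hM1 (hsub hc) (hsub hd)
    rw [Finset.mem_sdiff, Finset.mem_insert, Finset.mem_singleton, not_or] at hc hd
    rw [hout' c hc.2.1 hc.2.2, hout' d hd.2.1 hd.2.2] at hsq'
    exact mul_left_cancel₀ (mul_ne_zero hα hα) (by linear_combination hsq')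

end Over

end CfsgLib.Orth.FrameMax
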