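import Mathlib

set_option autoImplicit false

/-!
Counting the fixed axes in a finite rotation group: a distinguished axis with rotation order divisible by
four has exactly three images.
-/

namespace CfsgLib.Orth.FrameMax

theorem axis_arith {N o e h : ℕ} (he : 2 ≤ e) (hoh : o * h = N) (hh : h ≤ 2 * e) :
    N ≤ 4 * (o * (e - 1)) := by
  have h1 : o * h ≤ o * (2 * e) := Nat.mul_le_mul_left o hh
  have h2 : o * (2 * e) ≤ o * (4 * (e - 1)) := Nat.mul_le_mul_left o (by omega)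
  rw [show 4 * (o * (e - 1)) = o * (4 * (e - 1)) by ring]
  omega

theorem axis_small {a b : ℕ} (ha : 2 ≤ a) (hb : 2 ≤ b) (h : 3 * (a * b) < 4 * (a + b)) :
    (a = 2 ∧ b = 2) ∨ (a = 2 ∧ b = 3) ∨ (a = 3 ∧ b = 2) := by
  have ha4 : a ≤ 3 := by
    by_contra hc
    have h1 : 4 * b ≤ a * b := Nat.mul_le_mul_right b (by omega)
    have h2 : a * 2 ≤ a * b := Nat.mul_le_mul_left a hb
    omega
  interval_cases a <;> omega

/-- The possible axis data. -/
theorem axis_cases {N o₁ e₁ : ℕ} (h4 : 4 ∣ e₁) (he₁ : 0 < e₁) (ho₁ : o₁ * (2 * e₁) = N) (h3 : 3 ≤ o₁)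
    (L : List (ℕ × ℕ × ℕ))
    (hL : ∀ t ∈ L, 2 ≤ t.2.1 ∧ t.1 * t.2.2 = N ∧ (t.2.2 = t.2.1 ∨ t.2.2 = 2 * t.2.1))
    (hlen : L.length ≤ 2)
    (hsum : o₁ * (e₁ - 1) + (L.map fun t => t.1 * (t.2.1 - 1)).sum + 1 = N) : o₁ = 3 := by
  obtain ⟨q, hq⟩ : ∃ q, e₁ = q + 1 := ⟨e₁ - 1, by omega⟩
  subst hq
  rw [Nat.add_sub_cancel] at hsum
  match L, hlen with
  | [], _ =>
    simp only [List.map_nil, List.sum_nil, add_zero] at hsum
    nlinarith
  | [(o₂, e₂, h₂)], _ =>
    obtain ⟨he2, ho2, hh2⟩ := hL _ (List.mem_singleton_self _)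
    simp only at he2 ho2 hh2
    obtain ⟨r, rfl⟩ : ∃ r, e₂ = r + 1 := ⟨e₂ - 1, by omega⟩
    simp only [List.map_cons, List.map_nil, List.sum_cons, List.sum_nil, add_zero,
      Nat.add_sub_cancel] at hsum
    obtain ⟨m, hm⟩ := h4
    rw [Nat.mul_add, Nat.mul_one, Nat.mul_add] at ho₁
    rw [show o₁ * (2 * q) = 2 * (o₁ * q) by ring] at ho₁
    rcases hh2 with rfl | rfl
    · -- no flip on the second axis
      rw [Nat.mul_add, Nat.mul_one] at ho2
      by_cases hr : r = 1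
      · subst hr
        omega
      have h2 : 2 * o₂ ≤ o₂ * r := by
        rw [mul_comm 2]; exact Nat.mul_le_mul_left o₂ (by omega)
      have h5 : 3 * o₁ ≤ o₁ * q := by
        rw [mul_comm 3]; exact Nat.mul_le_mul_left o₁ (by omega)
      omega
    · rw [show o₂ * (2 * (r + 1)) = 2 * (o₂ * r) + 2 * o₂ by ring] at ho2
      omega
  | [(o₂, e₂, h₂), (o₃, e₃, h₃)], _ =>
    obtain ⟨he2, ho2, hh2⟩ := hL (o₂, e₂, h₂) (by simp)
    obtain ⟨he3, ho3, hh3⟩ := hL (o₃, e₃, h₃) (by simp)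
    simp only at he2 ho2 hh2 he3 ho3 hh3
    simp only [List.map_cons, List.map_nil, List.sum_cons, List.sum_nil, add_zero] at hsum
    obtain ⟨r, rfl⟩ : ∃ r, e₂ = r + 1 := ⟨e₂ - 1, by omega⟩
    obtain ⟨s, rfl⟩ : ∃ s, e₃ = s + 1 := ⟨e₃ - 1, by omega⟩
    simp only [Nat.add_sub_cancel] at hsum
    obtain ⟨m, hm⟩ := h4
    have h5 : 3 * o₁ ≤ o₁ * q := by
      rw [mul_comm 3]; exact Nat.mul_le_mul_left o₁ (by omega)
    rw [show o₁ * (2 * (q + 1)) = 2 * (o₁ * q) + 2 * o₁ by ring] at ho₁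
    have hr1 : o₂ ≤ o₂ * r := Nat.le_mul_of_pos_right o₂ (by omega)
    have hs1 : o₃ ≤ o₃ * s := Nat.le_mul_of_pos_right o₃ (by omega)
    rcases hh2 with rfl | rfl
    · rw [Nat.mul_add, Nat.mul_one] at ho2
      rcases hh3 with rfl | rfl
      · rw [Nat.mul_add, Nat.mul_one] at ho3; omega
      · rw [show o₃ * (2 * (s + 1)) = 2 * (o₃ * s) + 2 * o₃ by ring] at ho3; omega
    rcases hh3 with rfl | rfl
    · rw [Nat.mul_add, Nat.mul_one] at ho3
      rw [show o₂ * (2 * (r + 1)) = 2 * (o₂ * r) + 2 * o₂ by ring] at ho2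
      omega
    have hsmall : 3 * ((r + 1) * (s + 1)) < 4 * ((r + 1) + (s + 1)) := by
      by_contra hc
      push Not at hc
      have f : 8 * (o₂ * r + o₃ * s) * ((r + 1) * (s + 1)) + 4 * N * ((r + 1) + (s + 1)) =
          8 * N * ((r + 1) * (s + 1)) := by
        have f2 : 8 * (o₂ * r) * ((r + 1) * (s + 1)) = 4 * N * (r * (s + 1)) := by rw [← ho2]; ring
        have f3 : 8 * (o₃ * s) * ((r + 1) * (s + 1)) = 4 * N * ((r + 1) * s) := by rw [← ho3]; ring
        rw [show 8 * (o₂ * r + o₃ * s) * ((r + 1) * (s + 1)) =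
          8 * (o₂ * r) * ((r + 1) * (s + 1)) + 8 * (o₃ * s) * ((r + 1) * (s + 1)) by ring, f2, f3]
        ring
      have g : 5 * N * ((r + 1) * (s + 1)) ≤ 8 * (o₂ * r + o₃ * s) * ((r + 1) * (s + 1)) := by
        have h1 : 4 * N * ((r + 1) + (s + 1)) ≤ 3 * N * ((r + 1) * (s + 1)) := by
          rw [show 4 * N * ((r + 1) + (s + 1)) = N * (4 * ((r + 1) + (s + 1))) by ring,
            show 3 * N * ((r + 1) * (s + 1)) = N * (3 * ((r + 1) * (s + 1))) by ring]
          exact Nat.mul_le_mul_left N hc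
        have h2 : 8 * N * ((r + 1) * (s + 1)) =
            5 * N * ((r + 1) * (s + 1)) + 3 * N * ((r + 1) * (s + 1)) := by ring
        omega
      have := Nat.le_of_mul_le_mul_right g (by positivity)
      omega
    rcases axis_small (by omega) (by omega) hsmall with ⟨h2, h2'⟩ | ⟨h2, h2'⟩ | ⟨h2, h2'⟩
    · obtain rfl : r = 1 := by omega
      obtain rfl : s = 1 := by omega
      omega
    · obtain rfl : r = 1 := by omega
      obtain rfl : s = 2 := by omega
      have hq5 : o₁ * (q + 1) + 6 = 6 * o₁ := by rw [Nat.mul_add, Nat.mul_one]; omega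
      rw [hm] at hq5
      rcases Nat.lt_or_ge m 2 with hm2 | hm2
      · obtain rfl : m = 1 := by omega
        omega
      · have := Nat.mul_le_mul_left o₁ (show 6 ≤ 4 * m by omega)
        omega
    · obtain rfl : r = 2 := by omega
      obtain rfl : s = 1 := by omega
      have hq5 : o₁ * (q + 1) + 6 = 6 * o₁ := by rw [Nat.mul_add, Nat.mul_one]; omega
      rw [hm] at hq5
      rcases Nat.lt_or_ge m 2 with hm2 | hm2
      · obtain rfl : m = 1 := by omega
        omega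
      · have := Nat.mul_le_mul_left o₁ (show 6 ≤ 4 * m by omega)
        omega
  | _ :: _ :: _ :: _, h => simp at h

/-- A distinguished axis with rotation order divisible by four has three images. -/
theorem three_axes {G X : Type*} [Group G] [Finite G] [MulAction G X] (E : X → Subgroup G)
    (ax : G → X) (hax : ∀ g x, g ≠ 1 → (g ∈ E x ↔ ax g = x))
    (hle : ∀ x, E x ≤ MulAction.stabilizer G x)
    (hidx : ∀ x, Nat.card (MulAction.stabilizer G x) ≤ 2 * Nat.card (E x))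
    (hconj : ∀ (g : G) (x : X), Nat.card (E (g • x)) = Nat.card (E x))
    (x₁ : X) (h4 : 4 ∣ Nat.card (E x₁))
    (hflip : Nat.card (MulAction.stabilizer G x₁) = 2 * Nat.card (E x₁))
    (h3 : 3 ≤ Nat.card (MulAction.orbit G x₁)) : Nat.card (MulAction.orbit G x₁) = 3 := by
  classical
  cases nonempty_fintype G
  obtain ⟨N, hN⟩ : ∃ N, N = Nat.card G := ⟨_, rfl⟩
  have horb : ∀ x : X, Nat.card (MulAction.orbit G x) * Nat.card (MulAction.stabilizer G x) = N :=
    fun x => by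
      rw [hN, Nat.card_congr (MulAction.orbitEquivQuotientStabilizer G x),
        ← Subgroup.card_eq_card_quotient_mul_card_subgroup]
  have hh : ∀ x : X, 2 ≤ Nat.card (E x) →
      Nat.card (MulAction.stabilizer G x) = Nat.card (E x) ∨
        Nat.card (MulAction.stabilizer G x) = 2 * Nat.card (E x) := fun x hx => by
    obtain ⟨d, hd⟩ := Subgroup.card_dvd_of_le (hle x)
    have h1 := hidx x
    have h2 : 0 < Nat.card (MulAction.stabilizer G x) := Nat.card_pos
    rw [hd] at h1 h2 ⊢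
    have hd2 : d ≤ 2 := by
      by_contra hc
      have := Nat.mul_le_mul_left (Nat.card (E x)) (show 3 ≤ d by omega)
      omega
    interval_cases d <;> omega
  -- rotations by axis
  let S : Finset G := Finset.univ.erase 1
  let L : Finset X := S.image ax
  have hS : S.card + 1 = N := by
    rw [Finset.card_erase_of_mem (Finset.mem_univ _), Finset.card_univ, hN, Nat.card_eq_fintype_card]
    have := Fintype.card_pos (α := G)
    omega
  have hfib : ∀ x : X, (S.filter fun g => ax g = x).card + 1 = Nat.card (E x) := fun x => by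
    have h1 : S.filter (fun g => ax g = x) = (Finset.univ.filter fun g => g ∈ E x).erase 1 := by
      ext g
      simp only [S, Finset.mem_filter, Finset.mem_erase, Finset.mem_univ, and_true, true_and]
      exact ⟨fun h => ⟨h.1, (hax g x h.1).2 h.2⟩, fun h => ⟨h.1, (hax g x h.1).1 h.2⟩⟩
    rw [h1, Finset.card_erase_of_mem (by simp [(E x).one_mem]), Nat.card_eq_fintype_card,
      Fintype.card_subtype]
    have : 0 < (Finset.univ.filter fun g => g ∈ E x).card :=
      Finset.card_pos.2 ⟨1, by simp [(E x).one_mem]⟩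
    omega
  have hsum : ∑ x ∈ L, (Nat.card (E x) - 1) + 1 = N := by
    rw [← hS, Finset.card_eq_sum_card_fiberwise (f := ax) (t := L)
      (fun g hg => Finset.mem_image_of_mem ax hg)]
    congr 1
    exact Finset.sum_congr rfl fun x _ => by have := hfib x; omega
  have hmemL : ∀ x : X, x ∈ L ↔ 2 ≤ Nat.card (E x) := fun x => by
    rw [← hfib x]
    constructor
    · intro hx
      obtain ⟨g, hg, rfl⟩ := Finset.mem_image.1 hx
      have : 0 < (S.filter fun g' => ax g' = ax g).card :=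
        Finset.card_pos.2 ⟨g, Finset.mem_filter.2 ⟨hg, rfl⟩⟩
      omega
    · intro hx
      obtain ⟨g, hg⟩ := Finset.card_pos.1 (show 0 < (S.filter fun g => ax g = x).card by omega)
      exact Finset.mem_image.2 ⟨g, (Finset.mem_filter.1 hg).1, (Finset.mem_filter.1 hg).2⟩
  let O : X → Finset X := fun x => Finset.univ.image fun g : G => g • x
  have hOcard : ∀ x, (O x).card = Nat.card (MulAction.orbit G x) := fun x => by
    rw [Nat.card_coe_set_eq, ← Set.ncard_coe_finset]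
    congr 1
    ext y
    simp [O, MulAction.mem_orbit_iff]
  have hOL : ∀ x ∈ L, O x ⊆ L := fun x hx y hy => by
    obtain ⟨g, -, rfl⟩ := Finset.mem_image.1 hy
    rw [hmemL, hconj]; exact (hmemL x).1 hx
  have hOsum : ∀ x, ∑ y ∈ O x, (Nat.card (E y) - 1) =
      Nat.card (MulAction.orbit G x) * (Nat.card (E x) - 1) := fun x => by
    rw [← hOcard, Finset.sum_congr rfl (fun y (hy : y ∈ O x) => show
        Nat.card (E y) - 1 = Nat.card (E x) - 1 by
      obtain ⟨g, -, rfl⟩ := Finset.mem_image.1 hy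
      rw [hconj]), Finset.sum_const, smul_eq_mul]
  have hOdisj : ∀ x y, y ∉ O x → Disjoint (O x) (O y) := fun x y hy => by
    rw [Finset.disjoint_left]
    intro z hz hz'
    obtain ⟨g, -, rfl⟩ := Finset.mem_image.1 hz
    obtain ⟨g', -, hg'⟩ := Finset.mem_image.1 hz'
    refine hy (Finset.mem_image.2 ⟨g'⁻¹ * g, Finset.mem_univ _, ?_⟩)
    rw [mul_smul, ← hg', inv_smul_smul]
  have hval : ∀ x ∈ L, N ≤ 4 * (Nat.card (MulAction.orbit G x) * (Nat.card (E x) - 1)) := fun x hx =>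
    axis_arith ((hmemL x).1 hx) (horb x) (hidx x)
  have he1 : 2 ≤ Nat.card (E x₁) := by
    have := Nat.le_of_dvd Nat.card_pos h4
    omega
  have hsub1 : O x₁ ⊆ L := hOL x₁ ((hmemL x₁).2 he1)
  have data : ∀ x ∈ L, 2 ≤ Nat.card (E x) ∧
      Nat.card (MulAction.orbit G x) * Nat.card (MulAction.stabilizer G x) = N ∧
      (Nat.card (MulAction.stabilizer G x) = Nat.card (E x) ∨
        Nat.card (MulAction.stabilizer G x) = 2 * Nat.card (E x)) :=
    fun x hx => ⟨(hmemL x).1 hx, horb x, hh x ((hmemL x).1 hx)⟩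
  have step : ∀ U ⊆ L, ∀ x ∈ L \ U, (∀ y ∈ U, O y ⊆ U) →
      ∑ y ∈ U ∪ O x, (Nat.card (E y) - 1) = ∑ y ∈ U, (Nat.card (E y) - 1) +
        Nat.card (MulAction.orbit G x) * (Nat.card (E x) - 1) ∧
      U ∪ O x ⊆ L ∧ ∀ y ∈ U ∪ O x, O y ⊆ U ∪ O x := by
    intro U hU x hx hinv
    rw [Finset.mem_sdiff] at hx
    refine ⟨?_, Finset.union_subset hU (hOL x hx.1), fun y hy z hz => ?_⟩
    · rw [Finset.sum_union, hOsum]
      rw [Finset.disjoint_left]
      intro z hz hz'
      obtain ⟨g, -, rfl⟩ := Finset.mem_image.1 hz'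
      exact hx.2 (hinv _ hz (Finset.mem_image.2 ⟨g⁻¹, Finset.mem_univ _, inv_smul_smul g x⟩))
    · rw [Finset.mem_union] at hy ⊢
      rcases hy with hy | hy
      · exact Or.inl (hinv y hy hz)
      · obtain ⟨g, -, rfl⟩ := Finset.mem_image.1 hy
        obtain ⟨g', -, rfl⟩ := Finset.mem_image.1 hz
        exact Or.inr (Finset.mem_image.2 ⟨g' * g, Finset.mem_univ _, mul_smul _ _ _⟩)
  have inv1 : ∀ y ∈ O x₁, O y ⊆ O x₁ := fun y hy z hz => by
    obtain ⟨g, -, rfl⟩ := Finset.mem_image.1 hy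
    obtain ⟨g', -, rfl⟩ := Finset.mem_image.1 hz
    exact Finset.mem_image.2 ⟨g' * g, Finset.mem_univ _, mul_smul _ _ _⟩
  have fin : ∀ l : List (ℕ × ℕ × ℕ), l.length ≤ 2 →
      (∀ t ∈ l, 2 ≤ t.2.1 ∧ t.1 * t.2.2 = N ∧ (t.2.2 = t.2.1 ∨ t.2.2 = 2 * t.2.1)) →
      Nat.card (MulAction.orbit G x₁) * (Nat.card (E x₁) - 1) +
        (l.map fun t => t.1 * (t.2.1 - 1)).sum + 1 = N → Nat.card (MulAction.orbit G x₁) = 3 :=
    fun l hl hd hs => axis_cases h4 (by omega) (by rw [← horb x₁, hflip]) h3 l hd hl hs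
  by_cases h1 : L \ O x₁ = ∅
  · refine fin [] (by simp) (by simp) ?_
    rw [← hsum, ← Finset.Subset.antisymm hsub1 (Finset.sdiff_eq_empty_iff_subset.1 h1), hOsum]
    simp
  obtain ⟨x₂, hx₂⟩ := Finset.nonempty_iff_ne_empty.2 h1
  obtain ⟨hs2, hsub2, inv2⟩ := step _ hsub1 x₂ hx₂ inv1
  have hd2 := data x₂ (Finset.mem_sdiff.1 hx₂).1
  by_cases h2 : L \ (O x₁ ∪ O x₂) = ∅
  · refine fin [(Nat.card (MulAction.orbit G x₂), Nat.card (E x₂),
      Nat.card (MulAction.stabilizer G x₂))] (by simp) (fun t ht => by rw [List.mem_singleton] at ht; subst ht; exact hd2) ?_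
    rw [← hsum, ← Finset.Subset.antisymm hsub2 (Finset.sdiff_eq_empty_iff_subset.1 h2), hs2, hOsum]
    simp
  obtain ⟨x₃, hx₃⟩ := Finset.nonempty_iff_ne_empty.2 h2
  obtain ⟨hs3, hsub3, inv3⟩ := step _ hsub2 x₃ hx₃ inv2
  have hd3 := data x₃ (Finset.mem_sdiff.1 hx₃).1
  by_cases h3' : L \ (O x₁ ∪ O x₂ ∪ O x₃) = ∅
  · refine fin [(Nat.card (MulAction.orbit G x₂), Nat.card (E x₂),
      Nat.card (MulAction.stabilizer G x₂)), (Nat.card (MulAction.orbit G x₃), Nat.card (E x₃),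
      Nat.card (MulAction.stabilizer G x₃))] (by simp) (fun t ht => by
        rw [List.mem_cons, List.mem_singleton] at ht; rcases ht with rfl | rfl <;> [exact hd2; exact hd3]) ?_
    rw [← hsum, ← Finset.Subset.antisymm hsub3 (Finset.sdiff_eq_empty_iff_subset.1 h3'), hs3, hs2,
      hOsum]
    simp; ring
  exfalso
  obtain ⟨x₄, hx₄⟩ := Finset.nonempty_iff_ne_empty.2 h3'
  obtain ⟨hs4, hsub4, -⟩ := step _ hsub3 x₄ hx₄ inv3
  have hle4 := Finset.sum_le_sum_of_subset (f := fun y => Nat.card (E y) - 1) hsub4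
  rw [hs4, hs3, hs2, hOsum] at hle4
  have v1 := hval x₁ ((hmemL x₁).2 he1)
  have v2 := hval x₂ (Finset.mem_sdiff.1 hx₂).1
  have v3 := hval x₃ (Finset.mem_sdiff.1 hx₃).1
  have v4 := hval x₄ (Finset.mem_sdiff.1 hx₄).1
  omega

end CfsgLib.Orth.FrameMax
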