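import Cfsg.Agent.Lib.Classical.OrthFrameMax.Minimal

set_option autoImplicit false
set_option linter.unusedSectionVars false

/-!
When all related vectors are mirrors, centralisers of sign changes are monomial.
-/

namespace CfsgLib.Orth.FrameMax

open Matrix DecompMax

variable {F : Type*} [Field F] [Finite F] {ι : Type} [Fintype ι] [DecidableEq ι]
variable {Q : QuadraticForm F (ι → F)} {n : ℕ} {e : Fin n → ι → F} {a : F} {M : Subgroup (Grp Q)}

local notation "B" => QuadraticMap.polar (DFunLike.coe Q)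

/-- All related vectors are mirrors. -/
def AllMir (M : Subgroup (Grp Q)) (e : Fin n → ι → F) (a : F) : Prop :=
  ∀ x, Wv M e a x → Mir e x

theorem pair_plane_apply {x y : ι → F} {r s : Grp Q} (hr : IsRefl x r) (hs : IsRefl y s)
    (hxy : B x y = 0) :
    ap (r * s) x = -x ∧ ap (r * s) y = -y ∧
      ∀ z, ap (r * s) z = -z → (2 : F) ≠ 0 → z ∈ Submodule.span F ({x, y} : Set (ι → F)) := by
  have hsx : ap s x = x := refl_fix hs (by rw [b_comm]; exact hxy)
  refine ⟨by rw [ap_mul, hsx, refl_self hr], ?_, fun z hz h2 => ?_⟩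
  · rw [ap_mul, refl_self hs, ← neg_one_smul F y, ap_smul, refl_fix hr hxy]
  · rw [ap_mul, hs.2, hr.2, b_sub_right, b_smul_right, hxy, mul_zero, sub_zero] at hz
    have hzz : (2 : F) • z = ((Q y)⁻¹ * B y z) • y + ((Q x)⁻¹ * B x z) • x := by
      rw [two_smul]
      linear_combination (norm := module) hz
    rw [show z = (2 : F)⁻¹ • ((2 : F) • z) by rw [smul_smul, inv_mul_cancel₀ h2, one_smul], hzz]
    exact Submodule.smul_mem _ _ (Submodule.add_mem _
      (Submodule.smul_mem _ _ (Submodule.subset_span (by simp)))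
      (Submodule.smul_mem _ _ (Submodule.subset_span (by simp))))

theorem span_pair_eq {x y u v : ι → F} (hu : u ∈ Submodule.span F ({x, y} : Set (ι → F)))
    (hv : v ∈ Submodule.span F ({x, y} : Set (ι → F))) (hu0 : u ≠ 0) (huv : ∀ c : F, v ≠ c • u) :
    Submodule.span F ({u, v} : Set (ι → F)) = Submodule.span F ({x, y} : Set (ι → F)) := by
  classical
  refine Submodule.eq_of_le_of_finrank_le ?_ ?_
  · rw [Submodule.span_le]
    rintro z (rfl | rfl)
    exacts [hu, hv]
  · have hli : LinearIndependent F ![u, v] :=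
      (LinearIndependent.pair_iff' hu0).2 fun c hc => huv c hc.symm
    have h2 := finrank_span_eq_card hli
    rw [Fintype.card_fin, Matrix.range_cons, Matrix.range_cons, Matrix.range_empty,
      Set.union_empty, Set.singleton_union] at h2
    rw [h2]
    have := finrank_span_finset_le_card (R := F) ({x, y} : Finset (ι → F))
    rw [Finset.coe_insert, Finset.coe_singleton] at this
    exact this.trans Finset.card_le_two

namespace Frame

variable (h : Frame Q e a)
include h

/-- An orthogonal anisotropic family is no larger than a set carrying its supports. -/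
theorem orth_family {κ : Type*} (D : Finset κ) (v : κ → ι → F) (T : Finset (Fin n))
    (hv : ∀ d ∈ D, supp Q e a (v d) ⊆ T) (hq : ∀ d ∈ D, Q (v d) ≠ 0)
    (ho : ∀ d ∈ D, ∀ d' ∈ D, d ≠ d' → B (v d) (v d') = 0) : D.card ≤ T.card := by
  classical
  have hli : LinearIndependent F fun d : D => (fun i : T => co Q e a i (v d)) := by
    rw [Fintype.linearIndependent_iff]
    intro g hg d
    have hz : ∀ i, ∑ d : D, g d * co Q e a i (v d) = 0 := fun i => by
      by_cases hi : i ∈ T
      · have := congrFun hg ⟨i, hi⟩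
        simpa [Finset.sum_apply] using this
      · exact Finset.sum_eq_zero fun d _ => by
          rw [notMem_supp.1 fun h1 => hi (hv d d.2 h1), mul_zero]
    have hs : ∑ d' : D, g d' • v d' = 0 := h.eq_zero fun i => by
      rw [co_sum]; simp only [co_smul]; exact hz i
    have hb := congrArg (fun x => B (v d) x) hs
    simp only [b_zero_right] at hb
    rw [← QuadraticMap.polarBilin_apply_apply, map_sum, Finset.sum_eq_single d (fun d' _ hd' => by
      rw [map_smul, QuadraticMap.polarBilin_apply_apply, ho d d.2 d' d'.2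
        (fun e0 => hd' (Subtype.ext e0.symm)), smul_zero]) (fun hd => absurd (Finset.mem_univ d) hd),
      map_smul, QuadraticMap.polarBilin_apply_apply, b_self, smul_eq_mul] at hb
    exact (mul_eq_zero.1 hb).resolve_right (mul_ne_zero h.two (hq d d.2))
  have := hli.fintype_card_le_finrank
  rwa [Fintype.card_coe, Module.finrank_pi, Fintype.card_coe] at this

/-- A monomial involution negating a vector moves it inside its support. -/
theorem mir_in_neg {t : Grp Q} (hm : Mono e t) {y : ι → F} (hy : ap t y = -y) {i : Fin n}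
    (hi : i ∈ supp Q e a y) :
    Mir e (ap t (e i) - e i) ∧ co Q e a i (ap t (e i) - e i) ≠ 0 ∧
      supp Q e a (ap t (e i) - e i) ⊆ supp Q e a y := by
  obtain ⟨j, c, hc, hj⟩ := h.mono_sign hm i
  have hne : ap t (e i) ≠ e i := fun e0 => by
    have hb := ap_b t (e i) y
    rw [e0, hy, ← neg_one_smul F y, b_smul_right, h.b_co] at hb
    exact mem_supp.1 hi (by
      refine (mul_eq_zero.1 (show 2 * (2 * a) * co Q e a i y = 0 by linear_combination -hb)).resolve_left
        (mul_ne_zero h.two h.two_a))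
  obtain ⟨h1, h2⟩ := h.exists_mir_disp hm hne
  refine ⟨h1, h2, fun l hl => ?_⟩
  rw [hj, mem_supp, co_sub, co_smul, h.co_e, h.co_e] at hl
  by_cases hli : l = i
  · exact hli ▸ hi
  rw [if_neg hli, sub_zero] at hl
  by_cases hlj : l = j
  swap
  · rw [if_neg hlj, mul_zero] at hl; exact absurd rfl hl
  subst hlj
  rw [mem_supp]
  intro h0
  have hb := ap_b t (e i) y
  rw [hj, hy, ← neg_one_smul F y, b_smul_left, b_smul_right, h.b_co, h0, mul_zero, mul_zero,
    mul_zero, h.b_co] at hb
  exact mem_supp.1 hi ((mul_eq_zero.1 hb.symm).resolve_left h.two_a)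

/-- The support of a vector in the plane of a monomial pair of reflections. -/
theorem supp_plane {x y : ι → F} {r s : Grp Q} (hr : IsRefl x r) (hs : IsRefl y s)
    (hxy : B x y = 0) (hm : Mono e (r * s)) {z : ι → F}
    (hz : z ∈ Submodule.span F ({x, y} : Set (ι → F))) :
    (supp Q e a z).card ≤ 4 ∧ (¬ Mir e z →
      ∀ w ∈ Submodule.span F ({x, y} : Set (ι → F)), supp Q e a w ⊆ supp Q e a z) := by
  classical
  obtain ⟨hx1, hy1, hneg⟩ := pair_plane_apply hr hs hxy
  obtain ⟨p, q, hpq⟩ := Submodule.mem_span_pair.1 hz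
  have hzn : ap (r * s) z = -z := by
    rw [← hpq, ap_add, ap_smul, ap_smul, hx1, hy1]; module
  have hdisp : ∀ i, ap (r * s) (e i) - e i ∈ Submodule.span F ({x, y} : Set (ι → F)) :=
    fun i => disp_mem_span (T := ({x, y} : Set (ι → F))) h.nd
      (fun v hv => refl_mul_apply_perp hr hs (hv x (by simp)) (hv y (by simp))) (e i)
  rcases Finset.eq_empty_or_nonempty (supp Q e a z) with h0 | ⟨i, hi⟩
  · refine ⟨by rw [h0]; simp, fun hnm => absurd ?_ hnm⟩
    rw [h.supp_eq_empty h0]
    by_cases hn : Nonempty (Fin n)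
    · obtain ⟨i⟩ := hn
      exact Or.inl ⟨i, 0, (zero_smul F _).symm⟩
    · exfalso
      have hx0 : x = 0 := h.eq_zero fun i => (hn ⟨i⟩).elim
      exact hr.1 (by rw [hx0, QuadraticMap.map_zero])
  obtain ⟨hq1, hq2, hq3⟩ := h.mir_in_neg hm hzn hi
  have hq0 : ap (r * s) (e i) - e i ≠ 0 := fun e0 => hq2 (by rw [e0, co_zero])
  constructor
  · by_cases hsub : supp Q e a z ⊆ supp Q e a (ap (r * s) (e i) - e i)
    · exact (Finset.card_le_card hsub).trans ((h.mir_card hq1).trans (by norm_num))
    obtain ⟨j, hj, hjn⟩ := Finset.not_subset.1 hsub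
    obtain ⟨hp1, hp2, -⟩ := h.mir_in_neg hm hzn hj
    have hind : ∀ c : F, ap (r * s) (e j) - e j ≠ c • (ap (r * s) (e i) - e i) := fun c e0 =>
      hp2 (by rw [e0, co_smul, notMem_supp.1 hjn, mul_zero])
    rw [← span_pair_eq (hdisp i) (hdisp j) hq0 hind] at hz
    refine (Finset.card_le_card (supp_span_pair hz)).trans ((Finset.card_union_le _ _).trans ?_)
    have := h.mir_card hq1
    have := h.mir_card hp1
    omega
  · intro hnm w hw
    have hind : ∀ c : F, z ≠ c • (ap (r * s) (e i) - e i) := fun c e0 =>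
      hnm (e0 ▸ h.mir_smul hq1 c)
    rw [← span_pair_eq (hdisp i) hz hq0 hind] at hw
    exact (supp_span_pair hw).trans (Finset.union_subset hq3 le_rfl)

end Frame

namespace Over

variable (h : Over Q e a M) (hall : AllMir M e a)
include h hall

/-- An element of the group sending a member of the frame to an axis is monomial. -/
theorem mono_of_axis {g : Grp Q} (hg : g ∈ M) {i : Fin n} (hi : Axis e (ap g (e i))) :
    Mono e g := by
  classical
  obtain ⟨j, c, hj⟩ := hi
  have hc : c ≠ 0 := fun e0 => h.a0 (by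
    rw [← h.q i, ← ap_q g (e i), hj, e0, zero_smul, QuadraticMap.map_zero])
  have key : ∀ x, Mir e x → Q x = a → Wv M e a (ap g x) := by
    intro x hx hq
    have h1 := rel_conj hg ((h.wv_mir hx hq).2 i)
    rw [hj] at h1
    have h2 := rel_smul_left h1 (inv_ne_zero hc)
    rw [smul_smul, inv_mul_cancel₀ hc, one_smul] at h2
    exact h.wv_of_rel (h.wv_e j) h2 (by rw [ap_q]; exact hq)
  intro l
  rcases hall _ (key _ (Frame.mir_e l) (h.q l)) with hax | ⟨p, q, hpq, d, σ, hσ, hl⟩
  · exact hax
  exfalso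
  have hqn : ∀ m, Q (ap g (e m)) ≠ 0 := fun m => by rw [ap_q, h.q]; exact h.a0
  have hd : d ≠ 0 := fun e0 => hqn l (by rw [hl, e0, zero_smul, QuadraticMap.map_zero])
  have hsl : supp Q e a (ap g (e l)) = {p, q} := by rw [hl, h.supp_pair hpq hd hσ]
  have hγ : d * d * 2 = 1 := by
    have := ap_q g (e l)
    rw [hl, h.q_pair hpq d σ hσ, h.q] at this
    exact mul_right_cancel₀ h.a0 (by linear_combination this)
  obtain ⟨m, hm⟩ : ∃ m, ¬ supp Q e a (ap g (e m)) ⊆ {p, q} := by
    by_contra hc'
    push Not at hc'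
    have := h.orth_family (Finset.univ : Finset (Fin n)) (fun m => ap g (e m)) {p, q}
      (fun m _ => hc' m) (fun m _ => hqn m) (fun m _ m' _ hne => by rw [ap_b]; exact h.orth m m' hne)
    rw [Finset.card_univ, Fintype.card_fin, Finset.card_pair hpq] at this
    have := h.nine
    omega
  have hlm : l ≠ m := fun e0 => hm (by rw [← e0, hsl])
  have hx : Mir e (d • (e l + (1 : F) • e m)) := Or.inr ⟨l, m, hlm, d, 1, one_mul 1, rfl⟩
  have hxq : Q (d • (e l + (1 : F) • e m)) = a := by
    rw [h.q_pair hlm d 1 (one_mul 1)]; linear_combination a * hγ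
  have hy := hall _ (key _ hx hxq)
  have hym := hall _ (key _ (Frame.mir_e m) (h.q m))
  obtain ⟨o, ho, hon⟩ := Finset.not_subset.1 hm
  rw [one_smul, ap_smul, ap_add] at hy
  set y := d • (ap g (e l) + ap g (e m)) with hydef
  have hyo : o ∈ supp Q e a y := by
    rw [mem_supp, hydef, co_smul, co_add, (notMem_supp (x := ap g (e l))).1 (hsl ▸ hon), zero_add]
    exact mul_ne_zero hd (mem_supp.1 ho)
  -- one of the two coordinates of the first image survives
  have hb : co Q e a p (ap g (e l)) * co Q e a p (ap g (e m)) +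
      co Q e a q (ap g (e l)) * co Q e a q (ap g (e m)) = 0 := by
    have hb := ap_b g (e l) (e m)
    rw [h.orth l m hlm, h.b_eq, ← Finset.sum_subset (Finset.subset_univ ({p, q} : Finset (Fin n)))
      (fun z _ hz => by rw [(notMem_supp (x := ap g (e l))).1 (hsl ▸ hz), zero_mul]),
      Finset.sum_pair hpq] at hb
    exact (mul_eq_zero.1 hb).resolve_left h.two_a
  have hlp : co Q e a p (ap g (e l)) ≠ 0 := mem_supp.1 (by rw [hsl]; simp)
  have hlq : co Q e a q (ap g (e l)) ≠ 0 := mem_supp.1 (by rw [hsl]; simp)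
  have hym2 := h.mir_card hym
  by_cases hmp : co Q e a p (ap g (e m)) = 0
  · rw [hmp, mul_zero, zero_add] at hb
    have hmq := (mul_eq_zero.1 hb).resolve_left hlq
    have hsub : ({p, q, o} : Finset (Fin n)) ⊆ supp Q e a y := by
      intro z hz
      simp only [Finset.mem_insert, Finset.mem_singleton] at hz
      rcases hz with rfl | rfl | rfl
      · rw [mem_supp, hydef, co_smul, co_add, hmp, add_zero]; exact mul_ne_zero hd hlp
      · rw [mem_supp, hydef, co_smul, co_add, hmq, add_zero]; exact mul_ne_zero hd hlq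
      · exact hyo
    have h3 := (Finset.card_le_card hsub).trans (h.mir_card hy)
    simp only [Finset.mem_insert, Finset.mem_singleton, not_or] at hon
    rw [Finset.card_insert_of_notMem (by simp [hpq, Ne.symm hon.1]), Finset.card_pair (Ne.symm hon.2)] at h3
    omega
  · have hmq : co Q e a q (ap g (e m)) ≠ 0 := fun e0 => hmp (by
      rw [e0, mul_zero, add_zero] at hb; exact (mul_eq_zero.1 hb).resolve_left hlp)
    have hsub : ({p, q, o} : Finset (Fin n)) ⊆ supp Q e a (ap g (e m)) := by
      intro z hz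
      simp only [Finset.mem_insert, Finset.mem_singleton] at hz
      rcases hz with rfl | rfl | rfl
      exacts [mem_supp.2 hmp, mem_supp.2 hmq, ho]
    have h3 := (Finset.card_le_card hsub).trans hym2
    simp only [Finset.mem_insert, Finset.mem_singleton, not_or] at hon
    rw [Finset.card_insert_of_notMem (by simp [hpq, Ne.symm hon.1]), Finset.card_pair (Ne.symm hon.2)] at h3
    omega

/-- A pair of reflections with small plane is monomial. -/
theorem mono_small {x y : ι → F} {r s : Grp Q} (hr : IsRefl x r) (hs : IsRefl y s)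
    (hM : r * s ∈ M) (hcard : (supp Q e a x ∪ supp Q e a y).card < n) : Mono e (r * s) := by
  classical
  obtain ⟨o, ho⟩ : ∃ o, o ∉ supp Q e a x ∪ supp Q e a y := by
    by_contra hc
    push Not at hc
    rw [Finset.eq_univ_of_forall hc, Finset.card_univ, Fintype.card_fin] at hcard
    omega
  rw [Finset.mem_union, not_or] at ho
  refine h.mono_of_axis hall hM (i := o) ⟨o, 1, ?_⟩
  rw [one_smul, refl_mul_apply_perp hr hs]
  · rw [b_comm, h.b_co, notMem_supp.1 ho.1, mul_zero]
  · rw [b_comm, h.b_co, notMem_supp.1 ho.2, mul_zero]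

/-- The plane of two images. -/
theorem conj_rel {g : Grp Q} (hg : g ∈ M) {x y : ι → F} (hxy : Rel M x y) :
    ∃ r s : Grp Q, IsRefl (ap g x) r ∧ IsRefl (ap g y) s ∧ r * s ∈ M := by
  obtain ⟨r, hr⟩ := exists_refl h.nd (v := ap g x) (by rw [ap_q]; exact hxy.1)
  obtain ⟨s, hs⟩ := exists_refl h.nd (v := ap g y) (by rw [ap_q]; exact hxy.2.1)
  exact ⟨r, s, hr, hs, (rel_conj hg hxy).2.2 r s hr hs⟩

/-- A small vector in many monomial planes is a mirror. -/
theorem mir_of_planes {y : ι → F} (hy : (supp Q e a y).card ≤ 4) (hq : Q y ≠ 0) (D : Finset (Fin n))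
    (hD : 4 ≤ D.card) (v : Fin n → ι → F) (hvq : ∀ d ∈ D, Q (v d) ≠ 0)
    (hvy : ∀ d ∈ D, B y (v d) = 0) (hvv : ∀ d ∈ D, ∀ d' ∈ D, d ≠ d' → B (v d) (v d') = 0)
    (hpl : ∀ d ∈ D, ∃ r s : Grp Q, IsRefl y r ∧ IsRefl (v d) s ∧ Mono e (r * s)) : Mir e y := by
  classical
  by_contra hnm
  have hin : ∀ d ∈ D, supp Q e a (v d) ⊆ supp Q e a y := fun d hd => by
    obtain ⟨r, s, hr, hs, hm⟩ := hpl d hd
    exact (h.supp_plane hr hs (hvy d hd) hm (z := y) (Submodule.subset_span (by simp))).2 hnm _
      (Submodule.subset_span (by simp))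
  have := h.orth_family (Finset.cons none (D.map Function.Embedding.some) (by simp))
    (fun o : Option (Fin n) => o.elim y v) (supp Q e a y)
    (fun o ho => by
      rcases o with _ | d
      · exact le_rfl
      · exact hin d (by simpa using ho))
    (fun o ho => by
      rcases o with _ | d
      · exact hq
      · exact hvq d (by simpa using ho))
    (fun o ho o' ho' hne => by
      rcases o with _ | d <;> rcases o' with _ | d'
      · exact absurd rfl hne
      · exact hvy d' (by simpa using ho')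
      · show B (v d) y = 0
        rw [b_comm]; exact hvy d (by simpa using ho)
      · exact hvv d (by simpa using ho) d' (by simpa using ho') (fun e0 => hne (by rw [e0])))
  rw [Finset.card_cons, Finset.card_map] at this
  omega

/-- An element sending the frame to mirrors is monomial. -/
theorem mono_of_mir {g : Grp Q} (hg : g ∈ M) (hmir : ∀ i, Mir e (ap g (e i))) : Mono e g := by
  classical
  intro l
  rcases hmir l with hax | ⟨p, q, hpq, d, σ, hσ, hl⟩
  · exact hax
  refine absurd hl (fun _ => ?_)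
  have hqn : ∀ m, Q (ap g (e m)) ≠ 0 := fun m => by rw [ap_q, h.q]; exact h.a0
  have hd : d ≠ 0 := fun e0 => hqn l (by rw [hl, e0, zero_smul, QuadraticMap.map_zero])
  have hsl : supp Q e a (ap g (e l)) = {p, q} := by rw [hl, h.supp_pair hpq hd hσ]
  have hγ : d * d * 2 = 1 := by
    have := ap_q g (e l)
    rw [hl, h.q_pair hpq d σ hσ, h.q] at this
    exact mul_right_cancel₀ h.a0 (by linear_combination this)
  obtain ⟨m, hm⟩ : ∃ m, Disjoint ({p, q} : Finset (Fin n)) (supp Q e a (ap g (e m))) := by
    by_contra hc'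
    push Not at hc'
    have key : ∀ m, supp Q e a (ap g (e m)) ⊆ {p, q} := fun m => by
      by_cases hlm : l = m
      · rw [← hlm, hsl]
      intro o ho
      by_contra hon
      obtain ⟨z, hz, hzm⟩ := Finset.not_disjoint_iff.1 (hc' m)
      have hb := ap_b g (e l) (e m)
      rw [h.orth l m hlm, h.b_eq, Finset.sum_eq_single z (fun w _ hw => ?_)
        (fun h0 => absurd (Finset.mem_univ z) h0)] at hb
      · rcases mul_eq_zero.1 ((mul_eq_zero.1 hb).resolve_left h.two_a) with h1 | h1
        · exact mem_supp.1 (hsl ▸ hz) h1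
        · exact mem_supp.1 hzm h1
      · by_cases hw1 : w ∈ supp Q e a (ap g (e l))
        · rw [(notMem_supp (x := ap g (e m))).1 fun hw2 => ?_, mul_zero]
          have hsub : ({z, w, o} : Finset (Fin n)) ⊆ supp Q e a (ap g (e m)) := by
            intro u hu
            simp only [Finset.mem_insert, Finset.mem_singleton] at hu
            rcases hu with rfl | rfl | rfl <;> assumption
          have h3 := (Finset.card_le_card hsub).trans (h.mir_card (hmir m))
          have hzo : z ≠ o := fun e0 => hon (e0 ▸ hz)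
          have hwo : w ≠ o := fun e0 => hon (e0 ▸ hsl ▸ hw1)
          rw [Finset.card_insert_of_notMem (by simp [Ne.symm hw, hzo]), Finset.card_pair hwo] at h3
          omega
        · rw [notMem_supp.1 hw1, zero_mul]
    have := h.orth_family (Finset.univ : Finset (Fin n)) (fun m => ap g (e m)) {p, q}
      (fun m _ => key m) (fun m _ => hqn m) (fun m _ m' _ hne => by rw [ap_b]; exact h.orth m m' hne)
    rw [Finset.card_univ, Fintype.card_fin, Finset.card_pair hpq] at this
    have := h.nine
    omega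
  have hlm : l ≠ m := fun e0 => by
    rw [← e0, hsl] at hm
    exact Finset.disjoint_left.1 hm (Finset.mem_insert_self p {q}) (Finset.mem_insert_self p {q})
  set x := d • (e l + (1 : F) • e m) with hxdef
  have hxm : Mir e x := Or.inr ⟨l, m, hlm, d, 1, one_mul 1, rfl⟩
  have hxq : Q x = a := by rw [hxdef, h.q_pair hlm d 1 (one_mul 1)]; linear_combination a * hγ
  have hsy : supp Q e a (ap g x) ⊆ {p, q} ∪ supp Q e a (ap g (e m)) := by
    rw [hxdef, one_smul, ap_smul, ap_add, supp_smul hd]
    exact (supp_add_le _ _).trans (by rw [hsl])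
  have hy4 : (supp Q e a (ap g x)).card ≤ 4 := by
    refine (Finset.card_le_card hsy).trans ((Finset.card_union_le _ _).trans ?_)
    have := h.mir_card (hmir m)
    rw [Finset.card_pair hpq]
    omega
  have hy : Mir e (ap g x) := by
    refine h.mir_of_planes hall hy4 (by rw [ap_q, hxq]; exact h.a0)
      ((Finset.univ.erase l).erase m) ?_ (fun k => ap g (e k)) (fun k _ => hqn k) (fun k hk => ?_)
      (fun k _ k' _ hne => by rw [ap_b]; exact h.orth k k' hne) (fun k _ => ?_)
    · rw [Finset.card_erase_of_mem (by simp [hlm.symm]), Finset.card_erase_of_mem (by simp),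
        Finset.card_univ, Fintype.card_fin]
      have := h.nine
      omega
    · simp only [Finset.mem_erase, Finset.mem_univ, and_true] at hk
      rw [ap_b, hxdef, one_smul, b_smul_left, b_add_left, h.orth l k (Ne.symm hk.2),
        h.orth m k (Ne.symm hk.1), add_zero, mul_zero]
    · obtain ⟨r, s, hr, hs, hrs⟩ := h.conj_rel hall hg (h.rel x (e k) hxm (Frame.mir_e k)
        (by rw [hxq]; exact h.a0) (by rw [h.q]; exact h.a0) ⟨a, by rw [hxq, h.q]⟩)
      refine ⟨r, s, hr, hs, h.mono_small hall hr hs hrs ?_⟩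
      have h1 := h.mir_card (hmir k)
      have := h.nine
      exact lt_of_le_of_lt (Finset.card_union_le _ _) (by omega)
  have hsub : {p, q} ∪ supp Q e a (ap g (e m)) ⊆ supp Q e a (ap g x) := by
    intro z hz
    rw [mem_supp, hxdef, one_smul, ap_smul, ap_add, co_smul, co_add]
    refine mul_ne_zero hd ?_
    rcases Finset.mem_union.1 hz with hz | hz
    · rw [notMem_supp.1 (Finset.disjoint_left.1 hm hz), add_zero]
      exact mem_supp.1 (hsl ▸ hz)
    · rw [(notMem_supp (x := ap g (e l))).1 (hsl ▸ Finset.disjoint_right.1 hm hz), zero_add]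
      exact mem_supp.1 hz
  have h3 := (Finset.card_le_card hsub).trans (h.mir_card hy)
  rw [Finset.card_union_of_disjoint hm, Finset.card_pair hpq] at h3
  have : 1 ≤ (supp Q e a (ap g (e m))).card := Finset.card_pos.2 (Finset.nonempty_iff_ne_empty.2
    fun e0 => hqn m (by rw [h.supp_eq_empty e0, QuadraticMap.map_zero]))
  omega

omit hall in
/-- Two reflections in a space of three coordinates are monomial only if the third image is a mirror. -/
theorem mir_of_three {g : Grp Q} {S : Finset (Fin n)} {f : Fin n} (hf : f ∉ S)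
    (h3 : S.card + 3 = n) (hin : ∀ l ∈ S, supp Q e a (ap g (e l)) ⊆ S)
    (hout : ∀ l ∉ S, Disjoint (supp Q e a (ap g (e l))) S)
    (hmono : ∀ c d, c ≠ d → c ∉ S → d ∉ S →
      ∃ r s : Grp Q, IsRefl (ap g (e c)) r ∧ IsRefl (ap g (e d)) s ∧ Mono e (r * s)) :
    Mir e (ap g (e f)) := by
  classical
  have hc2 : ((Finset.univ \ S).erase f).card = 2 := by
    rw [Finset.card_erase_of_mem (by simp [hf]), Finset.card_sdiff_of_subset (Finset.subset_univ _),
      Finset.card_univ, Fintype.card_fin]
    omega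
  obtain ⟨c, d, hcd, he⟩ := Finset.card_eq_two.1 hc2
  have hmem : ∀ l, l ∉ S → l = f ∨ l = c ∨ l = d := fun l hl => by
    by_cases hlf : l = f
    · exact Or.inl hlf
    · have : l ∈ ((Finset.univ \ S).erase f) := by simp [hl, hlf]
      rw [he] at this
      simpa using Or.inr (a := l = f) (by simpa using this : l = c ∨ l = d)
  have hc : c ∉ S ∧ c ≠ f := by
    have : c ∈ ((Finset.univ \ S).erase f) := by rw [he]; simp
    simpa [and_comm] using this
  have hd : d ∉ S ∧ d ≠ f := by
    have : d ∈ ((Finset.univ \ S).erase f) := by rw [he]; simp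
    simpa [and_comm] using this
  obtain ⟨r, s, hr, hs, hm⟩ := hmono c d hcd hc.1 hd.1
  obtain ⟨i, hi⟩ : (supp Q e a (ap g (e f))).Nonempty := Finset.nonempty_iff_ne_empty.2 fun e0 =>
    h.a0 (by rw [← h.q f, ← ap_q g, h.supp_eq_empty e0, QuadraticMap.map_zero])
  have hiS : i ∉ S := Finset.disjoint_left.1 (hout f hf) hi
  have hsum : e i = co Q e a i (ap g (e f)) • ap g (e f) +
      (co Q e a i (ap g (e c)) • ap g (e c) + co Q e a i (ap g (e d)) • ap g (e d)) := by
    obtain ⟨x, hx⟩ : ∃ x, x = ap g⁻¹ (e i) := ⟨_, rfl⟩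
    have hgx : ap g x = e i := by rw [hx, ap_ap_inv]
    have hcx : ∀ l, co Q e a l x = co Q e a i (ap g (e l)) := fun l => by
      refine mul_left_cancel₀ h.two_a ?_
      rw [← h.b_co, ← h.b_co, ← ap_b g, hgx, b_comm]
    have hxe : x = co Q e a i (ap g (e f)) • e f +
        (co Q e a i (ap g (e c)) • e c + co Q e a i (ap g (e d)) • e d) := h.ext fun l => by
      rw [co_add, co_add, co_smul, co_smul, co_smul, hcx]
      by_cases hl : l ∈ S
      · rw [h.co_ne (fun e0 : l = f => hf (e0 ▸ hl)), h.co_ne (fun e0 : l = c => hc.1 (e0 ▸ hl)),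
          h.co_ne (fun e0 : l = d => hd.1 (e0 ▸ hl)),
          notMem_supp.1 (fun h1 => hiS (hin l hl h1))]
        ring
      · rcases hmem l hl with rfl | rfl | rfl
        · rw [h.co_self, h.co_ne hc.2.symm, h.co_ne hd.2.symm]; ring
        · rw [h.co_self, h.co_ne hc.2, h.co_ne hcd]; ring
        · rw [h.co_self, h.co_ne hd.2, h.co_ne hcd.symm]; ring
    conv_lhs => rw [← hgx, hxe]
    simp only [ap_add, ap_smul]
  have ho : ∀ {u v : Fin n}, u ≠ v → B (ap g (e u)) (ap g (e v)) = 0 := fun huv => by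
    rw [ap_b]; exact h.orth _ _ huv
  obtain ⟨hc1, hd1, -⟩ := pair_plane_apply hr hs (ho hcd)
  have hkey : ap (r * s) (e i) + e i = (2 * co Q e a i (ap g (e f))) • ap g (e f) := by
    conv_lhs => rw [hsum]
    simp only [ap_add, ap_smul, hc1, hd1, refl_mul_apply_perp hr hs (ho hc.2) (ho hd.2)]
    module
  have hfe : ap g (e f) = (2 * co Q e a i (ap g (e f)))⁻¹ • (ap (r * s) (e i) + e i) := by
    rw [hkey, smul_smul, inv_mul_cancel₀ (mul_ne_zero h.two (mem_supp.1 hi)), one_smul]
  rw [hfe]
  refine h.mir_smul ?_ _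
  obtain ⟨j, γ, hγ, hj⟩ := h.mono_sign hm i
  rw [hj]
  by_cases hij : i = j
  · subst hij
    exact Or.inl ⟨i, γ + 1, by module⟩
  · exact Or.inr ⟨i, j, hij, 1, γ, hγ, by module⟩

/-- The centraliser of a sign change on at most four coordinates is monomial. -/
theorem cent_sign {g : Grp Q} (hg : g ∈ M) {S : Finset (Fin n)} (hS : S.Nonempty) (hS4 : S.card ≤ 4)
    (hSn : S.card + 5 ≤ n ∨ (S.card = 4 ∧ n = 7)) (hin : ∀ l ∈ S, supp Q e a (ap g (e l)) ⊆ S)
    (hout : ∀ l ∉ S, Disjoint (supp Q e a (ap g (e l))) S) : Mono e g := by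
  classical
  have hqn : ∀ m, Q (ap g (e m)) ≠ 0 := fun m => by rw [ap_q, h.q]; exact h.a0
  have hpl : ∀ c d, c ≠ d → ∃ r s : Grp Q, IsRefl (ap g (e c)) r ∧ IsRefl (ap g (e d)) s ∧ r * s ∈ M :=
    fun c d _ => h.conj_rel hall hg (h.rel _ _ (Frame.mir_e c) (Frame.mir_e d)
      (by rw [h.q]; exact h.a0) (by rw [h.q]; exact h.a0) ⟨a, by rw [h.q, h.q]⟩)
  obtain ⟨i, hi⟩ := hS
  have hcpl : (Finset.univ \ S).card = n - S.card := by
    rw [Finset.card_sdiff_of_subset (Finset.subset_univ _), Finset.card_univ, Fintype.card_fin]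
  have horth : ∀ c d, c ≠ d → B (ap g (e c)) (ap g (e d)) = 0 := fun c d hcd => by
    rw [ap_b]; exact h.orth c d hcd
  have hmono : ∀ c d, c ≠ d → c ∉ S → d ∉ S →
      ∃ r s : Grp Q, IsRefl (ap g (e c)) r ∧ IsRefl (ap g (e d)) s ∧ Mono e (r * s) := by
    intro c d hcd hc hd
    obtain ⟨r, s, hr, hs, hrs⟩ := hpl c d hcd
    refine ⟨r, s, hr, hs, h.mono_small hall hr hs hrs ?_⟩
    refine lt_of_lt_of_le (Finset.card_lt_card ((Finset.ssubset_iff_of_subset
      (Finset.subset_univ _)).2 ⟨i, Finset.mem_univ i, ?_⟩)) (by rw [Finset.card_univ, Fintype.card_fin])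
    rw [Finset.mem_union, not_or]
    exact ⟨Finset.disjoint_right.1 (hout c hc) hi, Finset.disjoint_right.1 (hout d hd) hi⟩
  have hsmall : ∀ c ∉ S, (supp Q e a (ap g (e c))).card ≤ 4 := by
    intro c hc
    obtain ⟨d, hd⟩ := Finset.card_pos.1 (show 0 < ((Finset.univ \ S).erase c).card by
      rw [Finset.card_erase_of_mem (by simp [hc]), hcpl]; omega)
    simp only [Finset.mem_erase, Finset.mem_sdiff, Finset.mem_univ, true_and] at hd
    obtain ⟨r, s, hr, hs, hm⟩ := hmono c d (Ne.symm hd.1) hc hd.2
    exact (h.supp_plane hr hs (horth c d (Ne.symm hd.1)) hm (Submodule.subset_span (by simp))).1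
  have hmc : ∀ c ∉ S, Mir e (ap g (e c)) := by
    intro f hf
    rcases hSn with hSn | ⟨hS4', hn7⟩
    swap
    · exact h.mir_of_three hf (by omega) hin hout hmono
    revert f
    intro c hc
    refine h.mir_of_planes hall (hsmall c hc) (hqn c) ((Finset.univ \ S).erase c) ?_
      (fun k => ap g (e k)) (fun k _ => hqn k) (fun k hk => ?_) (fun k _ k' _ hne => horth k k' hne)
      (fun k hk => ?_)
    · rw [Finset.card_erase_of_mem (by simp [hc]), hcpl]; omega
    all_goals simp only [Finset.mem_erase, Finset.mem_sdiff, Finset.mem_univ, true_and] at hk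
    · exact horth c k (Ne.symm hk.1)
    · exact hmono c k (Ne.symm hk.1) hc hk.2
  refine h.mono_of_mir hall hg fun l => ?_
  by_cases hl : l ∈ S
  swap
  · exact hmc l hl
  refine h.mir_of_planes hall ((Finset.card_le_card (hin l hl)).trans hS4) (hqn l)
    (Finset.univ.erase l)
    (by rw [Finset.card_erase_of_mem (Finset.mem_univ l), Finset.card_univ, Fintype.card_fin]; omega)
    (fun k => ap g (e k)) (fun k _ => hqn k) (fun k hk => ?_)
    (fun k _ k' _ hne => horth k k' hne) (fun k hk => ?_)
  all_goals simp only [Finset.mem_erase, Finset.mem_univ, and_true] at hk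
  · exact horth l k (Ne.symm hk)
  · obtain ⟨r, s, hr, hs, hrs⟩ := hpl l k (Ne.symm hk)
    refine ⟨r, s, hr, hs, h.mono_small hall hr hs hrs ?_⟩
    by_cases hkS : k ∈ S
    · exact lt_of_le_of_lt (Finset.card_le_card (Finset.union_subset (hin l hl) (hin k hkS))) (by omega)
    have h1 := Finset.card_le_card (hin l hl)
    have h2 := h.mir_card (hmc k hkS)
    exact lt_of_le_of_lt (Finset.card_union_le _ _) (by omega)

end Over

end CfsgLib.Orth.FrameMax
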