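import Cfsg.Agent.Lib.Classical.OrthFrameMax.Basic

set_option autoImplicit false
set_option linter.unusedSectionVars false

/-!
Vectors related to the frame, the reflection group of a coordinate subspace, and the centraliser of a
pair of reflections in it.
-/

namespace CfsgLib.Orth.FrameMax

open Matrix DecompMax

variable {F : Type*} [Field F] [Finite F] {ι : Type} [Fintype ι] [DecidableEq ι]

/-- An overgroup of the monomial group. -/
structure Over (Q : QuadraticForm F (ι → F)) {n : ℕ} (e : Fin n → ι → F) (a : F)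
    (M : Subgroup (Grp Q)) : Prop extends Frame Q e a where
  nine : n = 7 ∨ 9 ≤ n
  rel : ∀ x y, Mir e x → Mir e y → Q x ≠ 0 → Q y ≠ 0 → IsSquare (Q x * Q y) → Rel M x y
  neg : ∃ z ∈ M, ∀ x, ap z x = -x

variable {Q : QuadraticForm F (ι → F)} {n : ℕ} {e : Fin n → ι → F} {a : F} {M : Subgroup (Grp Q)}

local notation "B" => QuadraticMap.polar (DFunLike.coe Q)

/-- Related to every member of the frame. -/
def Wv (M : Subgroup (Grp Q)) (e : Fin n → ι → F) (a : F) (x : ι → F) : Prop :=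
  Q x = a ∧ ∀ i, Rel M (e i) x

/-- Only mirrors among the related vectors of small support. -/
def Tame (M : Subgroup (Grp Q)) (e : Fin n → ι → F) (a : F) (k : ℕ) : Prop :=
  ∀ x, Wv M e a x → (supp Q e a x).card ≤ k → Mir e x

/-- No related vector with four coordinates of equal squares. -/
def NoQuad (M : Subgroup (Grp Q)) (e : Fin n → ι → F) (a : F) : Prop :=
  ∀ x, Wv M e a x → (supp Q e a x).card = 4 →
    ¬ ∀ i ∈ supp Q e a x, ∀ j ∈ supp Q e a x, co Q e a i x * co Q e a i x = co Q e a j x * co Q e a j x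

/-- The reflections of related vectors supported in a set. -/
def gs (M : Subgroup (Grp Q)) (e : Fin n → ι → F) (a : F) (S : Finset (Fin n)) : Subgroup (Grp Q) :=
  Subgroup.closure {r | ∃ x, Wv M e a x ∧ supp Q e a x ⊆ S ∧ IsRefl x r}

/-- An isometry of finite order pairs two non-conjugate involutions with a central one. -/
theorem exists_central {G : Type*} [Group G] [Finite G] {t s : G} (ht : t * t = 1) (hs : s * s = 1)
    (hne : ¬ IsConj t s) :
    ∃ j : ℕ, orderOf (t * s) = 2 * j ∧ (t * s) ^ j ≠ 1 ∧ t * (t * s) ^ j = (t * s) ^ j * t ∧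
      s * (t * s) ^ j = (t * s) ^ j * s := by
  have htinv : t⁻¹ = t := inv_eq_of_mul_eq_one_right ht
  have hsinv : s⁻¹ = s := inv_eq_of_mul_eq_one_right hs
  set u := t * s with hu
  have hm := orderOf_pos u
  have htu : ∀ k : ℕ, t * u ^ k * t⁻¹ = (u ^ k)⁻¹ := fun k => by
    have e1 : t * u * t⁻¹ = u⁻¹ := by
      rw [hu, _root_.mul_inv_rev, hsinv, htinv, ← mul_assoc, ht, one_mul]
    rw [← inv_pow, ← e1, conj_pow]
  have hsu : ∀ k : ℕ, s * u ^ k * s⁻¹ = (u ^ k)⁻¹ := fun k => by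
    have e1 : s * u * s⁻¹ = u⁻¹ := by
      rw [hu, _root_.mul_inv_rev, hsinv, htinv, ← mul_assoc, mul_assoc (s * t), hs, mul_one]
    rw [← inv_pow, ← e1, conj_pow]
  rcases Nat.even_or_odd (orderOf u) with ⟨j, hj⟩ | ⟨j, hj⟩
  · have hjj : (u ^ j)⁻¹ = u ^ j := inv_eq_of_mul_eq_one_right (by
      rw [← pow_add, ← hj, pow_orderOf_eq_one])
    refine ⟨j, by omega, fun e1 => ?_, ?_, ?_⟩
    · have := Nat.le_of_dvd (by omega) (orderOf_dvd_of_pow_eq_one e1)
      omega
    · conv_rhs => rw [← hjj, ← htu]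
      group
    · conv_rhs => rw [← hjj, ← hsu]
      group
  · exfalso
    refine hne (IsConj.symm (isConj_iff.2 ⟨s * u ^ j, ?_⟩))
    have h1 : u ^ (2 * j) = u⁻¹ := eq_inv_of_mul_eq_one_left (by
      rw [← pow_succ, ← hj, pow_orderOf_eq_one])
    have h3 : s * u ^ j = (u ^ j)⁻¹ * s := by rw [← hsu, inv_mul_cancel_right]
    calc s * u ^ j * s * (s * u ^ j)⁻¹ = (s * u ^ j) * s * (u ^ j)⁻¹ * s⁻¹ := by group
      _ = (s * (u ^ j * u ^ j) * s⁻¹) * s := by
        have h4 : s * (u ^ j)⁻¹ = u ^ j * s := by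
          calc s * (u ^ j)⁻¹ = (s * u ^ j * s⁻¹)⁻¹ * s := by group
            _ = u ^ j * s := by rw [hsu, inv_inv]
        calc (s * u ^ j) * s * (u ^ j)⁻¹ * s⁻¹ = s * u ^ j * (s * (u ^ j)⁻¹) * s⁻¹ := by group
          _ = s * u ^ j * (u ^ j * s) * s⁻¹ := by rw [h4]
          _ = _ := by group
      _ = t := by
        rw [← pow_add, ← two_mul, hsu, h1, inv_inv, hu, mul_assoc, hs, mul_one]

theorem disp_mem_span (hB : Nondeg Q) {g : Grp Q} {T : Set (ι → F)}
    (hg : ∀ x, (∀ t ∈ T, B t x = 0) → ap g x = x) (v : ι → F) :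
    ap g v - v ∈ Submodule.span F T := by
  rw [← orth_orth hB (Submodule.span F T), mem_orth]
  intro x hx
  have hgx := hg x (mem_orth_span.1 hx)
  rw [b_sub_right]
  nth_rewrite 1 [← hgx]
  rw [ap_b, sub_self]

/-- Isometries commuting with a reflection fix its mirror up to a scalar. -/
theorem smul_of_comm_refl (h2 : (2 : F) ≠ 0) {w : ι → F} {r z : Grp Q} (hr : IsRefl w r)
    (hc : z * r = r * z) : ∃ c : F, ap z w = c • w := by
  have h1 : ap r (ap z w) = -(ap z w) := by
    rw [← ap_mul, ← hc, ap_mul, refl_self hr, ← neg_one_smul F w, ap_smul, neg_one_smul]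
  rw [hr.2] at h1
  refine ⟨((Q w)⁻¹ * B w (ap z w)) / 2, ?_⟩
  have h3 : (2 : F) • ap z w = ((Q w)⁻¹ * B w (ap z w)) • w := by
    rw [two_smul]
    linear_combination (norm := module) h1
  rw [div_eq_inv_mul, ← smul_smul, ← h3, smul_smul, inv_mul_cancel₀ h2, one_smul]

end CfsgLib.Orth.FrameMax
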