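import Cfsg.Agent.Lib.Classical.OrthFrameMax.Core

set_option autoImplicit false
set_option linter.unusedSectionVars false

/-!
A related vector which is not a mirror forces one with at most three coordinates, or one with four
coordinates in characteristic three.
-/

namespace CfsgLib.Orth.FrameMax

open Matrix DecompMax

variable {F : Type*} [Field F] [Finite F] {ι : Type} [Fintype ι] [DecidableEq ι]
variable {Q : QuadraticForm F (ι → F)} {n : ℕ} {e : Fin n → ι → F} {a : F} {M : Subgroup (Grp Q)}

local notation "B" => QuadraticMap.polar (DFunLike.coe Q)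

theorem rel_smul_right {x y : ι → F} (h : Rel M x y) {c : F} (hc : c ≠ 0) : Rel M x (c • y) :=
  ⟨h.1, by rw [q_smul]; exact mul_ne_zero (mul_ne_zero hc hc) h.2.1, fun r s hr hs => by
    have := refl_smul hs (inv_ne_zero hc)
    rw [smul_smul, inv_mul_cancel₀ hc, one_smul] at this
    exact h.2.2 r s hr this⟩

theorem rel_smul_left {x y : ι → F} (h : Rel M x y) {c : F} (hc : c ≠ 0) : Rel M (c • x) y :=
  rel_symm (rel_smul_right (rel_symm h) hc)

theorem tame_mono {k m : ℕ} (h : Tame M e a m) (hkm : k ≤ m) : Tame M e a k :=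
  fun x hx hc => h x hx (hc.trans hkm)

namespace Over

variable (h : Over Q e a M)
include h

/-- A monomial element of the group preserves the related vectors. -/
theorem wv_conj {g : Grp Q} (hg : g ∈ M) (hm : Mono e g) {x : ι → F} (hx : Wv M e a x) :
    Wv M e a (ap g x) := by
  have i : Fin n := ⟨0, by have := h.nine; omega⟩
  obtain ⟨j, c, hc, hj⟩ := h.mono_sign hm i
  have hc0 : c ≠ 0 := fun e0 => zero_ne_one (α := F) (by rw [← hc, e0, zero_mul])
  have h1 := rel_conj hg (hx.2 i)
  rw [hj] at h1
  have h2 := rel_smul_left h1 hc0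
  rw [smul_smul, hc, one_smul] at h2
  exact h.wv_of_rel (h.wv_e j) h2 (by rw [ap_q]; exact hx.1)

/-- Transposing a coordinate in the support with one outside. -/
theorem exists_moved_vec {x : ι → F} (hx : Wv M e a x) {s o : Fin n} (ho : co Q e a o x = 0)
    (hso : s ≠ o) (hcard : (insert s (supp Q e a x)).card + 3 ≤ n) :
    ∃ y, Wv M e a y ∧ co Q e a s y = 0 ∧ co Q e a o y = -co Q e a s x ∧
      ∀ l, l ≠ s → l ≠ o → co Q e a l y = co Q e a l x := by
  classical
  obtain ⟨k, l, hk, hl, hkl⟩ := Finset.one_lt_card_iff.1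
    (show 1 < (Finset.univ \ (insert o (insert s (supp Q e a x)))).card by
      have h1 := Finset.card_insert_le o (insert s (supp Q e a x))
      have h2 := Finset.le_card_sdiff (insert o (insert s (supp Q e a x))) (Finset.univ : Finset (Fin n))
      rw [Finset.card_univ, Fintype.card_fin] at h2
      omega)
  simp only [Finset.mem_sdiff, Finset.mem_univ, true_and, Finset.mem_insert, not_or] at hk hl
  have hq1 := h.q_pair hso 1 1 (one_mul 1)
  have hq2 := h.q_pair hkl 1 1 (one_mul 1)
  simp only [one_smul, one_mul] at hq1 hq2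
  obtain ⟨r, hr⟩ := exists_refl h.nd (v := e s + e o) (by rw [hq1]; exact h.two_a)
  obtain ⟨r', hr'⟩ := exists_refl h.nd (v := e k + e l) (by rw [hq2]; exact h.two_a)
  have m1 : Mir e (e s + e o) := Or.inr ⟨s, o, hso, 1, 1, one_mul 1, by rw [one_smul, one_smul]⟩
  have m2 : Mir e (e k + e l) := Or.inr ⟨k, l, hkl, 1, 1, one_mul 1, by rw [one_smul, one_smul]⟩
  have hg : r * r' ∈ M := (h.rel _ _ m1 m2 hr.1 hr'.1 ⟨2 * a, by rw [hq1, hq2]⟩).2.2 r r' hr hr'
  have hgm : Mono e (r * r') := Frame.mono_mul (h.mono_refl m1 hr) (h.mono_refl m2 hr')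
  have hgx : ap (r * r') x = x - ((2 * a)⁻¹ * B (e s + e o) x) • (e s + e o) := by
    rw [ap_mul, refl_fix hr' ?_, hr.2, hq1]
    rw [b_add_left, h.b_co, h.b_co, notMem_supp.1 hk.2.2, notMem_supp.1 hl.2.2, mul_zero, add_zero]
  refine ⟨_, h.wv_conj hg hgm hx, ?_, ?_, fun m hms hmo => ?_⟩
  · rw [hgx, co_sub, co_smul, co_add, h.co_self, h.co_ne hso, b_add_left, h.b_co, h.b_co, ho]
    rw [mul_zero, add_zero, add_zero, inv_mul_cancel_left₀ h.two_a, mul_one, sub_self]
  · rw [hgx, co_sub, co_smul, co_add, h.co_self, h.co_ne hso.symm, b_add_left, h.b_co, h.b_co, ho]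
    rw [mul_zero, add_zero, inv_mul_cancel_left₀ h.two_a]
    ring
  · rw [hgx, co_sub, co_smul, co_add, h.co_ne hms, h.co_ne hmo, add_zero, mul_zero, sub_zero]

theorem co_refl_w {w x : ι → F} (hw : Q w = a) {r : Grp Q} (hr : IsRefl w r) (l : Fin n) :
    co Q e a l (ap r x) =
      co Q e a l x - 2 * (∑ m, co Q e a m w * co Q e a m x) * co Q e a l w := by
  rw [hr.2, co_sub, co_smul, hw, h.b_eq]
  have := h.a0
  field_simp

theorem sum_e (w : ι → F) (i : Fin n) :
    ∑ m, co Q e a m w * co Q e a m (e i) = co Q e a i w := by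
  rw [Finset.sum_eq_single i (fun m _ hm => by rw [h.co_ne hm, mul_zero])
    (fun hi => absurd (Finset.mem_univ i) hi), h.co_self, mul_one]

theorem sum_sq {w : ι → F} (hw : Q w = a) :
    ∑ m ∈ supp Q e a w, co Q e a m w * co Q e a m w = 1 := by
  have := h.q_eq_supp w
  rw [hw] at this
  exact mul_left_cancel₀ h.a0 (by rw [← this, mul_one])

/-- Related vectors with five or more coordinates. -/
theorem tame_step {k : ℕ} (hk : 5 ≤ k) (ht : Tame M e a (k - 1)) : Tame M e a k := by
  classical
  intro w hw hcard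
  by_cases hlt : (supp Q e a w).card < k
  · exact ht w hw (by omega)
  exfalso
  set S := supp Q e a w with hS
  have hSk : S.card = k := by omega
  have h3 : Tame M e a 3 := tame_mono ht (by omega)
  have hnq : NoQuad M e a := fun x hx hx4 _ => by
    have := h.mir_card (ht x hx (by omega))
    omega
  have heq : ∀ i ∈ S, ∀ j ∈ S, co Q e a i w * co Q e a i w = co Q e a j w * co Q e a j w := by
    intro i hi j hj
    by_cases hij : i = j
    · rw [hij]
    rcases h.sq_eq_of_full (S := S) (by omega) h3 (tame_mono ht (by omega)) (Or.inr hnq) hw hS.symm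
      hi hj hij with h1 | ⟨c, d, hcd, h2, -⟩
    · exact h1
    · exfalso
      have h4 := Finset.le_card_sdiff ({i, j} : Finset (Fin n)) S
      rw [h2, Finset.card_pair hcd, Finset.card_pair hij] at h4
      omega
  obtain ⟨i, hi⟩ := Finset.card_pos.1 (show 0 < S.card by omega)
  set q := co Q e a i w * co Q e a i w with hq
  have hsum : (k : F) * q = 1 := by
    rw [← h.sum_sq hw.1, ← hS, Finset.sum_congr rfl (fun m hm => heq m hm i hi), Finset.sum_const,
      hSk, nsmul_eq_mul]
  have hne : ∀ l ∈ S, co Q e a l w ≠ 0 := fun l hl => mem_supp.1 (hS ▸ hl)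
  obtain ⟨r, hr⟩ := exists_refl h.nd (v := w) (by rw [hw.1]; exact h.a0)
  -- the image of a member of the frame
  have hu : Wv M e a (ap r (e i)) := h.wv_refl hw (h.wv_e i) hr
  have hco : ∀ l, co Q e a l (ap r (e i)) =
      co Q e a l (e i) - 2 * co Q e a i w * co Q e a l w := fun l => by
    rw [h.co_refl_w hw.1 hr, h.sum_e]
  have hus : ∀ l, l ≠ i → (co Q e a l (ap r (e i)) ≠ 0 ↔ l ∈ S) := fun l hl => by
    rw [hco, h.co_ne hl, zero_sub, neg_ne_zero, hS, mem_supp]
    exact ⟨fun h1 => (mul_ne_zero_iff.1 h1).2, fun h1 => mul_ne_zero (mul_ne_zero h.two (hne i hi)) h1⟩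
  have hi0 : co Q e a i (ap r (e i)) = 1 - 2 * q := by rw [hco, h.co_self, hq]; ring
  have h4q : 4 * q = 1 := by
    by_cases h0 : 1 - 2 * q = 0
    · exfalso
      have hs : supp Q e a (ap r (e i)) = S.erase i := by
        ext l
        rw [mem_supp, Finset.mem_erase]
        by_cases hl : l = i
        · subst hl; simp [hi0, h0]
        · simp [hus l hl, hl]
      have := h.mir_card (ht _ hu (by rw [hs, Finset.card_erase_of_mem hi]; omega))
      rw [hs, Finset.card_erase_of_mem hi] at this
      omega
    · have hs : supp Q e a (ap r (e i)) = S := by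
        ext l
        rw [mem_supp]
        by_cases hl : l = i
        · subst hl; simp [hi0, h0, hi]
        · exact hus l hl
      obtain ⟨l, hl, hli⟩ := Finset.exists_mem_ne (show 1 < S.card by omega) i
      have h1 : co Q e a i (ap r (e i)) * co Q e a i (ap r (e i)) =
          co Q e a l (ap r (e i)) * co Q e a l (ap r (e i)) := by
        rcases h.sq_eq_of_full (S := S) (by omega) h3 (tame_mono ht (by omega)) (Or.inr hnq) hu hs
          hi hl hli.symm with h1 | ⟨c, d, hcd, h2, -⟩
        · exact h1
        · exfalso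
          have h4 := Finset.le_card_sdiff ({i, l} : Finset (Fin n)) S
          rw [h2, Finset.card_pair hcd, Finset.card_pair hli.symm] at h4
          omega
      rw [hi0, hco l, h.co_ne hli, zero_sub] at h1
      have h2 : co Q e a l w * co Q e a l w = q := heq l hl i hi
      linear_combination -h1 - (4 * q) * h2 + (4 * (co Q e a l w * co Q e a l w)) * hq
  have hk4 : (k : F) = 4 := by
    have h0 : q ≠ 0 := mul_ne_zero (hne i hi) (hne i hi)
    exact mul_right_cancel₀ h0 (by rw [hsum, h4q])
  by_cases hk5 : k = 5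
  · subst hk5
    refine one_ne_zero (α := F) ?_
    push_cast at hk4
    linear_combination hk4
  -- flipping three coordinates
  obtain ⟨T, hTS, hT⟩ := Finset.exists_subset_card_eq (show 3 ≤ S.card by omega)
  obtain ⟨u, v, o, huv, huo, hvo, rfl⟩ := Finset.card_eq_three.1 hT
  obtain ⟨ru, hru⟩ := exists_refl h.nd (v := e u) (by rw [h.q]; exact h.a0)
  obtain ⟨rv, hrv⟩ := exists_refl h.nd (v := e v) (by rw [h.q]; exact h.a0)
  obtain ⟨ro, hro⟩ := exists_refl h.nd (v := e o) (by rw [h.q]; exact h.a0)
  have hd : Wv M e a (ap (ru * (rv * ro)) w) := by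
    rw [ap_mul, ap_mul]
    exact h.wv_refl (h.wv_e u) (h.wv_refl (h.wv_e v) (h.wv_refl (h.wv_e o) hw hro) hrv) hru
  have hcd : ∀ l, co Q e a l (ap (ru * (rv * ro)) w) =
      (if l = u ∨ l = v ∨ l = o then -1 else 1) * co Q e a l w := fun l => by
    have key : ∀ (m : Fin n) (t : Grp Q), IsRefl (e m) t → ∀ y : ι → F,
        co Q e a l (ap t y) = (if l = m then -1 else 1) * co Q e a l y := fun m t ht y => by
      rw [h.co_refl_w (h.q m) ht, Finset.sum_eq_single m
        (fun x _ hx => by rw [h.co_ne hx, zero_mul])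
        (fun hm => absurd (Finset.mem_univ m) hm), h.co_self, h.co_e]
      split_ifs with h1
      · subst h1; ring
      · ring
    rw [ap_mul, ap_mul, key u ru hru, key v rv hrv, key o ro hro]
    by_cases e1 : l = u
    · subst e1; simp [huv, huo]
    · by_cases e2 : l = v
      · subst e2; simp [e1, hvo]
      · by_cases e3 : l = o
        · subst e3; simp [e1, e2]
        · simp [e1, e2, e3]
  obtain ⟨wd, hwd⟩ : ∃ wd, wd = ap (ru * (rv * ro)) w := ⟨_, rfl⟩
  rw [← hwd] at hd hcd
  have hB : ∑ m, co Q e a m w * co Q e a m wd = -(1 / 2) := by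
    have h1 : ∀ m, co Q e a m w * co Q e a m wd = co Q e a m w * co Q e a m w -
        (if m ∈ ({u, v, o} : Finset (Fin n)) then 2 * (co Q e a m w * co Q e a m w) else 0) := fun m => by
      rw [hcd]
      by_cases e1 : m = u ∨ m = v ∨ m = o
      · rw [if_pos e1, if_pos (by simpa using e1)]; ring
      · rw [if_neg e1, if_neg (by simpa using e1)]; ring
    rw [Finset.sum_congr rfl (fun m _ => h1 m), Finset.sum_sub_distrib, Finset.sum_ite_mem,
      Finset.univ_inter, Finset.sum_congr rfl (fun m (hm : m ∈ ({u, v, o} : Finset (Fin n))) => by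
        rw [heq m (hTS hm) i hi]), Finset.sum_const, hT,
      ← Finset.sum_subset (Finset.subset_univ (supp Q e a w)) (fun m _ hm => by
        rw [notMem_supp.1 hm, mul_zero]), h.sum_sq hw.1, nsmul_eq_mul]
    have := h.two
    field_simp
    linear_combination (-3 : F) * h4q
  obtain hy := h.wv_refl hw hd hr
  have hys : supp Q e a (ap r wd) = S \ {u, v, o} := by
    ext l
    rw [mem_supp, h.co_refl_w hw.1 hr, hB, hcd, Finset.mem_sdiff]
    by_cases e1 : l = u ∨ l = v ∨ l = o
    · rw [if_pos e1]
      have hm : l ∈ ({u, v, o} : Finset (Fin n)) := by simpa using e1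
      refine iff_of_false (fun h1 => h1 ?_) (fun h1 => h1.2 hm)
      have := h.two
      field_simp
      ring
    · rw [if_neg e1]
      have hm : l ∉ ({u, v, o} : Finset (Fin n)) := by simpa using e1
      rw [hS, mem_supp, and_iff_left hm]
      have := h.two
      rw [show 1 * co Q e a l w - 2 * -(1 / 2) * co Q e a l w = 2 * co Q e a l w by field_simp; ring]
      exact ⟨fun h1 => (mul_ne_zero_iff.1 h1).2, fun h1 => mul_ne_zero this h1⟩
  have hsub : ({u, v, o} : Finset (Fin n)) ⊆ S := hTS
  have h5 := h.mir_card (ht _ hy (by rw [hys, Finset.card_sdiff_of_subset hsub, hT]; omega))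
  rw [hys, Finset.card_sdiff_of_subset hsub, hT] at h5
  omega

theorem tame_of_four (h4 : Tame M e a 4) : ∀ x, Wv M e a x → Mir e x := by
  have : ∀ k, Tame M e a k := fun k => by
    induction k with
    | zero => exact tame_mono h4 (by omega)
    | succ k ih =>
      by_cases hk : k + 1 ≤ 4
      · exact tame_mono h4 hk
      · exact h.tame_step (by omega) ih
  exact fun x hx => this _ x hx le_rfl

/-- No quads outside characteristic three. -/
theorem no_quad (h3 : Tame M e a 3) (hthree : (3 : F) ≠ 0) : NoQuad M e a := by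
  classical
  intro w hw hcard heq
  set S := supp Q e a w with hS
  obtain ⟨s, hs⟩ := Finset.card_pos.1 (show 0 < S.card by omega)
  obtain ⟨o, ho⟩ : ∃ o, o ∉ S := by
    by_contra hc
    push Not at hc
    have := Finset.card_le_card (fun x (_ : x ∈ (Finset.univ : Finset (Fin n))) => hc x)
    rw [Finset.card_univ, Fintype.card_fin] at this
    have := h.nine
    omega
  set q := co Q e a s w * co Q e a s w with hq
  have h4q : 4 * q = 1 := by
    rw [← h.sum_sq hw.1, ← hS, Finset.sum_congr rfl (fun m hm => heq m hm s hs), Finset.sum_const,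
      hcard, nsmul_eq_mul, hq]
    norm_num
  have hso : s ≠ o := fun e0 => ho (e0 ▸ hs)
  obtain ⟨y, hy, hys, hyo, hyl⟩ := h.exists_moved_vec hw (s := s) (notMem_supp.1 ho) hso
    (by have := h.nine; rw [← hS, Finset.insert_eq_of_mem hs, hcard]; omega)
  obtain ⟨r, hr⟩ := exists_refl h.nd (v := w) (by rw [hw.1]; exact h.a0)
  have hB : ∑ m, co Q e a m w * co Q e a m y = 3 * q := by
    rw [← Finset.sum_subset (Finset.subset_univ S) (fun m _ hm => by
      rw [notMem_supp.1 (hS ▸ hm), zero_mul]), ← Finset.sum_erase_add _ _ hs, hys, mul_zero, add_zero,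
      Finset.sum_congr rfl (fun m hm => by
        rw [hyl m (Finset.ne_of_mem_erase hm) (fun e0 => ho (e0 ▸ Finset.mem_of_mem_erase hm)),
          heq m (Finset.mem_of_mem_erase hm) s hs]), Finset.sum_const,
      Finset.card_erase_of_mem hs, hcard, nsmul_eq_mul, hq]
    norm_num
  obtain ⟨u, hu, huw⟩ : ∃ u, Wv M e a u ∧ ∀ l, co Q e a l u =
      co Q e a l y - 2 * (3 * q) * co Q e a l w :=
    ⟨_, h.wv_refl hw hy hr, fun l => by rw [h.co_refl_w hw.1 hr, hB]⟩
  have hws : co Q e a s w ≠ 0 := mem_supp.1 hs
  have hwo : co Q e a o w = 0 := notMem_supp.1 ho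
  have huo : co Q e a o u = -co Q e a s w := by rw [huw, hyo, hwo, mul_zero, sub_zero]
  obtain ⟨l, hl, hls⟩ := Finset.exists_mem_ne (show 1 < S.card by omega) s
  have hlo : l ≠ o := fun e0 => ho (e0 ▸ hl)
  have hul : 2 * co Q e a l u = -co Q e a l w := by
    rw [huw, hyl l hls hlo]
    linear_combination (-3 * co Q e a l w) * h4q
  have hus : supp Q e a u = insert o S := by
    ext m
    rw [mem_supp, Finset.mem_insert]
    by_cases e1 : m = o
    · subst e1
      simp only [huo, neg_ne_zero, true_or, iff_true]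
      exact hws
    by_cases e2 : m = s
    · subst e2
      rw [huw, hys, zero_sub, neg_ne_zero]
      simp only [hs, or_true, iff_true]
      have hq0 : q ≠ 0 := fun e0 => one_ne_zero (α := F) (by rw [← h4q, e0, mul_zero])
      exact mul_ne_zero (mul_ne_zero h.two (mul_ne_zero hthree hq0)) hws
    · rw [huw, hyl m e2 e1]
      have hkey : 2 * (co Q e a m w - 2 * (3 * q) * co Q e a m w) = -co Q e a m w := by
        linear_combination (-3 * co Q e a m w) * h4q
      rw [hS, mem_supp]
      simp only [e1, false_or]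
      refine ⟨fun h1 h2 => h1 (by rw [h2, mul_zero, sub_zero]), fun h1 h2 => h1 ?_⟩
      rw [h2, mul_zero] at hkey
      exact neg_eq_zero.1 hkey.symm
  have hc5 : (insert o S).card = 5 := by rw [Finset.card_insert_of_notMem ho, hcard]
  rcases h.sq_eq_of_full (S := insert o S) (by omega) h3 (by rw [hc5]; exact h3) (Or.inl hc5) hu hus
    (Finset.mem_insert_of_mem hl) (Finset.mem_insert_self o S) hlo with h1 | ⟨c, d, hcd, h2, -⟩
  · have h2 : co Q e a l w * co Q e a l w = co Q e a s w * co Q e a s w := heq l hl s hs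
    refine hthree ?_
    have hq0 : co Q e a s w * co Q e a s w ≠ 0 := mul_ne_zero hws hws
    refine mul_right_cancel₀ hq0 ?_
    rw [huo] at h1
    linear_combination -(4 : F) * h1 + (2 * co Q e a l u - co Q e a l w) * hul + h2
  · have h4 := Finset.le_card_sdiff ({l, o} : Finset (Fin n)) (insert o S)
    rw [h2, Finset.card_pair hcd, Finset.card_pair hlo, hc5] at h4
    omega

/-- Related vectors with four coordinates outside characteristic three. -/
theorem tame_four (h3 : Tame M e a 3) (hthree : (3 : F) ≠ 0) : Tame M e a 4 := by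
  classical
  intro w hw hcard
  by_cases hlt : (supp Q e a w).card < 4
  · exact h3 w hw (by omega)
  exfalso
  set S := supp Q e a w with hS
  have hS4 : S.card = 4 := by omega
  have hnq := h.no_quad h3 hthree
  have hP : ∀ v, Wv M e a v → supp Q e a v = S → ∀ i j k l : Fin n, i ≠ j → i ≠ k → i ≠ l → j ≠ k →
      j ≠ l → k ≠ l → S = {i, j, k, l} →
      co Q e a i v * co Q e a i v = co Q e a j v * co Q e a j v ∨
        co Q e a k v * co Q e a k v = co Q e a l v * co Q e a l v := by
    intro v hv hvS i j k l hij hik hil hjk hjl hkl hSe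
    rcases h.sq_eq_of_full (S := S) (by omega) h3 (by rw [hS4]; exact tame_mono h3 (by omega))
      (Or.inr hnq) hv hvS (i := i) (j := j) (by rw [hSe]; simp) (by rw [hSe]; simp) hij with
      h1 | ⟨c, d, hcd, h2, h3'⟩
    · exact Or.inl h1
    · right
      have e1 : S \ {i, j} = {k, l} := by
        rw [hSe]; ext m
        simp only [Finset.mem_sdiff, Finset.mem_insert, Finset.mem_singleton]
        constructor
        · rintro ⟨h5, h6⟩; tauto
        · rintro (rfl | rfl) <;> simp [hik.symm, hjk.symm, hil.symm, hjl.symm]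
      rw [e1] at h2
      have hk' : k ∈ ({c, d} : Finset (Fin n)) := h2 ▸ Finset.mem_insert_self k _
      have hl' : l ∈ ({c, d} : Finset (Fin n)) :=
        h2 ▸ Finset.mem_insert_of_mem (Finset.mem_singleton_self l)
      rw [Finset.mem_insert, Finset.mem_singleton] at hk' hl'
      rcases hk' with rfl | rfl <;> rcases hl' with rfl | rfl
      · exact absurd rfl hkl
      · exact h3'
      · exact h3'.symm
      · exact absurd rfl hkl
  obtain ⟨i, j, k, l, hij, hik, hil, hjk, hjl, hkl, hSe⟩ := Finset.card_eq_four.1 hS4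
  have hmain : ∀ i j k l : Fin n, i ≠ j → i ≠ k → i ≠ l → j ≠ k → j ≠ l → k ≠ l → S = {i, j, k, l} →
      co Q e a i w * co Q e a i w = co Q e a j w * co Q e a j w →
      co Q e a i w * co Q e a i w = co Q e a k w * co Q e a k w → False := by
    intro i j k l hij hik hil hjk hjl hkl hSe hA hB
    have hne : ∀ m ∈ S, co Q e a m w ≠ 0 := fun m hm => mem_supp.1 (hS ▸ hm)
    have hsum := h.sum_sq hw.1
    rw [← hS, hSe, Finset.sum_insert (by simp [hij, hik, hil]),
      Finset.sum_insert (by simp [hjk, hjl]), Finset.sum_pair hkl] at hsum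
    have hiS : i ∈ S := by rw [hSe]; simp
    set wi := co Q e a i w with hwi
    set wl := co Q e a l w with hwl
    have hqd : 4 * (wi * wi) = 1 → False := fun h4 => hnq w hw (hS ▸ hS4) (by
      have hd : wl * wl = wi * wi := by linear_combination hsum + hA + hB - h4
      intro x hx y hy
      have hall : ∀ z ∈ S, co Q e a z w * co Q e a z w = wi * wi := fun z hz => by
        rw [hSe] at hz
        simp only [Finset.mem_insert, Finset.mem_singleton] at hz
        rcases hz with rfl | rfl | rfl | rfl
        exacts [rfl, hA.symm, hB.symm, hd]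
      rw [hall x (hS ▸ hx), hall y (hS ▸ hy)])
    obtain ⟨r, hr⟩ := exists_refl h.nd (v := w) (by rw [hw.1]; exact h.a0)
    have hu : Wv M e a (ap r (e i)) := h.wv_refl hw (h.wv_e i) hr
    have hco : ∀ m, co Q e a m (ap r (e i)) = co Q e a m (e i) - 2 * wi * co Q e a m w := fun m => by
      rw [h.co_refl_w hw.1 hr, h.sum_e]
    have hi0 : co Q e a i (ap r (e i)) = 1 - 2 * (wi * wi) := by rw [hco, h.co_self]; ring
    have hus : ∀ m, m ≠ i → (co Q e a m (ap r (e i)) ≠ 0 ↔ m ∈ S) := fun m hm => by
      rw [hco, h.co_ne hm, zero_sub, neg_ne_zero, hS, mem_supp]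
      exact ⟨fun h1 => (mul_ne_zero_iff.1 h1).2,
        fun h1 => mul_ne_zero (mul_ne_zero h.two (hne i hiS)) h1⟩
    by_cases h0 : 1 - 2 * (wi * wi) = 0
    · have hs : supp Q e a (ap r (e i)) = S.erase i := by
        ext m
        rw [mem_supp, Finset.mem_erase]
        by_cases hm : m = i
        · subst hm; simp [hi0, h0]
        · simp [hus m hm, hm]
      have := h.mir_card (h3 _ hu (by rw [hs, Finset.card_erase_of_mem hiS]; omega))
      rw [hs, Finset.card_erase_of_mem hiS] at this
      omega
    have hs : supp Q e a (ap r (e i)) = S := by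
      ext m
      rw [mem_supp]
      by_cases hm : m = i
      · subst hm; simp [hi0, h0, hiS]
      · exact hus m hm
    have hl0 : wl ≠ 0 := hne l (by rw [hSe]; simp)
    have hi00 : wi ≠ 0 := hne i hiS
    rcases hP _ hu hs i j k l hij hik hil hjk hjl hkl hSe with h1 | h1
    · rw [hi0, hco, h.co_ne hij.symm, zero_sub] at h1
      exact hqd (by linear_combination -h1 + (4 * (wi * wi)) * hA)
    · rw [hco, hco, h.co_ne hik.symm, h.co_ne hil.symm, zero_sub, zero_sub] at h1
      have hd : wi * wi = wl * wl := by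
        refine mul_left_cancel₀ (mul_ne_zero (mul_ne_zero h.two h.two) (mul_ne_zero hi00 hi00)) ?_
        linear_combination h1 + (4 * (wi * wi)) * hB
      exact hqd (by linear_combination hsum + hA + hB + hd)
  -- three equal squares
  have perm : ∀ T : Finset (Fin n), T = {i, j, k, l} → S = T := fun T hT => hSe.trans hT.symm
  have p1 := hP w hw hS.symm i j k l hij hik hil hjk hjl hkl hSe
  have p2 := hP w hw hS.symm i k j l hik hij hil hjk.symm hkl hjl
    (perm _ (by ext m; simp only [Finset.mem_insert, Finset.mem_singleton]; simp only [or_comm, or_left_comm]))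
  have p3 := hP w hw hS.symm i l j k hil hij hik hjl.symm hkl.symm hjk
    (perm _ (by ext m; simp only [Finset.mem_insert, Finset.mem_singleton]; simp only [or_comm, or_left_comm]))
  rcases p1 with e1 | e1 <;> rcases p2 with e2 | e2 <;> rcases p3 with e3 | e3
  · exact hmain i j k l hij hik hil hjk hjl hkl hSe e1 e2
  · exact hmain i j k l hij hik hil hjk hjl hkl hSe e1 e2
  · exact hmain i j l k hij hil hik hjl hjk hkl.symm (perm _ (by ext m; simp only [Finset.mem_insert, Finset.mem_singleton]; simp only [or_comm, or_left_comm])) e1 e3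
  · exact hmain j i k l hij.symm hjk hjl hik hil hkl (perm _ (by ext m; simp only [Finset.mem_insert, Finset.mem_singleton]; simp only [or_comm, or_left_comm])) e1.symm e3
  · exact hmain i k l j hik hil hij hkl hjk.symm hjl.symm (perm _ (by ext m; simp only [Finset.mem_insert, Finset.mem_singleton]; simp only [or_comm, or_left_comm])) e2 e3
  · exact hmain k i j l hik.symm hjk.symm hkl hij hil hjl (perm _ (by ext m; simp only [Finset.mem_insert, Finset.mem_singleton]; simp only [or_comm, or_left_comm])) e2.symm e3.symm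
  · exact hmain l i j k hil.symm hjl.symm hkl.symm hij hik hjk (perm _ (by ext m; simp only [Finset.mem_insert, Finset.mem_singleton]; simp only [or_comm, or_left_comm]))
      e3.symm e2.symm
  · exact hmain j k l i hjk hjl hij.symm hkl hik.symm hil.symm (perm _ (by ext m; simp only [Finset.mem_insert, Finset.mem_singleton]; simp only [or_comm, or_left_comm])) e3 e2

end Over

end CfsgLib.Orth.FrameMax
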