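import Cfsg.Agent.Lib.Classical.OrthFrameMax.Mono

set_option autoImplicit false
set_option linter.unusedSectionVars false

/-!
Every pair of orthogonal reflections in the group is monomial, when all related vectors are mirrors.
-/

namespace CfsgLib.Orth.FrameMax

open Matrix DecompMax

variable {F : Type*} [Field F] [Finite F] {ι : Type} [Fintype ι] [DecidableEq ι]
variable {Q : QuadraticForm F (ι → F)} {n : ℕ} {e : Fin n → ι → F} {a : F} {M : Subgroup (Grp Q)}

local notation "B" => QuadraticMap.polar (DFunLike.coe Q)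

theorem pair_eq_of_mem (h2 : (2 : F) ≠ 0) {x y u v : ι → F} {r₁ r₂ r₃ r₄ : Grp Q}
    (hr : IsRefl x r₁) (hr' : IsRefl y r₂) (hu : IsRefl u r₃) (hv : IsRefl v r₄)
    (hxy : B x y = 0) (huv : B u v = 0)
    (hum : u ∈ Submodule.span F ({x, y} : Set (ι → F)))
    (hvm : v ∈ Submodule.span F ({x, y} : Set (ι → F))) : r₁ * r₂ = r₃ * r₄ := by
  have hself : ∀ {z : ι → F}, Q z ≠ 0 → B z z ≠ 0 := fun hz => by
    rw [b_self]; exact mul_ne_zero h2 hz
  have hu0 : u ≠ 0 := fun e0 => hu.1 (by rw [e0, QuadraticMap.map_zero])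
  have hind : ∀ c : F, v ≠ c • u := fun c e0 => hv.1 (by
    rw [e0, b_smul_right] at huv
    rw [e0, (mul_eq_zero.1 huv).resolve_right (hself hu.1), zero_smul, QuadraticMap.map_zero])
  have hsp := span_pair_eq hum hvm hu0 hind
  obtain ⟨hx1, hy1, -⟩ := pair_plane_apply hr hr' hxy
  obtain ⟨hu1, hv1, -⟩ := pair_plane_apply hu hv huv
  have hneg : ∀ z ∈ Submodule.span F ({x, y} : Set (ι → F)), ap (r₁ * r₂) z = -z := fun z hz => by
    obtain ⟨p, q, rfl⟩ := Submodule.mem_span_pair.1 hz
    rw [ap_add, ap_smul, ap_smul, hx1, hy1]; module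
  refine ext_ap fun w => ?_
  obtain ⟨z, α, β, hz1, hz2, rfl⟩ : ∃ (z : ι → F) (α β : F), B u z = 0 ∧ B v z = 0 ∧
      w = z + (α • u + β • v) := by
    refine ⟨_, B u w / B u u, B v w / B v v, ?_, ?_, (sub_add_cancel w _).symm⟩
    · rw [b_sub_right, b_add_right, b_smul_right, b_smul_right, huv, mul_zero, add_zero,
        div_mul_cancel₀ _ (hself hu.1), sub_self]
    · rw [b_sub_right, b_add_right, b_smul_right, b_smul_right, b_comm v u, huv, mul_zero, zero_add,
        div_mul_cancel₀ _ (hself hv.1), sub_self]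
  have hperp : ∀ s ∈ Submodule.span F ({x, y} : Set (ι → F)), B s z = 0 := fun s hs => by
    rw [← hsp] at hs
    obtain ⟨p, q, rfl⟩ := Submodule.mem_span_pair.1 hs
    rw [b_add_left, b_smul_left, b_smul_left, hz1, hz2, mul_zero, mul_zero, add_zero]
  rw [ap_add, ap_add (r₃ * r₄), refl_mul_apply_perp hr hr' (hperp x (Submodule.subset_span (by simp)))
      (hperp y (Submodule.subset_span (by simp))), refl_mul_apply_perp hu hv hz1 hz2,
    hneg _ (add_mem (Submodule.smul_mem _ _ hum) (Submodule.smul_mem _ _ hvm)),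
    ap_add (r₃ * r₄), ap_smul, ap_smul, hu1, hv1]
  module

theorem ap_sum (g : Grp Q) {κ : Type*} (s : Finset κ) (f : κ → ι → F) :
    ap g (∑ k ∈ s, f k) = ∑ k ∈ s, ap g (f k) := by
  have hlin : ∀ w : ι → F, ap g w = Matrix.mulVecLin ((g : GL ι F) : Matrix ι ι F) w := fun _ => rfl
  simp only [hlin, map_sum]

namespace Over

variable (h : Over Q e a M) (hall : AllMir M e a)
include h hall

/-- A small vector in the plane, from the output of the second step. -/
theorem small_vec {x y z q : ι → F} {S : Finset (Fin n)} {o : Fin n}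
    (hz : z ∈ Submodule.span F (({x, y} : Set (ι → F)) ∪ e '' (S : Set (Fin n))))
    (hq : q = z) (ho : o ∉ S) (hoq : co Q e a o q ≠ 0) :
    ∃ v ∈ Submodule.span F ({x, y} : Set (ι → F)), v ≠ 0 ∧ supp Q e a v ⊆ S ∪ supp Q e a q ∧
      ∀ l ∉ S, co Q e a l v = co Q e a l q := by
  obtain ⟨v, hv, hvq⟩ := h.mem_span_split (hq ▸ hz)
  refine ⟨v, hv, fun e0 => hoq ?_, fun l hl => ?_, hvq⟩
  · rw [← hvq o ho, e0, co_zero]
  · rw [Finset.mem_union]
    by_cases hlS : l ∈ S
    · exact Or.inl hlS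
    · exact Or.inr (mem_supp.2 (hvq l hlS ▸ mem_supp.1 hl))

/-- The plane of two independent small vectors. -/
theorem mono_of_two {x y u v : ι → F} {r₁ r₂ : Grp Q} (hr : IsRefl x r₁) (hr' : IsRefl y r₂)
    (hM : r₁ * r₂ ∈ M) (hu : u ∈ Submodule.span F ({x, y} : Set (ι → F)))
    (hv : v ∈ Submodule.span F ({x, y} : Set (ι → F))) (hu0 : u ≠ 0) (huv : ∀ c : F, v ≠ c • u)
    (hcard : (supp Q e a u ∪ supp Q e a v).card < n) : Mono e (r₁ * r₂) := by
  have hsp := span_pair_eq hu hv hu0 huv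
  refine h.mono_small hall hr hr' hM (lt_of_le_of_lt (Finset.card_le_card
    (Finset.union_subset ?_ ?_)) hcard)
  · exact supp_span_pair (hsp.symm ▸ Submodule.subset_span (by simp))
  · exact supp_span_pair (hsp.symm ▸ Submodule.subset_span (by simp))

/-- A pair in the plane forces equal squares away from it. -/
theorem mono_or_uniform {i j : Fin n} (hij : i ≠ j) {σ : F} (hσ : σ * σ = 1) {y : ι → F}
    {r₁ r₂ : Grp Q} (hr : IsRefl (e i + σ • e j) r₁) (hr' : IsRefl y r₂)
    (hqy : B (e i + σ • e j) y = 0) (hM : r₁ * r₂ ∈ M) :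
    Mono e (r₁ * r₂) ∨ ∀ c d, c ∉ ({i, j} : Finset (Fin n)) → d ∉ ({i, j} : Finset (Fin n)) →
      co Q e a c y * co Q e a c y = co Q e a d y * co Q e a d y := by
  classical
  by_cases hmono : Mono e (r₁ * r₂)
  · exact Or.inl hmono
  refine Or.inr fun c d hc hd => ?_
  by_cases hcd : c = d
  · rw [hcd]
  obtain ⟨p, hpdef⟩ : ∃ p, p = e i + σ • e j := ⟨_, rfl⟩
  rw [← hpdef] at hr hqy
  have hn := h.nine
  have hps : supp Q e a p = {i, j} := by
    have := h.supp_pair hij (one_ne_zero (α := F)) hσ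
    rwa [one_smul, ← hpdef] at this
  have hp0 : p ≠ 0 := fun e0 => hr.1 (by rw [e0, QuadraticMap.map_zero])
  obtain ⟨hp1, hy1, -⟩ := pair_plane_apply hr hr' hqy
  have hdisj : Disjoint (supp Q e a p) {c, d} := by
    rw [hps, Finset.disjoint_left]
    intro l hl hl'
    simp only [Finset.mem_insert, Finset.mem_singleton] at hl'
    rcases hl' with rfl | rfl
    exacts [hc hl, hd hl]
  rcases h.step_two hall hr hr' hqy hM hcd hp0 (Or.inr ⟨hp1, hdisj⟩) with h1 |
    ⟨z, q, o, hzm, hzt, hq, hoE, hqm, hqo, hqd, hdz, hzin, hzout, hspan⟩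
  · exact absurd h1 hmono
  obtain ⟨v, hv, hv0, hvs, hvq⟩ := h.small_vec hall (hspan (e o)) hq hoE hqo
  have hcard2 : ({c, d} : Finset (Fin n)).card ≤ 2 := Finset.card_le_two
  have hpmem : p ∈ Submodule.span F ({p, y} : Set (ι → F)) := Submodule.subset_span (by simp)
  by_cases hind : ∀ k : F, v ≠ k • p
  · refine absurd (h.mono_of_two hall hr hr' hM hpmem hv hp0 hind ?_) hmono
    have h1 := (Finset.card_le_card hvs).trans (Finset.card_union_le _ _)
    have h2 := h.mir_card hqm
    exact lt_of_le_of_lt (Finset.card_union_le _ _) (by rw [hps, Finset.card_pair hij]; omega)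
  push Not at hind
  obtain ⟨k, hk⟩ := hind
  have hvp : ∀ l, co Q e a l q = k * co Q e a l p := fun l => by
    by_cases hl : l ∈ ({c, d} : Finset (Fin n))
    · rw [notMem_supp.1 (Finset.disjoint_right.1 hqd hl), notMem_supp.1 (Finset.disjoint_right.1 hdisj hl),
        mul_zero]
    · rw [← hvq l hl, hk, co_smul]
  have hqp : q = k • p := h.ext fun l => by rw [hvp, co_smul]
  have hk0 : k ≠ 0 := fun e0 => hv0 (by rw [hk, e0, zero_smul])
  -- another displacement
  obtain ⟨o', ho'⟩ : ∃ o', ∀ l : F, ap z (e o') - e o' ≠ l • p := by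
    by_contra hall'
    push Not at hall'
    choose l hl using hall'
    have hsp : ∀ w, ∃ μ : F, ap z w = w + μ • p := fun w => ⟨∑ m, co Q e a m w * l m, by
      conv_lhs => rw [← h.sum_co w]
      rw [ap_sum]
      simp only [ap_smul]
      rw [Finset.sum_smul]
      conv_rhs => arg 1; rw [← h.sum_co w]
      rw [← Finset.sum_add_distrib]
      refine Finset.sum_congr rfl fun m _ => ?_
      rw [mul_smul, ← smul_add, ← hl m, add_sub_cancel]⟩
    have hle : orth Q (Submodule.span F {p}) ≤ fixSpace z := fun w hw => by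
      obtain ⟨μ, hμ⟩ := hsp w
      have hb : B p w = 0 := mem_orth_span.1 hw p rfl
      have hq' := ap_q z w
      rw [hμ, q_add, q_smul, b_smul_right, b_comm w p, hb, mul_zero, add_zero, add_eq_left] at hq'
      rw [mem_fixSpace, hμ, mul_self_eq_zero.1 ((mul_eq_zero.1 hq').resolve_right hr.1), zero_smul,
        add_zero]
    have hne : fixSpace z ≠ ⊤ := fun e0 => by
      have hfo : ap z (e o) = e o := mem_fixSpace.1 (e0 ▸ Submodule.mem_top)
      rw [hfo, sub_self] at hq
      exact hqo (by rw [hq, co_zero])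
    have hlt : Module.finrank F (fixSpace z) < Module.finrank F (ι → F) := Submodule.finrank_lt hne
    have h1 := finrank_orth h.nd (Submodule.span F {p})
    rw [finrank_span_singleton hp0] at h1
    have h2 := Submodule.finrank_mono hle
    have : (-1 : ℤˣ) ^ (Module.finrank F (ι → F) + Module.finrank F (fixSpace z)) = 1 := hdz
    rw [(show Odd (Module.finrank F (ι → F) + Module.finrank F (fixSpace z)) from
      ⟨Module.finrank F (fixSpace z), by omega⟩).neg_one_pow] at this
    exact absurd this (by decide)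
  have hne' : ap z (e o') ≠ e o' := fun e0 => ho' 0 (by rw [e0, sub_self, zero_smul])
  obtain ⟨hm', hco'⟩ := h.exists_mir_disp hzm hne'
  by_cases hoE' : o' ∈ ({c, d} : Finset (Fin n))
  swap
  · exfalso
    obtain ⟨v', hv', hv0', hvs', hvq'⟩ := h.small_vec hall (hspan (e o')) rfl hoE' hco'
    refine hmono (h.mono_of_two hall hr hr' hM hpmem hv' hp0 (fun μ e0 => ho' μ (h.ext fun l => ?_)) ?_)
    · by_cases hl : l ∈ ({c, d} : Finset (Fin n))
      · rw [co_smul, notMem_supp.1 (Finset.disjoint_right.1 hdisj hl), mul_zero, co_sub,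
          notMem_supp.1 (Finset.disjoint_right.1 (hzout o' hoE') hl),
          h.co_ne fun e1 : l = o' => hoE' (e1 ▸ hl), sub_zero]
      · rw [← hvq' l hl, e0]
    · have h1 := (Finset.card_le_card hvs').trans (Finset.card_union_le _ _)
      have h2 := h.mir_card hm'
      exact lt_of_le_of_lt (Finset.card_union_le _ _) (by rw [hps, Finset.card_pair hij]; omega)
  obtain ⟨q', hq'def⟩ : ∃ q', q' = ap z (e o') - e o' := ⟨_, rfl⟩
  rw [← hq'def] at hm' hco'
  have hq's : supp Q e a q' ⊆ {c, d} := fun l hl => by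
    by_contra hl'
    refine mem_supp.1 hl ?_
    rw [hq'def, co_sub, notMem_supp.1 fun h1 => hl' (hzin o' hoE' h1),
      h.co_ne fun e1 : l = o' => hl' (e1 ▸ hoE'), sub_zero]
  -- all displacements lie over the pair and the mirror
  have hrange : ∀ w, supp Q e a (ap z w - w) ⊆ {c, d} ∪ {i, j} := by
    refine h.supp_disp fun l hl => ?_
    rw [Finset.mem_union, not_or] at hl
    by_contra hne
    obtain ⟨hm'', hco''⟩ := h.exists_mir_disp hzm hne
    obtain ⟨v', hv', hv0', hvs', hvq'⟩ := h.small_vec hall (hspan (e l)) rfl hl.1 hco''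
    refine hmono (h.mono_of_two hall hr hr' hM hpmem hv' hp0 (fun μ e0 => hco'' ?_) ?_)
    · rw [← hvq' l hl.1, e0, co_smul, notMem_supp.1 (hps ▸ hl.2), mul_zero]
    · have h1 := (Finset.card_le_card hvs').trans (Finset.card_union_le _ _)
      have h2 := h.mir_card hm''
      exact lt_of_le_of_lt (Finset.card_union_le _ _) (by rw [hps, Finset.card_pair hij]; omega)
  have htq' : ap (r₁ * r₂) q' = ap z (ap (r₁ * r₂) (e o')) - ap (r₁ * r₂) (e o') := by
    rw [hq'def, ap_sub, ← ap_mul, ← hzt, ap_mul]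
  have hv3 := sub_ap_mem_plane hr hr' q'
  have hbp : B q' p = 0 := by
    rw [h.b_eq]
    refine mul_eq_zero_of_right _ (Finset.sum_eq_zero fun l _ => ?_)
    by_cases hl : l ∈ supp Q e a q'
    · rw [notMem_supp.1 (Finset.disjoint_right.1 hdisj (hq's hl)), mul_zero]
    · rw [notMem_supp.1 hl, zero_mul]
  have hbp' : B (ap (r₁ * r₂) q') p = 0 := by
    have := ap_b (r₁ * r₂) q' p
    rw [hp1, hbp, ← neg_one_smul F p, b_smul_right] at this
    exact (mul_eq_zero.1 this).resolve_left (neg_ne_zero.2 one_ne_zero)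
  by_cases hfix : ap (r₁ * r₂) q' = q'
  swap
  · exfalso
    refine hmono (h.mono_of_two hall hr hr' hM hpmem hv3 hp0 (fun μ e0 => hfix ?_) ?_)
    · have hb : B (q' - ap (r₁ * r₂) q') p = 0 := by rw [b_sub_left, hbp, hbp', sub_zero]
      rw [e0, b_smul_left, b_self] at hb
      rw [(mul_eq_zero.1 hb).resolve_right (mul_ne_zero h.two hr.1), zero_smul, sub_eq_zero] at e0
      exact e0.symm
    · have h1 : supp Q e a (q' - ap (r₁ * r₂) q') ⊆ {c, d} ∪ {i, j} := fun l hl => by
        by_contra hl'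
        refine mem_supp.1 hl ?_
        rw [co_sub, notMem_supp.1 fun h1 => hl' (Finset.mem_union_left _ (hq's h1)),
          notMem_supp.1 fun h1 => hl' (hrange _ (htq' ▸ h1)), sub_zero]
      refine lt_of_le_of_lt (Finset.card_le_card (Finset.union_subset (hps.le.trans
        Finset.subset_union_right) h1)) (lt_of_le_of_lt (Finset.card_union_le _ _) ?_)
      rw [Finset.card_pair hij]
      omega
  have hbq : B q' y = 0 := by
    have := ap_b (r₁ * r₂) q' y
    rw [hfix, hy1, ← neg_one_smul F y, b_smul_right] at this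
    exact (mul_eq_zero.1 (show 2 * B q' y = 0 by linear_combination -this)).resolve_left h.two
  rw [h.b_eq, ← Finset.sum_subset (Finset.subset_univ ({c, d} : Finset (Fin n)))
    (fun x _ hx => by rw [notMem_supp.1 fun h1 => hx (hq's h1), zero_mul]), Finset.sum_pair hcd]
    at hbq
  have e1 := (mul_eq_zero.1 hbq).resolve_left h.two_a
  have haxis : ∀ l, supp Q e a q' ⊆ {l} → False := fun l hl => by
    have hax : Axis e q' := h.axis_of_supp ((Finset.card_le_card hl).trans (Finset.card_singleton l).le) l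
    obtain ⟨l', μ, hμ⟩ := hax
    have hμ0 : μ ≠ 0 := fun e0 => hco' (by rw [hμ, e0, zero_smul, co_zero])
    refine hmono (h.mono_of_axis hall hM (i := l') ⟨l', 1, ?_⟩)
    rw [hμ, ap_smul] at hfix
    rw [one_smul]
    exact smul_right_injective _ hμ0 hfix
  have hqc : co Q e a c q' ≠ 0 := fun h0 => haxis d fun l hl => by
    have h1 := hq's hl
    simp only [Finset.mem_insert, Finset.mem_singleton] at h1 ⊢
    exact h1.resolve_left fun e0 => mem_supp.1 hl (e0 ▸ h0)
  have hqd' : co Q e a d q' ≠ 0 := fun h0 => haxis c fun l hl => by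
    have h1 := hq's hl
    simp only [Finset.mem_insert, Finset.mem_singleton] at h1 ⊢
    exact h1.resolve_right fun e0 => mem_supp.1 hl (e0 ▸ h0)
  have hsq := h.mir_sq hm' (mem_supp.2 hqc) (mem_supp.2 hqd')
  refine mul_left_cancel₀ (mul_ne_zero hqc hqc) ?_
  linear_combination (co Q e a c q' * co Q e a c y - co Q e a d q' * co Q e a d y) * e1 -
    (co Q e a d y * co Q e a d y) * hsq

/-- Sign changes on an even set lie in the group. -/
theorem exists_sign_even : ∀ (k : ℕ) (T : Finset (Fin n)), T.card = 2 * k →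
    ∃ d ∈ M, Sign e a d T := by
  intro k
  induction k with
  | zero =>
    intro T hT
    rw [mul_zero, Finset.card_eq_zero] at hT
    exact ⟨1, M.one_mem, fun x l => by rw [hT, if_neg (Finset.notMem_empty l), ap_one, one_mul]⟩
  | succ k ih =>
    intro T hT
    obtain ⟨P, hPT, hP⟩ := Finset.exists_subset_card_eq (show 2 ≤ T.card by omega)
    obtain ⟨i, j, hij, rfl⟩ := Finset.card_eq_two.1 hP
    obtain ⟨s, hs, hs'⟩ := h.exists_sign_pair hij
    obtain ⟨d, hd, hd'⟩ := ih (T \ {i, j}) (by rw [Finset.card_sdiff_of_subset hPT, hP]; omega)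
    refine ⟨s * d, M.mul_mem hs hd, ?_⟩
    have := Frame.sign_mul hs' hd' (Finset.disjoint_sdiff)
    rwa [Finset.union_sdiff_of_subset hPT] at this

/-- A pair mirror occurs in no other plane. -/
theorem mono_pair_plane {i j : Fin n} (hij : i ≠ j) {σ : F} (hσ : σ * σ = 1) {y : ι → F}
    {r₁ r₂ : Grp Q} (hr : IsRefl (e i + σ • e j) r₁) (hr' : IsRefl y r₂)
    (hqy : B (e i + σ • e j) y = 0) (hM : r₁ * r₂ ∈ M) : Mono e (r₁ * r₂) := by
  classical
  by_contra hmono
  have hn := h.nine
  have hu := (h.mono_or_uniform hall hij hσ hr hr' hqy hM).resolve_left hmono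
  obtain ⟨p, hpdef⟩ : ∃ p, p = e i + σ • e j := ⟨_, rfl⟩
  have hσ0 : σ ≠ 0 := fun e0 => zero_ne_one (α := F) (by rw [← hσ, e0, zero_mul])
  have hyij : co Q e a i y + σ * co Q e a j y = 0 := by
    rw [b_add_left, b_smul_left, h.b_co, h.b_co] at hqy
    refine (mul_eq_zero.1 (show 2 * a * (co Q e a i y + σ * co Q e a j y) = 0 by
      linear_combination hqy)).resolve_left h.two_a
  have hyi : co Q e a i y ≠ 0 := fun h0 => by
    refine hmono (h.mono_of_axis hall hM (i := i) ?_)
    rw [ap_mul, refl_fix hr' (by rw [b_comm, h.b_co, h0, mul_zero])]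
    exact h.mono_refl (Or.inr ⟨i, j, hij, 1, σ, hσ, (one_smul F _).symm⟩) hr i
  have hyj : co Q e a j y ≠ 0 := fun h0 => hyi (by
    rw [h0, mul_zero, add_zero] at hyij; exact hyij)
  obtain ⟨R, hR⟩ : ∃ R, R = (Finset.univ : Finset (Fin n)) \ {i, j} := ⟨_, rfl⟩
  have hRc : R.card = n - 2 := by
    rw [hR, Finset.card_sdiff_of_subset (Finset.subset_univ _), Finset.card_univ, Fintype.card_fin,
      Finset.card_pair hij]
  have hmem : ∀ l, l ∈ R ↔ l ∉ ({i, j} : Finset (Fin n)) := fun l => by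
    rw [hR, Finset.mem_sdiff]; simp
  obtain ⟨o, ho⟩ := Finset.card_pos.1 (show 0 < R.card by omega)
  set L := co Q e a o y * co Q e a o y with hL
  have hsq : ∀ l ∈ R, co Q e a l y * co Q e a l y = L := fun l hl =>
    hu l o ((hmem l).1 hl) ((hmem o).1 ho)
  have hL0 : L ≠ 0 := fun h0 => by
    refine hmono (h.mono_small hall hr hr' hM ?_)
    refine lt_of_le_of_lt (Finset.card_le_card (Finset.union_subset (u := {i, j}) ?_ ?_))
      (by rw [Finset.card_pair hij]; omega)
    · have := h.supp_pair hij (one_ne_zero (α := F)) hσ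
      rw [one_smul] at this
      rw [this]
    · intro l hl
      by_contra hc
      have := hsq l ((hmem l).2 hc)
      rw [h0] at this
      exact mem_supp.1 hl (mul_self_eq_zero.1 this)
  have hne : ∀ l, co Q e a l y ≠ 0 := fun l => by
    by_cases hl : l ∈ ({i, j} : Finset (Fin n))
    · simp only [Finset.mem_insert, Finset.mem_singleton] at hl
      rcases hl with rfl | rfl
      exacts [hyi, hyj]
    · exact fun h0 => hL0 (by rw [← hsq l ((hmem l).2 hl), h0, mul_zero])
  -- flipping an even set away from the pair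
  have flip : ∀ k : ℕ, 2 * k ≤ 6 → ∀ T : Finset (Fin n), T ⊆ R → T.card = 2 * k →
      ∃ c, Q y * c = 2 * Q y - 4 * a * ((2 * k : ℕ) : F) * L ∧
        ∃ y₂, Q y₂ = Q y ∧
        (∀ l, co Q e a l y₂ = ((if l ∈ T then -1 else 1) - c) * co Q e a l y) ∧
        (Mir e y₂ ∨ ∀ u v, u ∈ R → v ∈ R →
          co Q e a u y₂ * co Q e a u y₂ = co Q e a v y₂ * co Q e a v y₂) := by
    intro k _ T hTR hT
    obtain ⟨d, hd, hd'⟩ := h.exists_sign_even hall k T hT
    have hdp : ap d (e i + σ • e j) = e i + σ • e j := h.ext fun l => by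
      rw [hd']
      by_cases hl : l ∈ T
      · have hl' : l ∉ ({i, j} : Finset (Fin n)) := (hmem l).1 (hTR hl)
        simp only [Finset.mem_insert, Finset.mem_singleton, not_or] at hl'
        rw [co_add, co_smul, h.co_ne hl'.1, h.co_ne hl'.2, mul_zero, add_zero, mul_zero]
      · rw [if_neg hl, one_mul]
    have hrel : Rel M (e i + σ • e j) y := ⟨hr.1, hr'.1, fun r s hr1 hs1 => by
      rwa [refl_unique hr1 hr, refl_unique hs1 hr']⟩
    have hrel' := rel_conj hd hrel
    rw [hdp] at hrel'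
    have hyy : Rel M y (ap d y) := rel_trans h.nd (rel_symm hrel) hrel'
    have hrel2 := rel_trans h.nd hrel (rel_refl h.nd hyy hr')
    refine ⟨(Q y)⁻¹ * B y (ap d y), ?_, ap r₂ (ap d y), by rw [ap_q, ap_q],
      fun l => by rw [hr'.2, co_sub, co_smul, hd']; ring, ?_⟩
    · rw [← mul_assoc, mul_inv_cancel₀ hr'.1, one_mul, h.b_eq, h.q_eq y]
      have h1 : ∀ m, co Q e a m y * co Q e a m (ap d y) = co Q e a m y * co Q e a m y -
          (if m ∈ T then 2 * (co Q e a m y * co Q e a m y) else 0) := fun m => by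
        rw [hd']; split_ifs <;> ring
      rw [Finset.sum_congr rfl (fun m _ => h1 m), Finset.sum_sub_distrib, Finset.sum_ite_mem,
        Finset.univ_inter, Finset.sum_congr rfl (fun m (hm : m ∈ T) => by rw [hsq m (hTR hm)]),
        Finset.sum_const, hT, nsmul_eq_mul]
      ring
    · obtain ⟨s₂, hs₂⟩ := exists_refl h.nd hrel2.2.1
      have hb : B (e i + σ • e j) (ap r₂ (ap d y)) = 0 := by
        rw [hr'.2, b_sub_right, b_smul_right, hqy, mul_zero, sub_zero]
        conv_lhs => rw [← hdp]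
        rw [ap_b, hqy]
      have hM2 := hrel2.2.2 r₁ s₂ hr hs₂
      rcases h.mono_or_uniform hall hij hσ hr hs₂ hb hM2 with h1 | h1
      · refine Or.inl (h.mir_of_refl hs₂ ?_)
        have hq1 := h.mono_refl (x := e i + σ • e j)
          (Or.inr ⟨i, j, hij, 1, σ, hσ, (one_smul F _).symm⟩) hr
        have := Frame.mono_mul hq1 h1
        rwa [← mul_assoc, refl_mul_self hr, one_mul] at this
      · exact Or.inr fun u v hu' hv' => h1 u v ((hmem u).1 hu') ((hmem v).1 hv')
  have big : ∀ y₂ : ι → F, Mir e y₂ → ∀ U : Finset (Fin n), 3 ≤ U.card →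
      (∀ l ∈ U, co Q e a l y₂ ≠ 0) → False := fun y₂ hm U hU hUne => by
    have := (Finset.card_le_card (show U ⊆ supp Q e a y₂ from fun l hl => mem_supp.2 (hUne l hl))).trans
      (h.mir_card hm)
    omega
  -- four flips
  obtain ⟨T4, hT4R, hT4⟩ := Finset.exists_subset_card_eq (show 4 ≤ R.card by omega)
  obtain ⟨c4, hc4, y4, -, hy4, hy4'⟩ := flip 2 (by norm_num) T4 hT4R hT4
  obtain ⟨u, hu'⟩ := Finset.card_pos.1 (show 0 < T4.card by omega)
  obtain ⟨v, hv'⟩ := Finset.card_pos.1 (show 0 < (R \ T4).card by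
    rw [Finset.card_sdiff_of_subset hT4R]; omega)
  rw [Finset.mem_sdiff] at hv'
  have hc0 : c4 = 0 := by
    by_cases hc1 : c4 = 1
    · exfalso
      rcases hy4' with hm | hm
      · refine big y4 hm T4 (by omega) fun l hl => ?_
        rw [hy4, if_pos hl, hc1]
        exact mul_ne_zero (by intro h2; exact h.two (by linear_combination -h2)) (hne l)
      · have := hm u v (hT4R hu') hv'.1
        rw [hy4, hy4, if_pos hu', if_neg hv'.2, hc1, sub_self, zero_mul, zero_mul] at this
        exact mul_ne_zero (mul_ne_zero (by intro h2; exact h.two (by linear_combination -h2)) (hne u))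
          (mul_ne_zero (by intro h2; exact h.two (by linear_combination -h2)) (hne u)) this
    rcases hy4' with hm | hm
    · exfalso
      refine big y4 hm (insert i (insert j (R \ T4))) ?_ fun l hl => ?_
      · have hiR : i ∉ R := fun h1 => (hmem i).1 h1 (by simp)
        have hjR : j ∉ R := fun h1 => (hmem j).1 h1 (by simp)
        rw [Finset.card_insert_of_notMem (by simp [hij, hiR]),
          Finset.card_insert_of_notMem (by simp [hjR]), Finset.card_sdiff_of_subset hT4R]
        omega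
      · have hlT : l ∉ T4 := fun h1 => by
          simp only [Finset.mem_insert, Finset.mem_sdiff] at hl
          rcases hl with rfl | rfl | ⟨-, h2⟩
          · exact (hmem _).1 (hT4R h1) (by simp)
          · exact (hmem _).1 (hT4R h1) (by simp)
          · exact h2 h1
        rw [hy4, if_neg hlT]
        exact mul_ne_zero (sub_ne_zero.2 (Ne.symm hc1)) (hne l)
    · have h1 := hm u v (hT4R hu') hv'.1
      rw [hy4, hy4, if_pos hu', if_neg hv'.2] at h1
      refine (mul_eq_zero.1 (show 4 * L * c4 = 0 by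
        linear_combination h1 - (1 + c4) * (1 + c4) * hsq u (hT4R hu') +
          (1 - c4) * (1 - c4) * hsq v hv'.1)).resolve_left (mul_ne_zero ?_ hL0)
      rw [show (4 : F) = 2 * 2 by norm_num]
      exact mul_ne_zero h.two h.two
  -- in dimension seven, a second pair away from the first one
  rcases hn with hn7 | hn
  · obtain ⟨k, l, hk, hl, hkl⟩ := Finset.one_lt_card_iff.1 (show 1 < R.card by omega)
    obtain ⟨w, hw⟩ := Finset.card_pos.1 (show 0 < ((R.erase k).erase l).card by
      rw [Finset.card_erase_of_mem (Finset.mem_erase.2 ⟨hkl.symm, hl⟩),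
        Finset.card_erase_of_mem hk]
      omega)
    simp only [Finset.mem_erase] at hw
    obtain ⟨τ, hτ⟩ : ∃ τ, τ = -(co Q e a k y / co Q e a l y) := ⟨_, rfl⟩
    have hτl : τ * co Q e a l y = -co Q e a k y := by
      rw [hτ, neg_mul, div_mul_cancel₀ _ (hne l)]
    have hτ1 : τ * τ = 1 := by
      refine mul_right_cancel₀ (mul_ne_zero (hne l) (hne l)) ?_
      linear_combination (τ * co Q e a l y - co Q e a k y) * hτl + hsq k hk - hsq l hl
    have hqp : ∀ {u v : Fin n} {ρ : F}, u ≠ v → ρ * ρ = 1 → Q (e u + ρ • e v) = 2 * a :=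
      fun {u v ρ} huv hρ => by
        have := h.q_pair huv 1 ρ hρ
        rwa [one_smul, one_mul, one_mul] at this
    have hb : B (e k + τ • e l) y = 0 := by
      rw [b_add_left, b_smul_left, h.b_co, h.b_co]
      linear_combination (2 * a) * hτl
    have hm5 : Mir e (e k + τ • e l) := Or.inr ⟨k, l, hkl, 1, τ, hτ1, (one_smul F _).symm⟩
    obtain ⟨r₅, hr₅⟩ := exists_refl h.nd (v := e k + τ • e l)
      (by rw [hqp hkl hτ1]; exact h.two_a)
    have hrel : Rel M (e i + σ • e j) y := ⟨hr.1, hr'.1, fun r s hr1 hs1 => by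
      rwa [refl_unique hr1 hr, refl_unique hs1 hr']⟩
    have hrel5 := rel_trans h.nd (h.rel _ _ hm5 (Or.inr ⟨i, j, hij, 1, σ, hσ, (one_smul F _).symm⟩)
      hr₅.1 hr.1 ⟨2 * a, by rw [hqp hkl hτ1, hqp hij hσ]⟩) hrel
    rcases h.mono_or_uniform hall hkl hτ1 hr₅ hr' hb (hrel5.2.2 r₅ r₂ hr₅ hr') with h1 | h1
    · have := Frame.mono_mul (h.mono_refl hm5 hr₅) h1
      rw [← mul_assoc, refl_mul_self hr₅, one_mul] at this
      exact big y (h.mir_of_refl hr' this) R (by omega) fun m _ => hne m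
    have hiR : i ∉ R := fun h1 => (hmem i).1 h1 (by simp)
    have hiL : co Q e a i y * co Q e a i y = L := by
      rw [h1 i w (by simp [show i ≠ k from fun e0 => hiR (e0 ▸ hk),
        show i ≠ l from fun e0 => hiR (e0 ▸ hl)]) (by simp [hw.1, hw.2.1]), hsq w hw.2.2]
    have hjL : co Q e a j y * co Q e a j y = L := by
      linear_combination hiL - (co Q e a i y - σ * co Q e a j y) * hyij -
        (co Q e a j y * co Q e a j y) * hσ
    have hall7 : ∀ m, co Q e a m y * co Q e a m y = L := fun m => by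
      by_cases hm : m ∈ ({i, j} : Finset (Fin n))
      · simp only [Finset.mem_insert, Finset.mem_singleton] at hm
        rcases hm with rfl | rfl
        exacts [hiL, hjL]
      · exact hsq m ((hmem m).2 hm)
    rw [hc0, mul_zero, h.q_eq y, Finset.sum_congr rfl (fun m _ => hall7 m), Finset.sum_const,
      Finset.card_univ, Fintype.card_fin, hn7, nsmul_eq_mul] at hc4
    push_cast at hc4
    refine mul_ne_zero h.two (mul_ne_zero h.a0 hL0) ?_
    linear_combination hc4
  -- six flips
  obtain ⟨T6, hT6R, hT6⟩ := Finset.exists_subset_card_eq (show 6 ≤ R.card by omega)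
  obtain ⟨c6, hc6, y6, -, hy6, hy6'⟩ := flip 3 (by norm_num) T6 hT6R hT6
  have hc6' : c6 = -1 := by
    refine mul_left_cancel₀ hr'.1 ?_
    rw [hc6]
    rw [hc0, mul_zero] at hc4
    push_cast at hc4 ⊢
    refine mul_left_cancel₀ h.two ?_
    linear_combination (-3 : F) * hc4
  obtain ⟨u6, hu6⟩ := Finset.card_pos.1 (show 0 < T6.card by omega)
  obtain ⟨v6, hv6⟩ := Finset.card_pos.1 (show 0 < (R \ T6).card by
    rw [Finset.card_sdiff_of_subset hT6R]; omega)
  rw [Finset.mem_sdiff] at hv6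
  rcases hy6' with hm | hm
  · refine big y6 hm (insert i (insert j {v6})) ?_ fun l hl => ?_
    · have hiv : i ≠ v6 := fun e0 => (hmem v6).1 hv6.1 (by simp [← e0])
      have hjv : j ≠ v6 := fun e0 => (hmem v6).1 hv6.1 (by simp [← e0])
      rw [Finset.card_insert_of_notMem (by simp [hij, hiv]), Finset.card_pair hjv]
    · have hlT : l ∉ T6 := fun h1 => by
        simp only [Finset.mem_insert, Finset.mem_singleton] at hl
        rcases hl with rfl | rfl | rfl
        · exact (hmem _).1 (hT6R h1) (by simp)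
        · exact (hmem _).1 (hT6R h1) (by simp)
        · exact hv6.2 h1
      rw [hy6, if_neg hlT, hc6']
      exact mul_ne_zero (by intro h2; exact h.two (by linear_combination h2)) (hne l)
  · have h1 := hm u6 v6 (hT6R hu6) hv6.1
    rw [hy6, hy6, if_pos hu6, if_neg hv6.2, hc6', sub_self, zero_mul, zero_mul] at h1
    exact mul_ne_zero (mul_ne_zero (by intro h2; exact h.two (by linear_combination h2)) (hne v6))
      (mul_ne_zero (by intro h2; exact h.two (by linear_combination h2)) (hne v6)) h1.symm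

/-- In dimension seven a plane vector missing a coordinate gives one with three coordinates. -/
theorem step_one (hn7 : n = 7) {x y : ι → F} {r₁ r₂ : Grp Q} (hr : IsRefl x r₁) (hr' : IsRefl y r₂)
    (hxy : B x y = 0) (hM : r₁ * r₂ ∈ M) {f : Fin n} {y₀ : ι → F} (hy₀ : y₀ ≠ 0)
    (hyt : ap (r₁ * r₂) y₀ = -y₀) (hyf : co Q e a f y₀ = 0) :
    Mono e (r₁ * r₂) ∨
      ∃ v ∈ Submodule.span F ({x, y} : Set (ι → F)), v ≠ 0 ∧ (supp Q e a v).card ≤ 3 := by
  classical
  obtain ⟨S, hS⟩ : ∃ S, S = (Finset.univ : Finset (Fin n)).erase f := ⟨_, rfl⟩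
  have hSc : S.card = 6 := by
    rw [hS, Finset.card_erase_of_mem (Finset.mem_univ f), Finset.card_univ, Fintype.card_fin]
    omega
  have hmS : ∀ l, l ∈ S ↔ l ≠ f := fun l => by rw [hS, Finset.mem_erase]; simp
  obtain ⟨s, hsM, hs⟩ := h.exists_sign_even hall 3 S hSc
  obtain ⟨ν, hνM, hν⟩ := h.neg
  obtain ⟨r, hr0⟩ := exists_refl h.nd (v := e f) (by rw [h.q]; exact h.a0)
  have hsr : s = ν * r := ext_ap fun v => h.ext fun l => by
    rw [hs, ap_mul, hν, ← neg_one_smul F (ap r v), co_smul, hr0.2, co_sub, co_smul, h.co_e, h.q,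
      h.b_co]
    have := h.a0
    by_cases hl : l = f
    · subst hl
      rw [if_neg (fun h1 => (hmS _).1 h1 rfl), if_pos rfl]
      field_simp
      ring
    · rw [if_pos ((hmS l).2 hl), if_neg hl]; ring
  obtain ⟨t, htdef⟩ : ∃ t, t = r₁ * r₂ := ⟨_, rfl⟩
  have htM : t ∈ M := htdef ▸ hM
  have ht : t * t = 1 := by
    rw [htdef]
    refine ext_ap fun v => ?_
    have hcomm : ap r₁ (ap r₂ v) = ap r₂ (ap r₁ v) := by
      rw [hr.2, hr'.2, hr'.2, hr.2, b_sub_right, b_sub_right, b_smul_right, b_smul_right, hxy,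
        b_comm y x, hxy]
      simp only [mul_zero, sub_zero]
      abel
    rw [ap_mul, ap_mul, ap_mul, hcomm, ← ap_mul r₂ r₂, refl_mul_self hr', ap_one, ← ap_mul,
      refl_mul_self hr]
  have hνc : ∀ g : Grp Q, ν * g = g * ν := fun g => ext_ap fun v => by
    rw [ap_mul, ap_mul, hν, hν, ← neg_one_smul F (ap g v), ← ap_smul, neg_one_smul]
  have hν2 : ν * ν = 1 := ext_ap fun v => by rw [ap_mul, hν, hν, neg_neg, ap_one]
  obtain ⟨m, -, hz1, hzt, hzs⟩ := exists_central ht (h.sign_self hs)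
    (htdef ▸ h.not_conj hr hr' hxy hs (by omega))
  have hsy : ap s y₀ = -y₀ := h.ext fun l => by
    rw [hs, ← neg_one_smul F y₀, co_smul]
    by_cases hl : l = f
    · rw [hl, hyf, mul_zero, mul_zero]
    · rw [if_pos ((hmS l).2 hl)]
  have hfix : ap (t * s) y₀ = y₀ := by
    rw [ap_mul, hsy, ← neg_one_smul F y₀, ap_smul, htdef, hyt, neg_one_smul, neg_neg]
  have hpow : (t * s) ^ m = ν ^ m * (t * r) ^ m := by
    rw [hsr, ← mul_assoc, ← hνc t, mul_assoc, (show Commute ν (t * r) from hνc _).mul_pow]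
  obtain ⟨z, hz⟩ : ∃ z, z = (t * s) ^ m := ⟨_, rfl⟩
  obtain ⟨z', hz'⟩ : ∃ z', z' = (t * r) ^ m := ⟨_, rfl⟩
  rw [← hz] at hz1 hzt hzs hpow
  rw [← hz'] at hpow
  have hzy : ap z y₀ = y₀ := hz ▸ pow_fix hfix m
  have hνm : ν ^ m = 1 ∨ ν ^ m = ν := by
    rcases Nat.even_or_odd m with ⟨k, rfl⟩ | ⟨k, rfl⟩
    · exact Or.inl (by rw [← two_mul, pow_mul, pow_two, hν2, one_pow])
    · exact Or.inr (by rw [pow_succ, pow_mul, pow_two, hν2, one_pow, one_mul])
  have hz1' : z' ≠ 1 := fun e0 => by
    rw [e0, mul_one] at hpow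
    rcases hνm with h1 | h1
    · exact hz1 (hpow.trans h1)
    · rw [hpow, h1, hν, neg_eq_iff_add_eq_zero, ← two_smul F, smul_eq_zero] at hzy
      exact hy₀ (hzy.resolve_left h.two)
  have hdown : ∀ u : Grp Q, u * z = z * u → u * z' = z' * u := fun u hu => by
    have hνp : ν ^ m * u = u * ν ^ m := (Commute.pow_left (show Commute ν u from hνc u) m).eq
    refine mul_left_cancel (a := ν ^ m) ?_
    rw [← mul_assoc, hνp, mul_assoc, ← hpow, hu, hpow, mul_assoc]
  have hzr : r * z = z * r := by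
    refine mul_left_cancel (a := ν) ?_
    rw [← mul_assoc, ← hsr, hzs, hsr, ← mul_assoc, ← mul_assoc, hνc z]
  have hzM : z ∈ M := hz ▸ pow_mem (M.mul_mem htM hsM) m
  have hzm : Mono e z := by
    obtain ⟨c, hc⟩ := smul_of_comm_refl h.two hr0 hzr.symm
    exact h.mono_of_axis hall hzM (i := f) ⟨f, c, hc⟩
  have hνmono : Mono e (ν ^ m) := by
    rcases hνm with h1 | h1 <;> rw [h1]
    · exact Frame.mono_one
    · exact fun l => ⟨l, -1, by rw [hν, neg_one_smul]⟩
  have hzm' : Mono e z' := by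
    have h1 : z' = (ν ^ m)⁻¹ * z := by rw [hpow, inv_mul_cancel_left]
    rw [h1]
    exact Frame.mono_mul (h.mono_inv hνmono) hzm
  have hspan : ∀ v, ap z' v - v ∈
      Submodule.span F (({x, y} : Set (ι → F)) ∪ e '' (({f} : Finset (Fin n)) : Set (Fin n))) := by
    refine disp_mem_span h.nd fun v hv => ?_
    have hrv : ap r v = v := refl_fix hr0 (hv (e f) (Or.inr ⟨f, by simp, rfl⟩))
    have h1 : ap (t * r) v = v := by
      rw [ap_mul, hrv, htdef, refl_mul_apply_perp hr hr' (hv x (Or.inl (by simp)))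
        (hv y (Or.inl (by simp)))]
    rw [hz']; exact pow_fix h1 m
  by_cases hout : ∀ o ≠ f, ap z' (e o) = e o
  · left
    obtain ⟨c, hc⟩ := smul_of_comm_refl h.two hr0 (hdown r hzr).symm
    have hc1 : c ≠ 1 := fun e0 => hz1' (by
      by_contra hne
      obtain ⟨o, ho⟩ := h.exists_moved hne
      refine ho ?_
      by_cases hof : o = f
      · rw [hof, hc, e0, one_smul]
      · exact hout o hof)
    refine htdef ▸ h.mono_of_axis hall htM (i := f) ⟨f, co Q e a f (ap t (e f)), h.ext fun l => ?_⟩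
    rw [co_smul, h.co_e]
    split_ifs with hl
    · rw [hl, mul_one]
    rw [mul_zero]
    have h1 : ap z' (ap t (e f)) = c • ap t (e f) := by
      rw [← ap_mul, ← hdown t hzt, ap_mul, hc, ap_smul]
    have h2 : co Q e a l (ap z' (ap t (e f)) - ap t (e f)) = 0 := notMem_supp.1 fun h3 =>
      hl (Finset.mem_singleton.1 (h.supp_disp (S := {f})
        (fun o ho => hout o (by simpa using ho)) _ h3))
    rw [h1, co_sub, co_smul] at h2
    exact (mul_eq_zero.1 (show (c - 1) * co Q e a l (ap t (e f)) = 0 by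
      linear_combination h2)).resolve_left (sub_ne_zero.2 hc1)
  · push Not at hout
    obtain ⟨o, hof, ho⟩ := hout
    obtain ⟨hmir, hco⟩ := h.exists_mir_disp hzm' ho
    obtain ⟨v, hv, hv0, hvs, -⟩ := h.small_vec hall (hspan (e o)) rfl
      (show o ∉ ({f} : Finset (Fin n)) by simpa using hof) hco
    refine Or.inr ⟨v, hv, hv0, (Finset.card_le_card hvs).trans ((Finset.card_union_le _ _).trans ?_)⟩
    have := h.mir_card hmir
    rw [Finset.card_singleton]
    omega

/-- Three coordinates paired with a disjoint vector. -/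
theorem no_three_split {v w : ι → F} {r s : Grp Q} (hr : IsRefl v r) (hs : IsRefl w s)
    (hM : r * s ∈ M) (hv : (supp Q e a v).card = 3)
    (hd : Disjoint (supp Q e a v) (supp Q e a w)) : False := by
  classical
  have hn := h.nine
  have ha := h.a0
  obtain ⟨p, q, o, hpq, hpo, hqo, hV⟩ := Finset.card_eq_three.1 hv
  set N := ∑ m, co Q e a m v * co Q e a m v with hN
  have hQv : Q v = a * N := h.q_eq v
  have hN0 : N ≠ 0 := fun e0 => hr.1 (by rw [hQv, e0, mul_zero])
  have key : ∀ p q o : Fin n, p ≠ q → p ≠ o → q ≠ o → supp Q e a v = {p, q, o} →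
      N = 2 * (co Q e a o v * co Q e a o v) := by
    intro p q o hpq hpo hqo hV
    have hne : ∀ l ∈ ({p, q, o} : Finset (Fin n)), co Q e a l v ≠ 0 := fun l hl =>
      mem_supp.1 (hV ▸ hl)
    obtain ⟨d, hdM, hd'⟩ := h.exists_sign_pair hpq
    have hdw : ap d w = w := h.ext fun l => by
      rw [hd']
      by_cases hl : l ∈ ({p, q} : Finset (Fin n))
      · have hlV : l ∈ supp Q e a v := by
          rw [hV]
          simp only [Finset.mem_insert, Finset.mem_singleton] at hl ⊢
          tauto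
        rw [notMem_supp.1 (Finset.disjoint_left.1 hd hlV), mul_zero]
      · rw [if_neg hl, one_mul]
    have hrel : Rel M v w := ⟨hr.1, hs.1, fun r' s' hr1 hs1 => by
      rwa [refl_unique hr1 hr, refl_unique hs1 hs]⟩
    have hrel' := rel_conj hdM hrel
    rw [hdw] at hrel'
    have hvv : Rel M v (ap d v) := rel_trans h.nd hrel (rel_symm hrel')
    obtain ⟨r', hr'⟩ := exists_refl h.nd (v := ap d v) (by rw [ap_q]; exact hr.1)
    have hsub : supp Q e a (ap d v) ⊆ supp Q e a v := fun l hl => mem_supp.2 fun e0 =>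
      mem_supp.1 hl (by rw [hd', e0, mul_zero])
    have hm : Mono e (r * r') := h.mono_small hall hr hr' (hvv.2.2 r r' hr hr') (by
      rw [Finset.union_eq_left.2 hsub, hv]; omega)
    obtain ⟨u₁, hu₁⟩ : ∃ u₁, u₁ = 2 * co Q e a o v / N := ⟨_, rfl⟩
    have hop : o ∉ ({p, q} : Finset (Fin n)) := by simp [hpo.symm, hqo.symm]
    have h1 : ap r' (e o) = e o - u₁ • ap d v := by
      rw [hr'.2, ap_q, hQv, b_comm, h.b_co, hd', if_neg hop, one_mul, hu₁]
      congr 2
      field_simp
    have h2 : ap (r * r') (e o) =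
        e o - u₁ • ap d v - (u₁ - u₁ * ((Q v)⁻¹ * B v (ap d v))) • v := by
      rw [ap_mul, h1, hr.2, b_sub_right, b_smul_right, b_comm v (e o), h.b_co, hQv, hu₁]
      congr 2
      field_simp
    have hBd : B v (ap d v) = 2 * a * (2 * (co Q e a o v * co Q e a o v) - N) := by
      rw [h.b_eq]
      congr 1
      rw [hN, ← Finset.sum_subset (Finset.subset_univ ({p, q, o} : Finset (Fin n)))
          (fun l _ hl => by rw [notMem_supp.1 (hV ▸ hl), zero_mul]),
        ← Finset.sum_subset (Finset.subset_univ ({p, q, o} : Finset (Fin n)))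
          (fun l _ hl => by rw [notMem_supp.1 (hV ▸ hl), zero_mul]),
        Finset.sum_insert (by simp [hpq, hpo]), Finset.sum_pair hqo,
        Finset.sum_insert (by simp [hpq, hpo]), Finset.sum_pair hqo, hd', hd', hd',
        if_pos (by simp), if_pos (by simp), if_neg hop]
      ring
    obtain ⟨l, c, hl⟩ := hm o
    obtain ⟨u, hu, hul, huo⟩ : ∃ u, u ∈ ({p, q} : Finset (Fin n)) ∧ u ≠ l ∧ u ≠ o := by
      by_cases hlp : p = l
      · exact ⟨q, by simp, fun e0 => hpq (hlp.trans e0.symm), hqo⟩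
      · exact ⟨p, by simp, hlp, hpo⟩
    have h3 := congrArg (co Q e a u) hl
    rw [h2, co_smul, h.co_ne hul, mul_zero, co_sub, co_sub, co_smul, co_smul, hd', if_pos hu,
      h.co_ne huo, hBd, hQv, hu₁] at h3
    have huV : co Q e a u v ≠ 0 := hne u (by
      simp only [Finset.mem_insert, Finset.mem_singleton] at hu ⊢; tauto)
    have hov : co Q e a o v ≠ 0 := hne o (by simp)
    field_simp at h3
    refine mul_left_cancel₀ (mul_ne_zero (mul_ne_zero h.two huV) hov) ?_
    grind
  have eo := key p q o hpq hpo hqo hV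
  have ep := key q o p hqo hpq.symm hpo.symm (by
    rw [hV]; ext l; simp only [Finset.mem_insert, Finset.mem_singleton]; tauto)
  have eq := key p o q hpo hpq hqo.symm (by
    rw [hV]; ext l; simp only [Finset.mem_insert, Finset.mem_singleton]; tauto)
  have hs3 : N = co Q e a p v * co Q e a p v +
      (co Q e a q v * co Q e a q v + co Q e a o v * co Q e a o v) := by
    rw [hN, ← Finset.sum_subset (Finset.subset_univ ({p, q, o} : Finset (Fin n)))
      (fun l _ hl => by rw [notMem_supp.1 (hV ▸ hl), zero_mul]),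
      Finset.sum_insert (by simp [hpq, hpo]), Finset.sum_pair hqo]
  exact hN0 (by linear_combination -(2 : F) * hs3 + eo + ep + eq)

/-- Every pair of orthogonal reflections in the group is monomial. -/
theorem mono_plane {x y : ι → F} {r₁ r₂ : Grp Q} (hr : IsRefl x r₁) (hr' : IsRefl y r₂)
    (hxy : B x y = 0) (hM : r₁ * r₂ ∈ M) : Mono e (r₁ * r₂) := by
  classical
  by_contra hmono
  have hn := h.nine
  have hneg : ∀ w ∈ Submodule.span F ({x, y} : Set (ι → F)), ap (r₁ * r₂) w = -w := fun w hw => by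
    obtain ⟨p, q, rfl⟩ := Submodule.mem_span_pair.1 hw
    obtain ⟨hx1, hy1, -⟩ := pair_plane_apply hr hr' hxy
    rw [ap_add, ap_smul, ap_smul, hx1, hy1]; module
  -- a small vector
  have outside : ∀ S : Finset (Fin n), S.card + 2 ≤ n →
      ∃ c d, c ≠ d ∧ Disjoint S ({c, d} : Finset (Fin n)) := fun S hS => by
    obtain ⟨c, d, hc, hd, hcd⟩ := Finset.one_lt_card_iff.1 (show 1 < (Finset.univ \ S).card by
      rw [Finset.card_sdiff_of_subset (Finset.subset_univ _), Finset.card_univ, Fintype.card_fin]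
      omega)
    refine ⟨c, d, hcd, ?_⟩
    rw [Finset.disjoint_right]
    intro l hl
    simp only [Finset.mem_insert, Finset.mem_singleton] at hl
    rcases hl with rfl | rfl
    exacts [(Finset.mem_sdiff.1 hc).2, (Finset.mem_sdiff.1 hd).2]
  obtain ⟨v₀, hv₀, hv₀0, hv₀6⟩ : ∃ v ∈ Submodule.span F ({x, y} : Set (ι → F)), v ≠ 0 ∧
      (supp Q e a v).card ≤ 6 := by
    rcases h.step_four hall hr hr' hxy hM with h1 | h1 | ⟨i, j, c, σ, hij, hc, hσ, hfix⟩
    · exact absurd h1 hmono
    · exact h1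
    have hp0 : c • (e i + σ • e j) ≠ 0 := fun e0 => by
      have := h.supp_pair hij hc hσ
      rw [e0] at this
      have h1 : i ∈ supp Q e a (0 : ι → F) := by rw [this]; simp
      exact mem_supp.1 h1 (co_zero i)
    rcases h.step_two hall hr hr' hxy hM hij hp0 (Or.inl ⟨hfix, (h.supp_pair hij hc hσ).le⟩) with h1 |
      ⟨z, q, o, -, -, hq, hoE, hqm, hqo, -, -, -, -, hspan⟩
    · exact absurd h1 hmono
    obtain ⟨v, hv, hv0, hvs, -⟩ := h.small_vec hall (hspan (e o)) hq hoE hqo
    refine ⟨v, hv, hv0, (Finset.card_le_card hvs).trans ((Finset.card_union_le _ _).trans ?_)⟩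
    have := h.mir_card hqm
    rw [Finset.card_pair hij]
    omega
  -- with at most four coordinates, three in dimension seven
  obtain ⟨v₁, hv₁, hv₁0, hv₁4⟩ : ∃ v ∈ Submodule.span F ({x, y} : Set (ι → F)), v ≠ 0 ∧
      (supp Q e a v).card + (if n = 7 then 1 else 0) ≤ 4 := by
    by_cases hn7 : n = 7
    · simp only [if_pos hn7]
      obtain ⟨f, -, hf⟩ := Finset.exists_mem_notMem_of_card_lt_card (s := supp Q e a v₀)
        (t := (Finset.univ : Finset (Fin n))) (by rw [Finset.card_univ, Fintype.card_fin]; omega)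
      rcases h.step_one hall hn7 hr hr' hxy hM hv₀0 (hneg _ hv₀) (notMem_supp.1 hf) with h1 |
        ⟨v, hv, hv0, hv3⟩
      · exact absurd h1 hmono
      · exact ⟨v, hv, hv0, by omega⟩
    simp only [if_neg hn7, add_zero]
    obtain ⟨c, d, hcd, hdis⟩ := outside (supp Q e a v₀) (by omega)
    rcases h.step_two hall hr hr' hxy hM hcd hv₀0 (Or.inr ⟨hneg _ hv₀, hdis⟩) with h1 |
      ⟨z, q, o, -, -, hq, hoE, hqm, hqo, -, -, -, -, hspan⟩
    · exact absurd h1 hmono
    obtain ⟨v, hv, hv0, hvs, -⟩ := h.small_vec hall (hspan (e o)) hq hoE hqo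
    refine ⟨v, hv, hv0, (Finset.card_le_card hvs).trans ((Finset.card_union_le _ _).trans ?_)⟩
    have := h.mir_card hqm
    rw [Finset.card_pair hcd]
    omega
  obtain ⟨c, d, hcd, hdis⟩ := outside (supp Q e a v₁) (by split_ifs at hv₁4 <;> omega)
  rcases h.step_two hall hr hr' hxy hM hcd hv₁0 (Or.inr ⟨hneg _ hv₁, hdis⟩) with h1 |
    ⟨z, q, o, -, -, hq, hoE, hqm, hqo, hqd, -, -, -, hspan⟩
  · exact absurd h1 hmono
  obtain ⟨v₂, hv₂, hv₂0, hvs, hvq⟩ := h.small_vec hall (hspan (e o)) hq hoE hqo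
  have h2 := h.mir_card hqm
  by_cases hind : ∀ k : F, v₂ ≠ k • v₁
  · have h1 := (Finset.card_le_card hvs).trans (Finset.card_union_le _ _)
    rw [Finset.card_pair hcd] at h1
    refine hmono (h.mono_of_two hall hr hr' hM hv₁ hv₂ hv₁0 hind ?_)
    have h5 := Finset.card_union_add_card_inter (supp Q e a v₁) (supp Q e a v₂)
    by_contra hfull
    obtain ⟨hn7, h31, hdv⟩ : n = 7 ∧ (supp Q e a v₁).card = 3 ∧
        Disjoint (supp Q e a v₁) (supp Q e a v₂) := by
      rw [Finset.disjoint_iff_inter_eq_empty, ← Finset.card_eq_zero]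
      split_ifs at hv₁4 <;> omega
    have hb : B v₁ v₂ = 0 := by
      rw [h.b_eq]
      refine mul_eq_zero_of_right _ (Finset.sum_eq_zero fun l _ => ?_)
      by_cases hl : l ∈ supp Q e a v₁
      · rw [notMem_supp.1 (Finset.disjoint_left.1 hdv hl), mul_zero]
      · rw [notMem_supp.1 hl, zero_mul]
    have hsp := span_pair_eq hv₁ hv₂ hv₁0 hind
    have aniso : ∀ w w' : ι → F, w ∈ Submodule.span F ({x, y} : Set (ι → F)) → w ≠ 0 →
        Submodule.span F ({w, w'} : Set (ι → F)) = Submodule.span F ({x, y} : Set (ι → F)) →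
        B w w' = 0 → Q w ≠ 0 := by
      intro w w' hw hw0 hsp' hb' hq
      have hx' : ∀ u ∈ Submodule.span F ({x, y} : Set (ι → F)), B w u = 0 := fun u hu => by
        rw [← hsp'] at hu
        obtain ⟨α, β, rfl⟩ := Submodule.mem_span_pair.1 hu
        rw [b_add_right, b_smul_right, b_smul_right, b_self, hq, hb']; ring
      obtain ⟨α, β, rfl⟩ := Submodule.mem_span_pair.1 hw
      have e1 := hx' x (Submodule.subset_span (by simp))
      have e2 := hx' y (Submodule.subset_span (by simp))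
      rw [b_add_left, b_smul_left, b_smul_left, b_comm y x, hxy, mul_zero, add_zero, b_self] at e1
      rw [b_add_left, b_smul_left, b_smul_left, hxy, mul_zero, zero_add, b_self] at e2
      exact hw0 (by rw [(mul_eq_zero.1 e1).resolve_right (mul_ne_zero h.two hr.1),
        (mul_eq_zero.1 e2).resolve_right (mul_ne_zero h.two hr'.1), zero_smul, zero_smul, add_zero])
    obtain ⟨r₃, hr₃⟩ := exists_refl h.nd (aniso v₁ v₂ hv₁ hv₁0 hsp hb)
    obtain ⟨r₄, hr₄⟩ := exists_refl h.nd (aniso v₂ v₁ hv₂ hv₂0 (by rw [Set.pair_comm]; exact hsp)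
      (by rw [b_comm]; exact hb))
    rw [pair_eq_of_mem h.two hr hr' hr₃ hr₄ hxy hb hv₁ hv₂] at hM
    exact h.no_three_split hall hr₃ hr₄ hM h31 hdv
  push Not at hind
  obtain ⟨k, hk⟩ := hind
  have hqv : q = v₂ := h.ext fun l => by
    by_cases hl : l ∈ ({c, d} : Finset (Fin n))
    · rw [notMem_supp.1 (Finset.disjoint_right.1 hqd hl), hk, co_smul,
        notMem_supp.1 (Finset.disjoint_right.1 hdis hl), mul_zero]
    · rw [hvq l hl]
  have hqP : q ∈ Submodule.span F ({x, y} : Set (ι → F)) := hqv ▸ hv₂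
  have htq := hneg q hqP
  rcases hqm with ⟨l, μ, hμ⟩ | ⟨i, j, hij, μ, σ, hσ, hμ⟩
  · have hμ0 : μ ≠ 0 := fun e0 => hqo (by rw [hμ, e0, zero_smul, co_zero])
    refine hmono (h.mono_of_axis hall hM (i := l) ⟨l, -1, ?_⟩)
    rw [hμ, ap_smul, ← smul_neg] at htq
    rw [neg_one_smul]
    exact smul_right_injective _ hμ0 htq
  have hμ0 : μ ≠ 0 := fun e0 => hqo (by rw [hμ, e0, zero_smul, co_zero])
  obtain ⟨p, hpdef⟩ : ∃ p, p = e i + σ • e j := ⟨_, rfl⟩
  rw [← hpdef] at hμ
  have hpP : p ∈ Submodule.span F ({x, y} : Set (ι → F)) := by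
    have := Submodule.smul_mem _ μ⁻¹ hqP
    rwa [hμ, smul_smul, inv_mul_cancel₀ hμ0, one_smul] at this
  have hQp : Q p ≠ 0 := by
    have := h.q_pair hij 1 σ hσ
    rw [one_smul, one_mul, one_mul, ← hpdef] at this
    rw [this]; exact h.two_a
  obtain ⟨r₃, hr₃⟩ := exists_refl h.nd hQp
  -- the vector of the plane orthogonal to the pair
  obtain ⟨α, β, hp⟩ := Submodule.mem_span_pair.1 hpP
  obtain ⟨w, hw⟩ : ∃ w, w = (β * Q y) • x - (α * Q x) • y := ⟨_, rfl⟩
  have hwP : w ∈ Submodule.span F ({x, y} : Set (ι → F)) := hw ▸ sub_mem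
    (Submodule.smul_mem _ _ (Submodule.subset_span (by simp)))
    (Submodule.smul_mem _ _ (Submodule.subset_span (by simp)))
  have hpw : B p w = 0 := by
    rw [← hp, hw]
    simp only [b_add_left, b_sub_right, b_smul_left, b_smul_right, b_self, hxy, b_comm y x]
    ring
  have hQw : Q w ≠ 0 := by
    have e1 : Q w = Q x * Q y * Q p := by
      rw [hw, ← hp, q_sub, q_add, q_smul, q_smul, q_smul, q_smul, b_smul_left, b_smul_left,
        b_smul_right, b_smul_right, hxy]
      ring
    rw [e1]; exact mul_ne_zero (mul_ne_zero hr.1 hr'.1) hQp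
  obtain ⟨r₄, hr₄⟩ := exists_refl h.nd hQw
  have he := pair_eq_of_mem h.two hr hr' hr₃ hr₄ hxy hpw hpP hwP
  rw [he] at hM hmono
  exact hmono (h.mono_pair_plane hall hij hσ (hpdef ▸ hr₃) hr₄ (hpdef ▸ hpw) hM)

/-- The group is monomial. -/
theorem mono_all {g : Grp Q} (hg : g ∈ M) : Mono e g := by
  classical
  have hn := h.nine
  have hqn : ∀ m, Q (ap g (e m)) ≠ 0 := fun m => by rw [ap_q, h.q]; exact h.a0
  have horth : ∀ c d, c ≠ d → B (ap g (e c)) (ap g (e d)) = 0 := fun c d hcd => by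
    rw [ap_b]; exact h.orth c d hcd
  have hpl : ∀ c d, c ≠ d → ∃ r s : Grp Q, IsRefl (ap g (e c)) r ∧ IsRefl (ap g (e d)) s ∧
      Mono e (r * s) := fun c d hcd => by
    obtain ⟨r, s, hr, hs, hrs⟩ := h.conj_rel hall hg (h.rel _ _ (Frame.mir_e c) (Frame.mir_e d)
      (by rw [h.q]; exact h.a0) (by rw [h.q]; exact h.a0) ⟨a, by rw [h.q, h.q]⟩)
    exact ⟨r, s, hr, hs, h.mono_plane hall hr hs (horth c d hcd) hrs⟩
  refine h.mono_of_mir hall hg fun c => ?_
  obtain ⟨d, hd⟩ := Finset.card_pos.1 (show 0 < ((Finset.univ : Finset (Fin n)).erase c).card by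
    rw [Finset.card_erase_of_mem (Finset.mem_univ c), Finset.card_univ, Fintype.card_fin]; omega)
  obtain ⟨r, s, hr, hs, hm⟩ := hpl c d (Ne.symm (Finset.ne_of_mem_erase hd))
  refine h.mir_of_planes hall
    (h.supp_plane hr hs (horth c d (Ne.symm (Finset.ne_of_mem_erase hd))) hm
      (Submodule.subset_span (by simp))).1 (hqn c) ((Finset.univ : Finset (Fin n)).erase c) ?_
    (fun k => ap g (e k)) (fun k _ => hqn k)
    (fun k hk => horth c k (Ne.symm (Finset.ne_of_mem_erase hk)))
    (fun k _ k' _ hne => horth k k' hne)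
    (fun k hk => hpl c k (Ne.symm (Finset.ne_of_mem_erase hk)))
  rw [Finset.card_erase_of_mem (Finset.mem_univ c), Finset.card_univ, Fintype.card_fin]; omega

end Over

end CfsgLib.Orth.FrameMax
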