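import Cfsg.Agent.Lib.Classical.OrthFrameMax.Plane
import Cfsg.Agent.Lib.Classical.OrthFrameMax.Count

set_option autoImplicit false
set_option linter.unusedSectionVars false

/-!
A related vector on three coordinates which is not a mirror yields a unipotent element on those coordinates.
-/

namespace CfsgLib.Orth.FrameMax

open Matrix DecompMax

variable {F : Type*} [Field F] [Finite F] {ι : Type} [Fintype ι] [DecidableEq ι]
variable {Q : QuadraticForm F (ι → F)} {n : ℕ} {e : Fin n → ι → F} {a : F} {M : Subgroup (Grp Q)}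

local notation "B" => QuadraticMap.polar (DFunLike.coe Q)

/-- The span of some members of the frame. -/
def tsp (e : Fin n → ι → F) (T : Finset (Fin n)) : Submodule F (ι → F) :=
  Submodule.span F (e '' (T : Set (Fin n)))

/-- The reflections of related vectors and mirrors in a coordinate subspace. -/
def gam (M : Subgroup (Grp Q)) (e : Fin n → ι → F) (a : F) (T : Finset (Fin n)) : Subgroup (Grp Q) :=
  Subgroup.closure {r | ∃ x, (Wv M e a x ∨ Mir e x) ∧ supp Q e a x ⊆ T ∧ IsRefl x r}

/-- The rotations among them. -/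
noncomputable def rot (hB : Nondeg Q) (M : Subgroup (Grp Q)) (e : Fin n → ι → F) (a : F)
    (T : Finset (Fin n)) : Subgroup (Grp Q) :=
  gam M e a T ⊓ (dickson hB).ker

/-- The action as a linear map. -/
def apl (g : Grp Q) : (ι → F) →ₗ[F] (ι → F) := Matrix.mulVecLin ((g : GL ι F) : Matrix ι ι F)

theorem apl_apply (g : Grp Q) (x : ι → F) : apl g x = ap g x := rfl

theorem exists_fixed_of_pow {p : ℕ} [Fact p.Prime] [CharP F p] {u : Grp Q} (hu : u ^ p = 1)
    (P : Submodule F (ι → F)) (hP : ∀ x ∈ P, ap u x ∈ P) {x : ι → F} (hx : x ∈ P) (hx0 : x ≠ 0) :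
    ∃ y ∈ P, y ≠ 0 ∧ ap u y = y := by
  classical
  obtain ⟨D, hD⟩ : ∃ D : Matrix ι ι F, D = ((u : GL ι F) : Matrix ι ι F) - 1 := ⟨_, rfl⟩
  haveI : Nonempty ι := by
    by_contra hc
    exact hx0 (funext fun i => (hc ⟨i⟩).elim)
  have hDp : D ^ p = 0 := by
    rw [hD, sub_pow_char_of_commute p (Commute.one_right _), one_pow, ← Units.val_pow_eq_pow_val,
      ← SubgroupClass.coe_pow, hu]
    simp
  have hDP : ∀ k : ℕ, D ^ k *ᵥ x ∈ P := fun k => by
    induction k with
    | zero => rwa [pow_zero, Matrix.one_mulVec]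
    | succ k ih =>
      rw [pow_succ', ← Matrix.mulVec_mulVec, hD, Matrix.sub_mulVec, Matrix.one_mulVec]
      rw [hD] at ih
      exact sub_mem (hP _ ih) ih
  have hex : ∃ k, D ^ k *ᵥ x = 0 := ⟨p, by rw [hDp, Matrix.zero_mulVec]⟩
  have hk : Nat.find hex ≠ 0 := fun e0 => hx0 (by
    have := Nat.find_spec hex
    rwa [e0, pow_zero, Matrix.one_mulVec] at this)
  obtain ⟨k, hk'⟩ := Nat.exists_eq_succ_of_ne_zero hk
  refine ⟨_, hDP k, Nat.find_min hex (by omega), ?_⟩
  have h0 := Nat.find_spec hex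
  rw [hk', Nat.succ_eq_add_one, pow_succ', ← Matrix.mulVec_mulVec, hD, Matrix.sub_mulVec,
    Matrix.one_mulVec, sub_eq_zero] at h0
  rw [hD]
  exact h0

namespace Frame

variable (h : Frame Q e a)
include h

theorem mem_tsp {T : Finset (Fin n)} {x : ι → F} : x ∈ tsp e T ↔ supp Q e a x ⊆ T := by
  constructor
  · intro hx l hl
    by_contra hc
    refine mem_supp.1 hl ?_
    clear hl
    induction hx using Submodule.span_induction with
    | mem z hz =>
      obtain ⟨i, hi, rfl⟩ := hz
      exact h.co_ne fun e0 => hc (e0 ▸ hi)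
    | zero => exact co_zero l
    | add p r _ _ hp hr => rw [co_add, hp, hr, add_zero]
    | smul c p _ hp => rw [co_smul, hp, mul_zero]
  · intro hx
    rw [← h.sum_co x]
    refine Submodule.sum_mem _ fun l _ => ?_
    by_cases hl : l ∈ T
    · exact Submodule.smul_mem _ _ (Submodule.subset_span ⟨l, hl, rfl⟩)
    · rw [notMem_supp.1 fun h1 => hl (hx h1), zero_smul]; exact zero_mem _

theorem finrank_V : Module.finrank F (ι → F) = n := by
  have hli : LinearIndependent F e := by
    rw [Fintype.linearIndependent_iff]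
    intro g hg i
    have h1 : co Q e a i (∑ j, g j • e j) = g i := by
      rw [co_sum, Finset.sum_eq_single i (fun j _ hj => by rw [co_smul, h.co_ne hj.symm, mul_zero])
        (fun hi => absurd (Finset.mem_univ i) hi), co_smul, h.co_self, mul_one]
    rw [← h1, hg, co_zero]
  have := finrank_span_eq_card hli
  rw [h.top, finrank_top, Fintype.card_fin] at this
  exact this

theorem finrank_tsp (T : Finset (Fin n)) : Module.finrank F (tsp e T) ≤ T.card := by
  classical
  have h4 := finrank_span_finset_le_card (R := F) (T.image e)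
  rw [Finset.coe_image] at h4
  exact h4.trans Finset.card_image_le

end Frame

namespace Over

variable (h : Over Q e a M)
include h

/-- An element of the group fixing a member of the frame preserves the related vectors. -/
theorem wv_fix {g : Grp Q} (hg : g ∈ M) {o : Fin n} (ho : ap g (e o) = e o) {x : ι → F}
    (hx : Wv M e a x) : Wv M e a (ap g x) := by
  have h1 := rel_conj hg (hx.2 o)
  rw [ho] at h1
  exact h.wv_of_rel (h.wv_e o) h1 (by rw [ap_q]; exact hx.1)

theorem gam_spec {T : Finset (Fin n)} {g : Grp Q} (hg : g ∈ gam M e a T) :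
    (∀ c ∉ T, ap g (e c) = e c) ∧ ∀ x, supp Q e a x ⊆ T → supp Q e a (ap g x) ⊆ T := by
  have gen : ∀ r ∈ {r : Grp Q | ∃ x, (Wv M e a x ∨ Mir e x) ∧ supp Q e a x ⊆ T ∧ IsRefl x r},
      (∀ c ∉ T, ap r (e c) = e c) ∧ ∀ x, supp Q e a x ⊆ T → supp Q e a (ap r x) ⊆ T := by
    rintro r ⟨w, -, hws, hr⟩
    refine ⟨fun c hc => refl_fix hr ?_, fun x hxs => h.supp_refl hr hws hxs⟩
    rw [b_comm, h.b_co, notMem_supp.1 fun h1 => hc (hws h1), mul_zero]
  induction hg using Subgroup.closure_induction'' with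
  | mem r hr => exact gen r hr
  | inv_mem r hr =>
    obtain ⟨w, hw, hws, hr'⟩ := hr
    rw [refl_inv hr']
    exact gen r ⟨w, hw, hws, hr'⟩
  | one => exact ⟨fun c _ => ap_one _, fun x hx => by rwa [ap_one]⟩
  | mul g k _ _ ihg ihk =>
    exact ⟨fun c hc => by rw [ap_mul, ihk.1 c hc, ihg.1 c hc],
      fun x hx => by rw [ap_mul]; exact ihg.2 _ (ihk.2 x hx)⟩

theorem gam_sq {T : Finset (Fin n)} (hT : T.card + 3 ≤ n) {g : Grp Q} (hg : g ∈ gam M e a T) :
    g * g ∈ M := by
  classical
  obtain ⟨S, hS, hS3⟩ := Finset.exists_subset_card_eq (show 3 ≤ (Finset.univ \ T).card by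
    rw [Finset.card_sdiff_of_subset (Finset.subset_univ _), Finset.card_univ, Fintype.card_fin]; omega)
  obtain ⟨o, k, l, hok, hol, hkl, rfl⟩ := Finset.card_eq_three.1 hS3
  have ho : o ∉ T := (Finset.mem_sdiff.1 (hS (by simp))).2
  have hk : k ∉ T := (Finset.mem_sdiff.1 (hS (by simp))).2
  have hl : l ∉ T := (Finset.mem_sdiff.1 (hS (by simp))).2
  have hq2 := h.q_pair hkl 1 1 (one_mul 1)
  simp only [one_smul, one_mul] at hq2
  obtain ⟨ro, hro⟩ := exists_refl h.nd (v := e o) (by rw [h.q]; exact h.a0)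
  obtain ⟨rq, hrq⟩ := exists_refl h.nd (v := e k + e l) (by rw [hq2]; exact h.two_a)
  have mq : Mir e (e k + e l) := Or.inr ⟨k, l, hkl, 1, 1, one_mul 1, by rw [one_smul, one_smul]⟩
  have hcomm : ro * rq = rq * ro := by
    have h1 := refl_conj hrq ro
    rw [refl_fix hro (by rw [b_add_right, h.orth o k hok, h.orth o l hol, add_zero])] at h1
    have h2 := refl_unique h1 hrq
    calc ro * rq = ro * rq * ro⁻¹ * ro := by group
      _ = rq * ro := by rw [h2]
  let C : Subgroup (Grp Q) := Subgroup.closure {ro, rq}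
  have hC2 : ∀ c ∈ C, c * c = 1 ∧ c * ro = ro * c ∧ c * rq = rq * c := by
    intro c hc
    induction hc using Subgroup.closure_induction with
    | mem z hz =>
      rcases hz with rfl | rfl
      · exact ⟨refl_mul_self hro, rfl, hcomm⟩
      · exact ⟨refl_mul_self hrq, hcomm.symm, rfl⟩
    | one => exact ⟨one_mul 1, by rw [one_mul, mul_one], by rw [one_mul, mul_one]⟩
    | mul z z' hz hz' ih ih' =>
      have hc : z' * z = z * z' := by
        clear ih
        induction hz using Subgroup.closure_induction with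
        | mem y hy => rcases hy with rfl | rfl; exacts [ih'.2.1, ih'.2.2]
        | one => rw [one_mul, mul_one]
        | mul y y' _ _ e1 e2 => rw [← mul_assoc, e1, mul_assoc, e2, mul_assoc]
        | inv y _ e1 => exact (Commute.inv_right (show Commute z' y from e1)).eq
      refine ⟨?_, ?_, ?_⟩
      · rw [mul_assoc, ← mul_assoc z', hc, mul_assoc, ih'.1, mul_one, ih.1]
      · rw [mul_assoc, ih'.2.1, ← mul_assoc, ih.2.1, mul_assoc]
      · rw [mul_assoc, ih'.2.2, ← mul_assoc, ih.2.2, mul_assoc]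
    | inv z _ ih =>
      have hz : z⁻¹ = z := inv_eq_of_mul_eq_one_right ih.1
      rw [hz]; exact ih
  have hcen : ∀ c ∈ C, ∀ γ ∈ gam M e a T, γ * c = c * γ := by
    intro c hc γ hγ
    induction hc using Subgroup.closure_induction with
    | mem z hz =>
      have key : ∀ v : ι → F, ∀ r, IsRefl v r → ap γ v = v → γ * r = r * γ := fun v r hr hv => by
        have h1 := refl_conj hr γ
        rw [hv] at h1
        have h2 := refl_unique h1 hr
        calc γ * r = γ * r * γ⁻¹ * γ := by group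
          _ = r * γ := by rw [h2]
      rcases hz with rfl | rfl
      · exact key _ _ hro ((h.gam_spec hγ).1 o ho)
      · exact key _ _ hrq (by rw [ap_add, (h.gam_spec hγ).1 k hk, (h.gam_spec hγ).1 l hl])
    | one => rw [one_mul, mul_one]
    | mul z z' _ _ e1 e2 => rw [← mul_assoc, e1, mul_assoc, e2, mul_assoc]
    | inv z _ e1 => exact (Commute.inv_right (show Commute γ z from e1)).eq
  suffices hex : ∀ γ ∈ gam M e a T, ∃ c ∈ C, γ * c ∈ M by
    obtain ⟨c, hc, hgc⟩ := hex g hg
    have := M.mul_mem hgc hgc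
    rwa [mul_assoc, ← mul_assoc c, ← hcen c hc g hg, mul_assoc, (hC2 c hc).1, mul_one] at this
  have gen : ∀ r ∈ {r : Grp Q | ∃ x, (Wv M e a x ∨ Mir e x) ∧ supp Q e a x ⊆ T ∧ IsRefl x r},
      ∃ c ∈ C, r * c ∈ M := by
    rintro r ⟨x, hx, hxT, hr⟩
    rcases hx with hx | hx
    · exact ⟨ro, Subgroup.subset_closure (by simp), (rel_symm (hx.2 o)).2.2 r ro hr hro⟩
    rcases id hx with ⟨i, c, rfl⟩ | ⟨i, j, hij, c, σ, hσ, rfl⟩
    · exact ⟨ro, Subgroup.subset_closure (by simp), (h.rel _ _ hx (Frame.mir_e o) hr.1 hro.1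
        ⟨c * a, by rw [q_smul, h.q, h.q]; ring⟩).2.2 r ro hr hro⟩
    · exact ⟨rq, Subgroup.subset_closure (by simp), (h.rel _ _ hx mq hr.1 hrq.1
        ⟨c * (2 * a), by rw [h.q_pair hij c σ hσ, hq2]; ring⟩).2.2 r rq hr hrq⟩
  intro γ hγ
  induction hγ using Subgroup.closure_induction'' with
  | mem r hr => exact gen r hr
  | inv_mem r hr =>
    obtain ⟨x, hx, hxT, hr'⟩ := hr
    rw [refl_inv hr']
    exact gen r ⟨x, hx, hxT, hr'⟩
  | one => exact ⟨1, C.one_mem, by rw [mul_one]; exact M.one_mem⟩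
  | mul z z' hz hz' ih ih' =>
    obtain ⟨c, hc, h1⟩ := ih
    obtain ⟨c', hc', h2⟩ := ih'
    refine ⟨c * c', C.mul_mem hc hc', ?_⟩
    have := M.mul_mem h1 h2
    rwa [mul_assoc, ← mul_assoc c, ← hcen c hc z' hz', mul_assoc z', ← mul_assoc z] at this

theorem mem_of_pow {T : Finset (Fin n)} (hT : T.card + 3 ≤ n) {g : Grp Q} (hg : g ∈ gam M e a T)
    {p : ℕ} (hp : Odd p) (hgp : g ^ p = 1) : g ∈ M ∧ dickson h.nd g = 1 := by
  obtain ⟨k, rfl⟩ := hp
  refine ⟨?_, ?_⟩
  · have h1 := pow_mem (h.gam_sq hT hg) (k + 1)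
    rwa [← pow_two, ← pow_mul, show 2 * (k + 1) = 2 * k + 1 + 1 by ring, pow_succ, hgp, one_mul] at h1
  · have h1 := congrArg (dickson h.nd) hgp
    rw [map_pow, map_one, pow_succ, pow_mul, pow_two, Int.units_mul_self, one_pow, one_mul] at h1
    exact h1

/-- The fixed line of a rotation. -/
theorem axis_of_rot {T : Finset (Fin n)} (hT : T.card = 3) {g : Grp Q} (hg : g ∈ rot h.nd M e a T)
    (hg1 : g ≠ 1) : ∃ v, v ≠ 0 ∧ v ∈ tsp e T ∧ ap g v = v ∧
      ∀ x ∈ tsp e T, ap g x = x → ∃ c : F, x = c • v := by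
  classical
  obtain ⟨hout, -⟩ := h.gam_spec hg.1
  have hne : fixSpace g ≠ ⊤ := fun e0 => hg1 (ext_ap fun v => by
    rw [ap_one]; exact mem_fixSpace.1 (e0 ▸ Submodule.mem_top))
  have hlt : Module.finrank F (fixSpace g) < Module.finrank F (ι → F) := Submodule.finrank_lt hne
  have hd : (-1 : ℤˣ) ^ (Module.finrank F (ι → F) + Module.finrank F (fixSpace g)) = 1 := hg.2
  have hev : Even (Module.finrank F (ι → F) + Module.finrank F (fixSpace g)) := by
    rcases Nat.even_or_odd (Module.finrank F (ι → F) + Module.finrank F (fixSpace g)) with h1 | h1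
    · exact h1
    · rw [h1.neg_one_pow] at hd
      exact absurd hd (by decide)
  have hOle : tsp e (Finset.univ \ T) ≤ fixSpace g := by
    refine Submodule.span_le.2 ?_
    rintro _ ⟨l, hl, rfl⟩
    exact mem_fixSpace.2 (hout l (Finset.mem_sdiff.1 hl).2)
  have hdisj : ∀ x, x ∈ tsp e T → x ∈ tsp e (Finset.univ \ T) → x = 0 := fun x h1 h2 =>
    h.eq_zero fun l => notMem_supp.1 fun hl =>
      (Finset.mem_sdiff.1 (h.mem_tsp.1 h2 hl)).2 (h.mem_tsp.1 h1 hl)
  have hsup : tsp e T ⊔ tsp e (Finset.univ \ T) = ⊤ := by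
    rw [tsp, tsp, ← Submodule.span_union, ← Set.image_union, ← Finset.coe_union,
      Finset.union_sdiff_of_subset (Finset.subset_univ T), Finset.coe_univ, Set.image_univ, h.top]
  -- the two pieces
  have hle : fixSpace g ≤ (fixSpace g ⊓ tsp e T) ⊔ tsp e (Finset.univ \ T) := by
    intro x hx
    obtain ⟨y, hy, z, hz, rfl⟩ := Submodule.mem_sup.1 (hsup ▸ Submodule.mem_top (x := x))
    refine Submodule.add_mem_sup ⟨?_, hy⟩ hz
    have := (fixSpace g).sub_mem hx (hOle hz)
    rwa [add_sub_cancel_right] at this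
  have hA := Submodule.finrank_mono hle
  have hB := Submodule.finrank_sup_add_finrank_inf_eq (fixSpace g ⊓ tsp e T) (tsp e (Finset.univ \ T))
  have hC := h.finrank_tsp (Finset.univ \ T)
  have hDl := h.finrank_tsp T
  have hS := Submodule.finrank_sup_add_finrank_inf_eq (tsp e T) (tsp e (Finset.univ \ T))
  rw [hsup, finrank_top, h.finrank_V] at hS
  have hzero : tsp e T ⊓ tsp e (Finset.univ \ T) = ⊥ :=
    (Submodule.eq_bot_iff _).2 fun x hx => hdisj x hx.1 hx.2
  have hzero' : (fixSpace g ⊓ tsp e T) ⊓ tsp e (Finset.univ \ T) = ⊥ :=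
    (Submodule.eq_bot_iff _).2 fun x hx => hdisj x hx.1.2 hx.2
  have hE : (fixSpace g ⊓ tsp e T) ⊔ tsp e (Finset.univ \ T) ≤ fixSpace g := sup_le inf_le_left hOle
  have hA' := Submodule.finrank_mono hE
  have hcard : (Finset.univ \ T).card = n - 3 := by
    rw [Finset.card_sdiff_of_subset (Finset.subset_univ _), Finset.card_univ, Fintype.card_fin, hT]
  rw [hzero, finrank_bot, add_zero] at hS
  rw [hzero', finrank_bot, add_zero] at hB
  rw [h.finrank_V] at hev hlt
  rw [hcard] at hC
  rw [hT] at hDl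
  rw [Nat.even_iff] at hev
  have hn := h.nine
  have h1 : Module.finrank F (fixSpace g ⊓ tsp e T : Submodule F (ι → F)) = 1 := by omega
  obtain ⟨v, hv0, hv⟩ := finrank_eq_one_iff'.1 h1
  refine ⟨v, fun e0 => hv0 (Subtype.ext e0), v.2.2, mem_fixSpace.1 v.2.1, fun x hx hfx => ?_⟩
  obtain ⟨c, hc⟩ := hv ⟨x, mem_fixSpace.2 hfx, hx⟩
  exact ⟨c, (congrArg Subtype.val hc).symm⟩

/-- A rotation fixing a singular vector. -/
theorem unip_form {T : Finset (Fin n)} (hT : T.card = 3) {g : Grp Q} (hg : g ∈ rot h.nd M e a T)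
    (hg1 : g ≠ 1) {v : ι → F} (hv0 : v ≠ 0) (hvT : v ∈ tsp e T) (hgv : ap g v = v) (hQv : Q v = 0) :
    ∃ (w f : ι → F) (α : F), α ≠ 0 ∧ supp Q e a w ⊆ T ∧ supp Q e a f ⊆ T ∧ Q f = 0 ∧ Q w ≠ 0 ∧
      B v f = 1 ∧ B v w = 0 ∧ B f w = 0 ∧
      (∀ x, supp Q e a x ⊆ T → ∃ p r s : F, x = p • v + r • w + s • f) ∧
      ∀ k : ℕ, ap (g ^ k) v = v ∧ ap (g ^ k) w = w + (-2 * (k : F) * α * Q w) • v ∧
        ap (g ^ k) f = f + ((k : F) * α) • w + (-((k : F) * (k : F)) * (α * α) * Q w) • v := by
  classical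
  obtain ⟨v', hv'0, hv'T, hgv', huniq⟩ := h.axis_of_rot hT hg hg1
  obtain ⟨cv, hcv⟩ := huniq v hvT hgv
  have hline : ∀ x ∈ tsp e T, ap g x = x → ∃ c : F, x = c • v := fun x hx hfx => by
    obtain ⟨c, hc⟩ := huniq x hx hfx
    have hcv0 : cv ≠ 0 := fun e0 => hv0 (by rw [hcv, e0, zero_smul])
    exact ⟨c / cv, by rw [hc, hcv, smul_smul, div_mul_cancel₀ _ hcv0]⟩
  obtain ⟨hout, hin⟩ := h.gam_spec hg.1
  have hvs := h.mem_tsp.1 hvT
  obtain ⟨l, hl⟩ : (supp Q e a v).Nonempty :=
    Finset.nonempty_iff_ne_empty.2 fun e0 => hv0 (h.supp_eq_empty e0)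
  have hlT : l ∈ T := hvs hl
  have hBl : B v (e l) ≠ 0 := by rw [b_comm, h.b_co]; exact mul_ne_zero h.two_a (mem_supp.1 hl)
  obtain ⟨f, hf⟩ : ∃ f, f = (B v (e l))⁻¹ • e l - (Q ((B v (e l))⁻¹ • e l)) • v := ⟨_, rfl⟩
  have hvv : B v v = 0 := b_self_zero hQv
  have hBvf : B v f = 1 := by
    rw [hf, b_sub_right, b_smul_right, b_smul_right, hvv, mul_zero, sub_zero, inv_mul_cancel₀ hBl]
  have hQf : Q f = 0 := by
    rw [hf, q_sub, b_smul_right _ _ v, b_smul_left, q_smul (Q ((B v (e l))⁻¹ • e l)) v, hQv, mul_zero,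
      add_zero, b_comm (e l) v, inv_mul_cancel₀ hBl, mul_one, sub_self]
  have hfT : f ∈ tsp e T := hf ▸ sub_mem (Submodule.smul_mem _ _ (Submodule.subset_span ⟨l, hlT, rfl⟩))
    (Submodule.smul_mem _ _ hvT)
  have hff : B f f = 0 := b_self_zero hQf
  -- a vector orthogonal to both
  obtain ⟨w, hwT, hvw, hfw, hw0⟩ : ∃ w ∈ tsp e T, B v w = 0 ∧ B f w = 0 ∧ w ≠ 0 := by
    by_contra hc
    push Not at hc
    have hsub : tsp e T ≤ Submodule.span F ({v, f} : Set (ι → F)) := by
      intro x hx
      have h0 := hc (x - B f x • v - B v x • f)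
        (sub_mem (sub_mem hx (Submodule.smul_mem _ _ hvT)) (Submodule.smul_mem _ _ hfT))
        (by rw [b_sub_right, b_sub_right, b_smul_right, b_smul_right, hvv, hBvf]; ring)
        (by rw [b_sub_right, b_sub_right, b_smul_right, b_smul_right, hff, b_comm f v, hBvf]; ring)
      rw [sub_sub, sub_eq_zero] at h0
      rw [h0]
      exact add_mem (Submodule.smul_mem _ _ (Submodule.subset_span (by simp)))
        (Submodule.smul_mem _ _ (Submodule.subset_span (by simp)))
    have h1 := Submodule.finrank_mono hsub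
    have h4 := finrank_span_finset_le_card (R := F) ({v, f} : Finset (ι → F))
    rw [Finset.coe_insert, Finset.coe_singleton] at h4
    unfold Set.finrank at h4
    have h5 := h4.trans Finset.card_le_two
    have hcl : (Finset.univ \ T).card = n - 3 := by
      rw [Finset.card_sdiff_of_subset (Finset.subset_univ _), Finset.card_univ, Fintype.card_fin, hT]
    have hS := Submodule.finrank_sup_add_finrank_inf_eq (tsp e T) (tsp e (Finset.univ \ T))
    have hC := h.finrank_tsp (Finset.univ \ T)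
    rw [show tsp e T ⊔ tsp e (Finset.univ \ T) = ⊤ by
      rw [tsp, tsp, ← Submodule.span_union, ← Set.image_union, ← Finset.coe_union,
        Finset.union_sdiff_of_subset (Finset.subset_univ T), Finset.coe_univ, Set.image_univ, h.top],
      finrank_top, h.finrank_V, (Submodule.eq_bot_iff (tsp e T ⊓ tsp e (Finset.univ \ T))).2
        fun x hx => h.eq_zero fun m => notMem_supp.1 fun hm =>
          (Finset.mem_sdiff.1 (h.mem_tsp.1 hx.2 hm)).2 (h.mem_tsp.1 hx.1 hm),
      finrank_bot, hcl] at *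
    have := h.nine
    omega
  have hQw : Q w ≠ 0 := by
    intro hQw
    have hli : LinearIndependent F ![v, f, w] := by
      rw [Fintype.linearIndependent_iff]
      intro g' hg'
      simp only [Fin.sum_univ_three, Matrix.cons_val_zero, Matrix.cons_val_one, Matrix.cons_val_two,
        Matrix.head_cons, Matrix.tail_cons] at hg'
      have e0 := congrArg (fun z => B f z) hg'
      have e1 := congrArg (fun z => B v z) hg'
      simp only [b_add_right, b_smul_right, b_zero_right, b_comm f v, hBvf, hff, hfw, hvv, hvw,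
        mul_zero, mul_one, add_zero, zero_add] at e0 e1
      rw [e0, e1, zero_smul, zero_smul, zero_add, zero_add, smul_eq_zero] at hg'
      intro i; fin_cases i
      exacts [e0, e1, hg'.resolve_right hw0]
    have hspan : tsp e T ≤ Submodule.span F (Set.range ![v, f, w]) := by
      refine (Submodule.eq_of_le_of_finrank_le (Submodule.span_le.2 ?_) ?_).ge
      · rintro _ ⟨i, rfl⟩; fin_cases i
        exacts [hvT, hfT, hwT]
      · rw [finrank_span_eq_card hli, Fintype.card_fin]
        exact (h.finrank_tsp T).trans hT.le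
    obtain ⟨m, hm⟩ : (supp Q e a w).Nonempty :=
      Finset.nonempty_iff_ne_empty.2 fun e0 => hw0 (h.supp_eq_empty e0)
    have hem : e m ∈ Submodule.span F (Set.range ![v, f, w]) :=
      hspan (Submodule.subset_span ⟨m, h.mem_tsp.1 hwT hm, rfl⟩)
    have hzero : B w (e m) = 0 := by
      rw [Submodule.mem_span_range_iff_exists_fun] at hem
      obtain ⟨g', hg'⟩ := hem
      rw [← hg', Fin.sum_univ_three]
      simp only [Matrix.cons_val_zero, Matrix.cons_val_one, Matrix.cons_val_two, Matrix.head_cons,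
        Matrix.tail_cons, b_add_right, b_smul_right, b_comm w v, b_comm w f, hvw, hfw,
        b_self_zero hQw, mul_zero, add_zero]
    rw [b_comm, h.b_co] at hzero
    exact mem_supp.1 hm ((mul_eq_zero.1 hzero).resolve_left h.two_a)
  have hww : B w w ≠ 0 := by rw [b_self]; exact mul_ne_zero h.two hQw
  have hdec : ∀ x, supp Q e a x ⊆ T → ∃ p r s : F, x = p • v + r • w + s • f := by
    have hli : LinearIndependent F ![v, w, f] := by
      rw [Fintype.linearIndependent_iff]
      intro g' hg'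
      simp only [Fin.sum_univ_three, Matrix.cons_val_zero, Matrix.cons_val_one, Matrix.cons_val_two,
        Matrix.head_cons, Matrix.tail_cons] at hg'
      have e0 := congrArg (fun z => B f z) hg'
      have e1 := congrArg (fun z => B w z) hg'
      have e2 := congrArg (fun z => B v z) hg'
      simp only [b_add_right, b_smul_right, b_zero_right, b_comm f v, b_comm w v, b_comm w f, hBvf,
        hff, hfw, hvv, hvw, mul_zero, mul_one, add_zero, zero_add] at e0 e1 e2
      intro i; fin_cases i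
      exacts [e0, (mul_eq_zero.1 e1).resolve_right hww, e2]
    intro x hx
    have hx' : x ∈ Submodule.span F (Set.range ![v, w, f]) := by
      refine (Submodule.eq_of_le_of_finrank_le (Submodule.span_le.2 ?_) ?_).ge (h.mem_tsp.2 hx)
      · rintro _ ⟨i, rfl⟩; fin_cases i
        exacts [hvT, hwT, hfT]
      · rw [finrank_span_eq_card hli, Fintype.card_fin]
        exact (h.finrank_tsp T).trans hT.le
    rw [Submodule.mem_span_range_iff_exists_fun] at hx'
    obtain ⟨g', hg'⟩ := hx'
    refine ⟨g' 0, g' 1, g' 2, ?_⟩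
    rw [← hg', Fin.sum_univ_three]
    simp
  obtain ⟨μ, lam, s1, hgw⟩ := hdec (ap g w) (hin w (h.mem_tsp.1 hwT))
  obtain ⟨β, α, s2, hgf⟩ := hdec (ap g f) (hin f (h.mem_tsp.1 hfT))
  have hs1 : s1 = 0 := by
    have := ap_b g v w
    rw [hgv, hgw, b_add_right, b_add_right, b_smul_right, b_smul_right, b_smul_right, hvv, hvw,
      hBvf] at this
    linear_combination this
  rw [hs1, zero_smul, add_zero] at hgw
  have hs2 : s2 = 1 := by
    have := ap_b g v f
    rw [hgv, hgf, b_add_right, b_add_right, b_smul_right, b_smul_right, b_smul_right, hvv, hvw,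
      hBvf] at this
    linear_combination this
  rw [hs2, one_smul] at hgf
  have hlam : lam * lam = 1 := by
    have := ap_q g w
    rw [hgw, q_add, q_smul, q_smul, hQv, b_smul_left, b_smul_right, hvw] at this
    exact mul_right_cancel₀ hQw (by linear_combination this)
  have hμ : μ + lam * α * (2 * Q w) = 0 := by
    have := ap_b g w f
    rw [hgw, hgf] at this
    simp only [b_add_left, b_add_right, b_smul_left, b_smul_right, hvv, hvw, hBvf, b_self,
      b_comm w v, b_comm w f, hfw, mul_zero, mul_one, add_zero, zero_add] at this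
    linear_combination this
  have hβ : β + α * α * Q w = 0 := by
    have := ap_q g f
    rw [hgf, q_add, q_add, q_smul, q_smul, hQv, hQf] at this
    simp only [b_add_left, b_smul_left, b_smul_right, hvw, hBvf, b_comm w f, hfw] at this
    linear_combination this
  have hlam1 : lam = 1 := by
    rcases mul_self_eq_one_iff.1 hlam with h1 | h1
    · exact h1
    exfalso
    obtain ⟨c, hc⟩ := hline (f + (α / 2) • w) (add_mem hfT (Submodule.smul_mem _ _ hwT)) (by
      rw [ap_add, ap_smul, hgw, hgf, h1]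
      have e1 : μ = 2 * α * Q w := by rw [h1] at hμ; linear_combination hμ
      have e2 : β = -(α * α * Q w) := by linear_combination hβ
      rw [e1, e2]
      have := h.two
      match_scalars <;> field_simp <;> ring)
    have hb := congrArg (fun z => B v z) hc
    simp only [b_add_right, b_smul_right, hBvf, hvw, hvv, mul_zero, add_zero] at hb
    exact one_ne_zero hb
  subst hlam1
  have e1 : μ = -2 * α * Q w := by linear_combination hμ
  have e2 : β = -(α * α * Q w) := by linear_combination hβ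
  rw [one_smul, e1] at hgw
  rw [e2] at hgf
  have hα : α ≠ 0 := by
    intro h0
    rw [h0, mul_zero, zero_mul, zero_smul, zero_add] at hgw
    obtain ⟨c, hc⟩ := hline w hwT hgw
    exact hQw (by rw [hc, q_smul, hQv, mul_zero])
  refine ⟨w, f, α, hα, h.mem_tsp.1 hwT, h.mem_tsp.1 hfT, hQf, hQw, hBvf, hvw, hfw, hdec, fun k => ?_⟩
  induction k with
  | zero => simp
  | succ k ih =>
    rw [pow_succ', ap_mul, ap_mul, ap_mul, ih.1, ih.2.1, ih.2.2, hgv]
    refine ⟨rfl, ?_, ?_⟩
    · rw [ap_add, ap_smul, hgw, hgv]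
      push_cast
      module
    · rw [ap_add, ap_add, ap_smul, ap_smul, hgw, hgf, hgv]
      push_cast
      match_scalars <;> ring

/-- A related vector on three coordinates which is not a mirror gives a unipotent rotation. -/
theorem exists_unip {p : ℕ} [Fact p.Prime] [CharP F p] {T : Finset (Fin n)} (hT : T.card = 3)
    {w : ι → F} (hw : Wv M e a w) (hwT : supp Q e a w ⊆ T) (hwm : ¬ Mir e w) :
    ∃ u ∈ M, u ∈ rot h.nd M e a T ∧ u ≠ 1 ∧ u ^ p = 1 := by
  classical
  have hp := Fact.out (p := p.Prime)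
  have hp2 : p ≠ 2 := fun e0 => h.two (by
    subst e0
    exact_mod_cast CharP.cast_eq_zero F 2)
  have hpodd : Odd p := hp.odd_of_ne_two hp2
  have hn := h.nine
  by_contra hno
  push Not at hno
  have hfree : ∀ g ∈ rot h.nd M e a T, g ^ p = 1 → g = 1 := fun g hg hgp =>
    by_contra fun hg1 => hno g (h.mem_of_pow (by omega) hg.1 hpodd hgp).1 hg hg1 hgp
  obtain ⟨i, j, k, hij, hik, hjk, rfl⟩ := Finset.card_eq_three.1 hT
  set T := ({i, j, k} : Finset (Fin n)) with hTdef
  let R := rot h.nd M e a T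
  let X := {L : Submodule F (ι → F) // ∃ v, v ∈ tsp e T ∧ Q v ≠ 0 ∧ L = Submodule.span F {v}}
  have hact : ∀ (g : R) (v : ι → F), v ∈ tsp e T →
      ap (g : Grp Q) v ∈ tsp e T := fun g v hv =>
    h.mem_tsp.2 ((h.gam_spec g.2.1).2 v (h.mem_tsp.1 hv))
  letI : MulAction R X :=
    { smul := fun g L => ⟨L.1.map (apl (g : Grp Q)), by
        obtain ⟨v, hv, hq, hL⟩ := L.2
        refine ⟨ap (g : Grp Q) v, hact g v hv, by rw [ap_q]; exact hq, ?_⟩
        rw [hL, Submodule.map_span, Set.image_singleton, apl_apply]⟩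
      one_smul := fun L => Subtype.ext (by
        show L.1.map (apl ((1 : R) : Grp Q)) = L.1
        have : apl ((1 : R) : Grp Q) = LinearMap.id := LinearMap.ext fun x => ap_one x
        rw [this, Submodule.map_id])
      mul_smul := fun g g' L => Subtype.ext (by
        show L.1.map (apl ((g * g' : R) : Grp Q)) = (L.1.map (apl (g' : Grp Q))).map (apl (g : Grp Q))
        rw [← Submodule.map_comp]
        congr 1
        exact LinearMap.ext fun x => ap_mul _ _ x) }
  have smul_val : ∀ (g : R) (L : X), (g • L).1 = L.1.map (apl (g : Grp Q)) := fun _ _ => rfl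
  let mkX : ∀ v, v ∈ tsp e T → Q v ≠ 0 → X := fun v hv hq => ⟨Submodule.span F {v}, v, hv, hq, rfl⟩
  let E : X → Subgroup R := fun L =>
    { carrier := {g | ∀ x ∈ L.1, ap (g : Grp Q) x = x}
      mul_mem' := fun {g g'} hg hg' x hx => by
        show ap ((g * g' : R) : Grp Q) x = x
        rw [Subgroup.coe_mul, ap_mul, hg' x hx, hg x hx]
      one_mem' := fun x _ => ap_one x
      inv_mem' := fun {g} hg x hx => by
        show ap ((g⁻¹ : R) : Grp Q) x = x
        rw [Subgroup.coe_inv]
        conv_lhs => rw [← hg x hx]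
        rw [ap_inv_ap] }
  have hei : ∀ l ∈ T, e l ∈ tsp e T := fun l hl => Submodule.subset_span ⟨l, hl, rfl⟩
  have hqe : ∀ l, Q (e l) ≠ 0 := fun l => by rw [h.q]; exact h.a0
  let Li : X := mkX (e i) (hei i (by simp [hTdef])) (hqe i)
  -- the axis
  have haxis : ∀ g : R, g ≠ 1 → ∃ L : X, ∀ L' : X, g ∈ E L' ↔ L = L' := by
    intro g hg
    have hg1 : (g : Grp Q) ≠ 1 := fun e0 => hg (Subtype.ext e0)
    obtain ⟨v, hv0, hvT, hgv, huni⟩ := h.axis_of_rot hT g.2 hg1
    have hQv : Q v ≠ 0 := by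
      intro hQv
      obtain ⟨w', f, α, -, -, -, -, -, -, -, -, hdec, hform⟩ := h.unip_form hT g.2 hg1 hv0 hvT hgv hQv
      refine hg1 (hfree _ g.2 (ext_ap fun x => ?_))
      rw [ap_one]
      refine h.ext fun l => ?_
      obtain ⟨hf1, hf2, hf3⟩ := hform p
      rw [CharP.cast_eq_zero] at hf2 hf3
      simp only [mul_zero, zero_mul, neg_zero, zero_smul, add_zero] at hf2 hf3
      obtain ⟨hout, hin⟩ := h.gam_spec (pow_mem g.2.1 p : (g : Grp Q) ^ p ∈ gam M e a T)
      rw [show ap ((g : Grp Q) ^ p) x = x from ?_]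
      conv_lhs => rw [← h.sum_co x]
      rw [ap_sum]
      conv_rhs => rw [← h.sum_co x]
      refine Finset.sum_congr rfl fun m _ => ?_
      rw [ap_smul]
      by_cases hm : m ∈ T
      · obtain ⟨p', r', s', he⟩ := hdec (e m) (by rw [h.supp_e, Finset.singleton_subset_iff]; exact hm)
        rw [he, ap_add, ap_add, ap_smul, ap_smul, ap_smul, hf1, hf2, hf3]
      · rw [hout m hm]
    refine ⟨mkX v hvT hQv, fun L' => ⟨fun hL' => ?_, fun hL' => ?_⟩⟩
    · obtain ⟨v', hv'T, hq', hL'e⟩ := L'.2
      have hgv' : ap (g : Grp Q) v' = v' := hL' v' (hL'e ▸ Submodule.mem_span_singleton_self v')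
      obtain ⟨c, hc⟩ := huni v' hv'T hgv'
      have hc0 : c ≠ 0 := fun e0 => hq' (by rw [hc, e0, zero_smul, QuadraticMap.map_zero])
      refine Subtype.ext ?_
      show Submodule.span F {v} = L'.1
      rw [hL'e, hc, Submodule.span_singleton_smul_eq (IsUnit.mk0 c hc0)]
    · subst hL'
      intro x hx
      obtain ⟨c, rfl⟩ := Submodule.mem_span_singleton.1 hx
      rw [ap_smul, hgv]
  choose axf hax using haxis
  let ax : R → X := fun g => if hg : g = 1 then Li else axf g hg
  have hle : ∀ L : X, E L ≤ MulAction.stabilizer R L := fun L g hg => by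
    rw [MulAction.mem_stabilizer_iff]
    refine Subtype.ext ?_
    rw [smul_val]
    refine le_antisymm ?_ fun x hx => ⟨x, hx, hg x hx⟩
    rintro _ ⟨x, hx, rfl⟩
    rw [apl_apply, hg x hx]; exact hx
  have hsign : ∀ (L : X) (g : R), g • L = L → ∀ v, v ∈ L.1 → Q v ≠ 0 →
      ap (g : Grp Q) v = v ∨ ap (g : Grp Q) v = -v := by
    intro L g hg v hv hq
    obtain ⟨v', -, hq', hL⟩ := L.2
    have h1 : ap (g : Grp Q) v ∈ L.1 := by
      rw [← hg, smul_val]; exact ⟨v, hv, rfl⟩
    rw [hL] at hv h1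
    obtain ⟨c, rfl⟩ := Submodule.mem_span_singleton.1 hv
    obtain ⟨d, hd⟩ := Submodule.mem_span_singleton.1 h1
    have hqq := ap_q (g : Grp Q) (c • v')
    rw [← hd, q_smul, q_smul] at hqq
    have hdd : (d - c) * (d + c) = 0 := mul_right_cancel₀ hq' (by linear_combination hqq)
    rw [← hd]
    rcases mul_eq_zero.1 hdd with e1 | e1
    · exact Or.inl (by rw [sub_eq_zero.1 e1])
    · exact Or.inr (by rw [eq_neg_of_add_eq_zero_left e1, neg_smul])
  have hfixv : ∀ (L : X) (g : R) (v : ι → F), L.1 = Submodule.span F {v} → ap (g : Grp Q) v = v →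
      g ∈ E L := fun L g v hL hv x hx => by
    rw [hL] at hx
    obtain ⟨c, rfl⟩ := Submodule.mem_span_singleton.1 hx
    rw [ap_smul, hv]
  have hidx : ∀ L : X, Nat.card (MulAction.stabilizer R L) ≤ 2 * Nat.card (E L) := by
    intro L
    obtain ⟨v, -, hq, hL⟩ := L.2
    have hvL : v ∈ L.1 := hL ▸ Submodule.mem_span_singleton_self v
    by_cases hs : ∀ g ∈ MulAction.stabilizer R L, ap (g : Grp Q) v = v
    · have : MulAction.stabilizer R L ≤ E L := fun g hg => hfixv L g v hL (hs g hg)
      have := Subgroup.card_le_of_le this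
      omega
    push Not at hs
    obtain ⟨s, hs, hsv⟩ := hs
    have hsv' := (hsign L s hs v hvL hq).resolve_left hsv
    have key : (MulAction.stabilizer R L : Set R) ⊆
        (E L : Set R) ∪ (fun g => s * g) '' (E L : Set R) := fun g hg => by
      rcases hsign L g hg v hvL hq with h1 | h1
      · exact Or.inl (hfixv L g v hL h1)
      · refine Or.inr ⟨s⁻¹ * g, hfixv L _ v hL ?_, mul_inv_cancel_left s g⟩
        rw [Subgroup.coe_mul, Subgroup.coe_inv, ap_mul, h1, ← hsv', ap_inv_ap]
    have h1 := (Set.ncard_le_ncard key (Set.toFinite _)).trans (Set.ncard_union_le _ _)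
    have h2 : ((fun g => s * g) '' (E L : Set R)).ncard = (E L : Set R).ncard :=
      Set.ncard_image_of_injective _ (mul_right_injective s)
    rw [h2, ← Nat.card_coe_set_eq, ← Nat.card_coe_set_eq] at h1
    show Nat.card (MulAction.stabilizer R L : Set R) ≤ 2 * Nat.card (E L : Set R)
    omega
  have hconj : ∀ (g : R) (L : X), Nat.card (E (g • L)) = Nat.card (E L) := by
    intro g L
    have hiff : ∀ k : R, k ∈ E (g • L) ↔ g⁻¹ * k * g ∈ E L := fun k => by
      constructor
      · intro hk x hx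
        have := hk (ap (g : Grp Q) x) (by rw [smul_val]; exact ⟨x, hx, rfl⟩)
        rw [Subgroup.coe_mul, Subgroup.coe_mul, Subgroup.coe_inv, ap_mul, ap_mul, this, ap_inv_ap]
      · intro hk y hy
        rw [smul_val] at hy
        obtain ⟨x, hx, rfl⟩ := hy
        have := hk x hx
        rw [Subgroup.coe_mul, Subgroup.coe_mul, Subgroup.coe_inv, ap_mul, ap_mul] at this
        have h2 := congrArg (ap (g : Grp Q)) this
        rwa [ap_ap_inv] at h2
    exact Nat.card_congr
      { toFun := fun k => ⟨g⁻¹ * k.1 * g, (hiff k.1).1 k.2⟩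
        invFun := fun k => ⟨g * k.1 * g⁻¹, (hiff _).2 (by
          rw [show g⁻¹ * (g * k.1 * g⁻¹) * g = k.1 by group]; exact k.2)⟩
        left_inv := fun k => Subtype.ext (show g * (g⁻¹ * k.1 * g) * g⁻¹ = k.1 by group)
        right_inv := fun k => Subtype.ext (show g⁻¹ * (g * k.1 * g⁻¹) * g = k.1 by group) }
  -- reflections in members and pairs
  have mkR : ∀ x y r s, (Wv M e a x ∨ Mir e x) → (Wv M e a y ∨ Mir e y) → supp Q e a x ⊆ T →
      supp Q e a y ⊆ T → IsRefl x r → IsRefl y s → r * s ∈ R := fun x y r s hx hy hxT hyT hr hs =>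
    ⟨mul_mem (Subgroup.subset_closure ⟨x, hx, hxT, hr⟩) (Subgroup.subset_closure ⟨y, hy, hyT, hs⟩),
      show r * s ∈ (dickson h.nd).ker from
        MonoidHom.mem_ker.2 (by rw [map_mul, dickson_refl h.nd hr, dickson_refl h.nd hs]; rfl)⟩
  have hpair : ∀ u v : Fin n, u ≠ v → u ∈ T → v ∈ T →
      supp Q e a (e u + e v) ⊆ T ∧ Mir e (e u + e v) ∧ Q (e u + e v) = 2 * a := by
    intro u v huv hu hv
    refine ⟨(supp_add_le _ _).trans (Finset.union_subset ?_ ?_),
      Or.inr ⟨u, v, huv, 1, 1, one_mul 1, by rw [one_smul, one_smul]⟩, ?_⟩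
    · rw [h.supp_e, Finset.singleton_subset_iff]; exact hu
    · rw [h.supp_e, Finset.singleton_subset_iff]; exact hv
    · rw [q_add, h.q, h.q, h.orth u v huv]; ring
  have hse : ∀ l ∈ T, supp Q e a (e l) ⊆ T := fun l hl => by
    rw [h.supp_e, Finset.singleton_subset_iff]; exact hl
  have hiT : i ∈ T := by simp [hTdef]
  have hjT : j ∈ T := by simp [hTdef]
  have hkT : k ∈ T := by simp [hTdef]
  -- the turn sending one member to another
  have turn : ∀ u v o : Fin n, u ≠ v → u ≠ o → v ≠ o → u ∈ T → v ∈ T → o ∈ T →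
      ∃ g : R, ap (g : Grp Q) (e u) = -e v := by
    intro u v o huv huo hvo hu hv ho
    obtain ⟨h1, h2, h3⟩ := hpair u v huv hu hv
    obtain ⟨r, hr⟩ := exists_refl h.nd (v := e u + e v) (by rw [h3]; exact h.two_a)
    obtain ⟨s, hs⟩ := exists_refl h.nd (hqe o)
    refine ⟨⟨r * s, mkR _ _ r s (Or.inr h2) (Or.inr (Frame.mir_e o)) h1 (hse o ho) hr hs⟩, ?_⟩
    show ap (r * s) (e u) = -e v
    rw [ap_mul, refl_fix hs (h.orth o u (Ne.symm huo)), hr.2, h3, b_add_left, h.b_e, h.b_e,
      if_pos rfl, if_neg huv.symm, add_zero, inv_mul_cancel₀ h.two_a, one_smul]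
    abel
  have hfour : 4 ∣ Nat.card (E Li) := by
    obtain ⟨h1, h2, h3⟩ := hpair j k hjk hjT hkT
    obtain ⟨r, hr⟩ := exists_refl h.nd (hqe j)
    obtain ⟨s, hs⟩ := exists_refl h.nd (v := e j + e k) (by rw [h3]; exact h.two_a)
    let ρ : R := ⟨r * s, mkR _ _ r s (Or.inr (Frame.mir_e j)) (Or.inr h2) (hse j hjT) h1 hr hs⟩
    have hρi : ap (r * s) (e i) = e i := refl_mul_apply_perp hr hs (h.orth j i hij.symm)
      (by rw [b_add_left, h.orth j i hij.symm, h.orth k i hik.symm, add_zero])
    have hsj : ap s (e j) = -e k := by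
      rw [hs.2, h3, b_add_left, h.b_e, h.b_e, if_pos rfl, if_neg hjk.symm, add_zero,
        inv_mul_cancel₀ h.two_a, one_smul]
      abel
    have hsk : ap s (e k) = -e j := by
      rw [hs.2, h3, b_add_left, h.b_e, h.b_e, if_neg hjk, if_pos rfl, zero_add,
        inv_mul_cancel₀ h.two_a, one_smul]
      abel
    have hrk : ap r (e k) = e k := refl_fix hr (h.orth j k hjk)
    have h1j : ap (r * s) (e j) = -e k := by
      rw [ap_mul, hsj, ← neg_one_smul F (e k), ap_smul, hrk]
    have h1k : ap (r * s) (e k) = e j := by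
      rw [ap_mul, hsk, ← neg_one_smul F (e j), ap_smul, refl_self hr, neg_one_smul, neg_neg]
    have hne : ρ ^ 2 ≠ 1 := fun e0 => by
      have := congrArg (fun g : R => ap (g : Grp Q) (e j)) e0
      simp only [pow_two, Subgroup.coe_mul, Subgroup.coe_one, ap_one] at this
      rw [show (ρ : Grp Q) = r * s from rfl, ap_mul (r * s), h1j, ← neg_one_smul F (e k), ap_smul, h1k,
        neg_one_smul] at this
      rw [neg_eq_iff_add_eq_zero, ← two_smul F, smul_eq_zero] at this
      exact this.elim h.two (h.e_ne j)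
    have h4 : ρ ^ 4 = 1 := by
      refine Subtype.ext (ext_ap fun x => ?_)
      rw [SubgroupClass.coe_pow, Subgroup.coe_one, ap_one, show (ρ : Grp Q) = r * s from rfl]
      conv_lhs => rw [← h.sum_co x]
      conv_rhs => rw [← h.sum_co x]
      rw [ap_sum]
      refine Finset.sum_congr rfl fun m _ => ?_
      rw [ap_smul]
      congr 1
      have e4 : ∀ y, ap ((r * s) ^ 4) y = ap (r * s) (ap (r * s) (ap (r * s) (ap (r * s) y))) :=
        fun y => by rw [← ap_mul (r * s), ← ap_mul, ← ap_mul]; congr 1; simp only [pow_succ, pow_zero, one_mul, mul_assoc]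
      rw [e4]
      have hneg : ∀ y, ap (r * s) (-y) = -ap (r * s) y := fun y => by
        rw [← neg_one_smul F y, ap_smul, neg_one_smul]
      by_cases hm : m ∈ T
      · simp only [hTdef, Finset.mem_insert, Finset.mem_singleton] at hm
        rcases hm with rfl | rfl | rfl
        · rw [hρi, hρi, hρi, hρi]
        · rw [h1j, hneg, h1k, hneg, h1j, neg_neg, h1k]
        · rw [h1k, h1j, hneg, h1k, hneg, h1j, neg_neg]
      · have := (h.gam_spec ρ.2.1).1 m hm
        rw [show (ρ : Grp Q) = r * s from rfl] at this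
        rw [this, this, this, this]
    have hord : orderOf ρ = 2 ^ 2 := orderOf_eq_prime_pow (p := 2) (n := 1) (by simpa using hne)
      (by simpa using h4)
    have hmem : ρ ∈ E Li := hfixv Li ρ (e i) rfl hρi
    have := Subgroup.orderOf_dvd_natCard (E Li) hmem
    rwa [hord] at this
  have hflip : Nat.card (MulAction.stabilizer R Li) = 2 * Nat.card (E Li) := by
    obtain ⟨r, hr⟩ := exists_refl h.nd (hqe i)
    obtain ⟨s, hs⟩ := exists_refl h.nd (hqe j)
    let g : R := ⟨r * s, mkR _ _ r s (Or.inr (Frame.mir_e i)) (Or.inr (Frame.mir_e j)) (hse i hiT)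
      (hse j hjT) hr hs⟩
    have hgi : ap (r * s) (e i) = -e i := by
      rw [ap_mul, refl_fix hs (h.orth j i hij.symm), refl_self hr]
    have hgs : g ∈ MulAction.stabilizer R Li := by
      rw [MulAction.mem_stabilizer_iff]
      refine Subtype.ext ?_
      rw [smul_val]
      show (Submodule.span F {e i}).map (apl (r * s)) = Submodule.span F {e i}
      rw [Submodule.map_span, Set.image_singleton, apl_apply, hgi, ← Set.neg_singleton, Submodule.span_neg]
    have hgE : g ∉ E Li := fun h1 => by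
      have := h1 (e i) (Submodule.mem_span_singleton_self _)
      rw [show (g : Grp Q) = r * s from rfl, hgi, neg_eq_iff_add_eq_zero, ← two_smul F, smul_eq_zero] at this
      exact this.elim h.two (h.e_ne i)
    obtain ⟨d, hd⟩ := Subgroup.card_dvd_of_le (hle Li)
    have h1 := hidx Li
    have hd1 : d ≠ 1 := fun e0 => hgE (by
      have := Subgroup.eq_of_le_of_card_ge (hle Li) (by rw [hd, e0, mul_one])
      rw [this]; exact hgs)
    have h2 : 0 < Nat.card (MulAction.stabilizer R Li) := Nat.card_pos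
    rw [hd] at h1 h2 ⊢
    have hd2 : d ≤ 2 := by
      by_contra hc
      have := Nat.mul_le_mul_left (Nat.card (E Li)) (show 3 ≤ d by omega)
      omega
    interval_cases d <;> omega
  obtain ⟨gj, hgj⟩ := turn i j k hij hik hjk hiT hjT hkT
  obtain ⟨gk, hgk⟩ := turn i k j hik hij hjk.symm hiT hkT hjT
  let Lj : X := mkX (e j) (hei j hjT) (hqe j)
  let Lk : X := mkX (e k) (hei k hkT) (hqe k)
  have hLj : gj • Li = Lj := Subtype.ext (by
    rw [smul_val]
    show (Submodule.span F {e i}).map _ = Submodule.span F {e j}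
    rw [Submodule.map_span, Set.image_singleton, apl_apply, hgj, ← Set.neg_singleton, Submodule.span_neg])
  have hLk : gk • Li = Lk := Subtype.ext (by
    rw [smul_val]
    show (Submodule.span F {e i}).map _ = Submodule.span F {e k}
    rw [Submodule.map_span, Set.image_singleton, apl_apply, hgk, ← Set.neg_singleton, Submodule.span_neg])
  have hne : ∀ u v : Fin n, u ≠ v → Submodule.span F {e u} ≠ Submodule.span F {e v} := fun u v huv e0 => by
    have : e u ∈ Submodule.span F {e v} := e0 ▸ Submodule.mem_span_singleton_self _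
    obtain ⟨c, hc⟩ := Submodule.mem_span_singleton.1 this
    have h1 := congrArg (co Q e a u) hc
    rw [co_smul, h.co_ne huv, mul_zero, h.co_self] at h1
    exact zero_ne_one h1
  have hsub : ({Li, Lj, Lk} : Set X) ⊆ MulAction.orbit R Li := by
    rintro L (rfl | rfl | rfl)
    exacts [MulAction.mem_orbit_self _, ⟨gj, hLj⟩, ⟨gk, hLk⟩]
  have hcard3 : ({Li, Lj, Lk} : Set X).ncard = 3 := by
    rw [Set.ncard_insert_of_notMem (by
      simp only [Set.mem_insert_iff, Set.mem_singleton_iff]
      rintro (e0 | e0)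
      exacts [hne i j hij (congrArg Subtype.val e0), hne i k hik (congrArg Subtype.val e0)]),
      Set.ncard_pair (fun e0 => hne j k hjk (congrArg Subtype.val e0))]
  haveI : Finite X := Subtype.finite
  have h3le : 3 ≤ Nat.card (MulAction.orbit R Li) := by
    rw [Nat.card_coe_set_eq, ← hcard3]
    exact Set.ncard_le_ncard hsub (Set.toFinite _)
  have h3 := three_axes E ax (fun g L hg => by simp only [ax, dif_neg hg]; exact hax g hg L) hle hidx
    hconj Li hfour hflip h3le
  have horbit : ({Li, Lj, Lk} : Set X) = MulAction.orbit R Li :=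
    Set.eq_of_subset_of_ncard_le hsub (by rw [hcard3, ← Nat.card_coe_set_eq, h3]) (Set.toFinite _)
  have hmono : ∀ g : R, Mono e (g : Grp Q) := by
    intro g l
    by_cases hl : l ∈ T
    swap
    · exact ⟨l, 1, by rw [(h.gam_spec g.2.1).1 l hl, one_smul]⟩
    let Ll : X := mkX (e l) (hei l hl) (hqe l)
    have hLl : Ll ∈ ({Li, Lj, Lk} : Set X) := by
      simp only [hTdef, Finset.mem_insert, Finset.mem_singleton] at hl
      rcases hl with rfl | rfl | rfl
      exacts [Or.inl rfl, Or.inr (Or.inl rfl), Or.inr (Or.inr rfl)]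
    rw [horbit] at hLl
    have hgl : g • Ll ∈ ({Li, Lj, Lk} : Set X) := by
      rw [horbit]
      obtain ⟨g', hg'⟩ := hLl
      exact ⟨g * g', by
        show (g * g') • Li = g • Ll
        rw [mul_smul, show g' • Li = Ll from hg']⟩
    have hmem : ap (g : Grp Q) (e l) ∈ (g • Ll).1 :=
      ⟨e l, Submodule.mem_span_singleton_self _, rfl⟩
    rcases hgl with e0 | e0 | e0 <;> rw [e0] at hmem <;>
      obtain ⟨c, hc⟩ := Submodule.mem_span_singleton.1 hmem <;> exact ⟨_, c, hc.symm⟩
  obtain ⟨r, hr⟩ := exists_refl h.nd (v := w) (by rw [hw.1]; exact h.a0)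
  obtain ⟨s, hs⟩ := exists_refl h.nd (hqe i)
  have hm := Frame.mono_mul (hmono ⟨r * s, mkR _ _ r s (Or.inl hw) (Or.inr (Frame.mir_e i)) hwT
    (hse i hiT) hr hs⟩) (h.mono_refl (Frame.mir_e i) hs)
  rw [mul_assoc, refl_mul_self hs, mul_one] at hm
  exact hwm (h.mir_of_refl hr hm)

end Over

end CfsgLib.Orth.FrameMax
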